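import Cfsg.Agent.Lib.MinNonCA23.Witness

/-!
# Minimal non-CA-groups: abelian Sylow images give `PSL(2,q)` with the arithmetic

Owner: helper23.
-/

set_option autoImplicit false
set_option linter.style.haveILetI false

open Subgroup Matrix

namespace Cfsg.Agent.Lib.MinNonCA23

universe u

variable {G : Type u} [Group G] {F : Type} [Field F]

local notation "SL2" => Matrix.SpecialLinearGroup (Fin 2) F
local notation "M2" => Matrix (Fin 2) (Fin 2) F

/-- Squares of determinant one matrices which are scalar. -/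
theorem trace_eq_zero_of_sq (h2 : (2 : F) ≠ 0) (s : SL2)
    (hs : (s : M2) * (s : M2) = 1 ∨ (s : M2) * (s : M2) = -1) (h1 : ¬ ((s : M2) = 1 ∨ (s : M2) = -1)) :
    (s : M2) 0 0 + (s : M2) 1 1 = 0 := by
  have hdet := Lib.Linear.sl2_det s
  rcases hs with h | h <;>
    [have h00 := congrFun (congrFun h 0) 0; have h00 := congrFun (congrFun h 0) 0] <;>
    have h01 := congrFun (congrFun h 0) 1 <;> have h10 := congrFun (congrFun h 1) 0 <;>
    have h11 := congrFun (congrFun h 1) 1 <;>
    simp [Matrix.mul_apply, Fin.sum_univ_two] at h00 h01 h10 h11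
  · by_contra hne
    have hb : (s : M2) 0 1 = 0 :=
      (mul_eq_zero.1 (show ((s : M2) 0 0 + (s : M2) 1 1) * (s : M2) 0 1 = 0 by
        linear_combination h01)).resolve_left hne
    have hc : (s : M2) 1 0 = 0 :=
      (mul_eq_zero.1 (show ((s : M2) 0 0 + (s : M2) 1 1) * (s : M2) 1 0 = 0 by
        linear_combination h10)).resolve_left hne
    have had : (s : M2) 1 1 = (s : M2) 0 0 :=
      (sub_eq_zero.1 ((mul_eq_zero.1 (show ((s : M2) 0 0 + (s : M2) 1 1) *
        ((s : M2) 1 1 - (s : M2) 0 0) = 0 by linear_combination h11 - h00)).resolve_left hne))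
    apply h1
    rw [hb, zero_mul, add_zero] at h00
    rcases mul_self_eq_one_iff.1 h00 with e | e
    · left; ext i j; fin_cases i <;> fin_cases j <;> simp [hb, hc, had, e]
    · right; ext i j; fin_cases i <;> fin_cases j <;> simp [hb, hc, had, e]
  · have hsum : ((s : M2) 0 0 + (s : M2) 1 1) * ((s : M2) 0 0 + (s : M2) 1 1) = 0 := by
      linear_combination h00 + h11 + 2 * hdet
    exact mul_self_eq_zero.1 hsum

namespace Crit

variable [Finite G] [Fintype F]

/-- With abelian Sylow images there are no diagonal automorphisms. -/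
theorem range_eq_top (P : Sylow 2 G)
    (hcomm : ∀ p ∈ P, ∀ r ∈ P, qc G p * qc G r = qc G r * qc G p) (E : Emb G F) (h2 : (2 : F) ≠ 0)
    (hfp : ∀ x : G ⧸ center G, ∃ M : GL (Fin 2) F, E.Acts x M 1) (x : G ⧸ center G) : x ∈ E.ρ.range := by
  haveI : Fact (Nat.Prime 2) := ⟨Nat.prime_two⟩
  by_contra hx
  obtain ⟨N, hN⟩ := hfp x
  have hns : ¬ IsSquare (N : M2).det := fun ⟨b, hb⟩ => hx (by
    obtain ⟨-, s, hs⟩ := Emb.exists_sl_of_det hb
    exact ⟨s, (E.eq_rho hN hs).symm⟩)
  have hall : ∀ M : GL (Fin 2) F, ∃ y, E.Acts y M 1 := by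
    intro M
    by_cases hM : IsSquare (M : M2).det
    · obtain ⟨b, hb⟩ := hM
      obtain ⟨-, s, hs⟩ := Emb.exists_sl_of_det hb
      exact ⟨E.ρ s, (E.acts_rho s).congr hs⟩
    · obtain ⟨b, hb⟩ := isSquare_mul_of_not hM (fun h => hns (isSquare_inv.1 h))
      obtain ⟨-, s, hs⟩ := Emb.exists_sl_of_det (M := M * N⁻¹) (b := b) (by
        rw [Units.val_mul, Matrix.det_mul, Matrix.coe_units_inv, Matrix.det_nonsing_inv,
          Ring.inverse_eq_inv', hb])
      refine ⟨E.ρ s * x, ((E.acts_rho s).mul_one' hN).congr (b := b) ?_⟩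
      rw [Units.val_mul]
      show (M : M2) = b • ((s : M2) * (N : M2))
      rw [← Matrix.smul_mul, ← hs, Units.val_mul, Matrix.mul_assoc, Units.inv_mul, Matrix.mul_one]
  let MA : GL (Fin 2) F := Matrix.GeneralLinearGroup.mkOfDetNeZero !![1, -1; 1, 1]
    (by rw [det_fin_two_of, one_mul, neg_one_mul, sub_neg_eq_add, one_add_one_eq_two]; exact h2)
  let MD : GL (Fin 2) F := Matrix.GeneralLinearGroup.mkOfDetNeZero !![1, 0; 0, -1]
    (by rw [det_fin_two_of]; simp)
  obtain ⟨a, ha⟩ := hall MA
  obtain ⟨d, hd⟩ := hall MD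
  have hMA : (MA : M2) = !![1, -1; 1, 1] := rfl
  have hMD : (MD : M2) = !![1, 0; 0, -1] := rfl
  have h1 : E.Acts (1 : G ⧸ center G) 1 1 := fun t => by simp
  have hada : a * d * a = d := by
    refine E.eq_of_acts ((ha.mul_one' hd).mul_one' ha) (hd.congr (b := 2) ?_)
    rw [Units.val_mul, Units.val_mul, hMA, hMD]
    ext i j
    fin_cases i <;> fin_cases j <;> simp [Matrix.mul_apply, Fin.sum_univ_two] <;> ring
  have hdd : d * d = 1 := by
    refine E.eq_of_acts (hd.mul_one' hd) (h1.congr (b := 1) ?_)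
    rw [Units.val_mul, hMD]
    ext i j
    fin_cases i <;> fin_cases j <;> simp [Matrix.mul_apply, Fin.sum_univ_two]
  have ha4 : a ^ 2 ^ 2 = 1 := by
    rw [show a ^ 2 ^ 2 = a * a * (a * a) by rw [show 2 ^ 2 = 2 + 2 by norm_num, pow_add, sq]]
    refine E.eq_of_acts ((ha.mul_one' ha).mul_one' (ha.mul_one' ha)) (h1.congr (b := -4) ?_)
    rw [Units.val_mul, Units.val_mul, hMA]
    ext i j
    fin_cases i <;> fin_cases j <;> simp [Matrix.mul_apply, Fin.sum_univ_two] <;> ring
  have hinv : d * a * d⁻¹ = a⁻¹ := by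
    rw [mul_inv_eq_iff_eq_mul]
    exact eq_inv_mul_of_mul_eq (by rw [← mul_assoc, hada])
  have hnorm : zpowers d ≤ normalizer ((zpowers a : Subgroup (G ⧸ center G)) : Set (G ⧸ center G)) := by
    refine zpowers_le.2 (mem_normalizer_iff.2 fun y => ⟨fun hy => ?_, fun hy => ?_⟩)
    · obtain ⟨n, rfl⟩ := mem_zpowers_iff.1 hy
      rw [← conj_zpow, hinv]
      exact zpow_mem (inv_mem (mem_zpowers a)) n
    · obtain ⟨n, hn⟩ := mem_zpowers_iff.1 hy
      have : y = d * a ^ n * d⁻¹ := by
        rw [hn, show d * (d * y * d⁻¹) * d⁻¹ = (d * d) * y * (d * d)⁻¹ by group, hdd, one_mul, inv_one,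
          mul_one]
      rw [this, ← conj_zpow, hinv]
      exact zpow_mem (inv_mem (mem_zpowers a)) n
  obtain ⟨c, -, hc⟩ := exists_conj_into (P.mapSurjective (qc_surjective (G := G))) (C := ⊤) le_top le_top
    (IsPGroup.to_sup_of_normal_left' (isPGroup_zpowers ha4) (isPGroup_of_invol hdd) hnorm)
  obtain ⟨p, hp, hpe⟩ := mem_map.1 (hc a (mem_sup_left (mem_zpowers a)))
  obtain ⟨r, hr, hre⟩ := mem_map.1 (hc d (mem_sup_right (mem_zpowers d)))
  have hcd := hcomm p hp r hr
  rw [hpe, hre] at hcd
  have had := of_conj_commute hcd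
  rw [mul_inv_eq_iff_eq_mul, ← had] at hinv
  have haa : a * a = 1 := by
    calc a * a = a * (a * d) * d⁻¹ := by group
      _ = 1 := by rw [hinv]; group
  have h := ha.mul_one' ha
  rw [haa] at h
  obtain ⟨-, l, hl⟩ := E.acts_unique h1 h
  have := congrFun (congrFun hl 0) 1
  rw [Units.val_mul, hMA] at this
  simp [Matrix.mul_apply, Fin.sum_univ_two] at this
  exact h2 (by linear_combination -this)

/-- Five elements: the centraliser of an involution is a four-group, so there is no witness. -/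
theorem five_absurd (P : Sylow 2 G) (hP : ∀ a ∈ P, ∀ b ∈ P, a * b = b * a) (E : Emb G F)
    (hon : ∀ x, x ∈ E.ρ.range) (h5 : Fintype.card F = 5) {x : G} (hx : Witness x)
    (hx2 : qc G x * qc G x = 1) : False := by
  haveI : Fact (Nat.Prime 2) := ⟨Nat.prime_two⟩
  have h50 : (5 : F) = 0 := by
    have := FiniteField.cast_card_eq_zero F
    rw [h5] at this
    exact_mod_cast this
  have h2 : (2 : F) ≠ 0 := fun h => one_ne_zero (α := F) (by linear_combination h50 - 2 * h)
  obtain ⟨s, hs⟩ := hon (qc G x)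
  have hs1 : ¬ ((s : M2) = 1 ∨ (s : M2) = -1) := fun h => hx.1 (qc_eq_one.1 (by
    rw [← hs]; exact E.eq_one_iff.2 h))
  have hs2 : (s : M2) * (s : M2) = 1 ∨ (s : M2) * (s : M2) = -1 := by
    rw [← Matrix.SpecialLinearGroup.coe_mul, ← E.eq_one_iff, map_mul, hs, hx2]
  obtain ⟨X, hX⟩ := exists_conj_wW s h2 (trace_eq_zero_of_sq h2 s hs2 hs1)
  obtain ⟨g, hg⟩ := qc_surjective (E.ρ X)
  obtain ⟨y, hy⟩ := qc_surjective (E.ρ (wW : SL2))
  have hyw : Witness y := hx.of_qc (g := g) (by
    rw [hy, hg, ← hs, ← map_inv, ← map_mul, ← map_mul, hX, mul_inv_cancel_right])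
  obtain ⟨-, a, b, ha, hb, hab⟩ := hyw
  have hp : IsPGroup 2 (centralizer ({E.ρ (wW : SL2)} : Set (G ⧸ center G))) := by
    rintro ⟨z, hz⟩
    refine ⟨1, Subtype.ext ?_⟩
    show z ^ 2 ^ 1 = 1
    rw [pow_one, sq]
    obtain ⟨t, rfl⟩ := hon z
    rw [← map_mul, E.eq_one_iff, Matrix.SpecialLinearGroup.coe_mul]
    have hdet := Lib.Linear.sl2_det t
    rcases E.commute_iff.1 (mem_centralizer_singleton_iff.1 hz) with h | h
    · have h00 := congrFun (congrFun h 0) 0
      have h01 := congrFun (congrFun h 0) 1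
      simp [wW, coe_mk2, Matrix.mul_apply, Fin.sum_univ_two] at h00 h01
      have hd : (t : M2) 1 1 = (t : M2) 0 0 := by linear_combination h01
      have hcb : (t : M2) 1 0 = -(t : M2) 0 1 := by linear_combination h00
      rw [hd, hcb] at hdet
      have hab0 : (t : M2) 0 0 = 0 ∨ (t : M2) 0 1 = 0 := by
        by_contra hne
        push Not at hne
        have e4 : ∀ r : F, r ≠ 0 → r * r = 1 ∨ r * r = -1 := fun r hr => mul_self_eq_one_iff.1 (by
          have := FiniteField.pow_card_sub_one_eq_one r hr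
          rw [h5] at this
          linear_combination this)
        rcases e4 _ hne.1 with e | e <;> rcases e4 _ hne.2 with e' | e'
        · exact one_ne_zero (α := F) (by linear_combination hdet - e - e')
        · exact one_ne_zero (α := F) (by linear_combination -hdet + e + e')
        · exact one_ne_zero (α := F) (by linear_combination -hdet + e + e')
        · exact h2 (by linear_combination h50 + hdet - e - e')
      rcases hab0 with h0 | h0
      · right
        rw [h0] at hdet
        ext i j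
        fin_cases i <;> fin_cases j <;> simp [Matrix.mul_apply, Fin.sum_univ_two, hd, hcb, h0] <;>
          linear_combination hdet
      · left
        rw [h0] at hdet
        ext i j
        fin_cases i <;> fin_cases j <;> simp [Matrix.mul_apply, Fin.sum_univ_two, hd, hcb, h0] <;>
          linear_combination hdet
    · have h00 := congrFun (congrFun h 0) 0
      have h01 := congrFun (congrFun h 0) 1
      simp [wW, coe_mk2, Matrix.mul_apply, Fin.sum_univ_two] at h00 h01
      have hd : (t : M2) 1 1 = -(t : M2) 0 0 := by linear_combination h01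
      have hcb : (t : M2) 1 0 = (t : M2) 0 1 := by linear_combination h00
      rw [hd, hcb] at hdet
      right
      ext i j
      fin_cases i <;> fin_cases j <;> simp [Matrix.mul_apply, Fin.sum_univ_two, hd, hcb] <;>
        first
          | ring1
          | linear_combination -hdet
          | linear_combination hdet
  refine hab (commute_of_pgroup P hP hp ?_ ?_) <;>
    rw [mem_centralizer_singleton_iff, ← hy, ← map_mul, ← map_mul]
  · rw [ha]
  · rw [hb]

/-- A lift onto the quotient is onto. -/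
theorem lift_surjective (hG : Crit G) (E : Emb G F) (hon : ∀ x, x ∈ E.ρ.range) (φ : SL2 →* G)
    (hφ : ∀ s, qc G (φ s) = E.ρ s) {x : G} (hx : Witness x) : Function.Surjective φ := by
  rw [← MonoidHom.range_eq_top]
  by_contra hK
  have dec : ∀ g : G, ∃ k ∈ φ.range, ∃ c ∈ center G, g = k * c := fun g => by
    obtain ⟨s, hs⟩ := hon (qc G g)
    exact ⟨φ s, ⟨s, rfl⟩, _, qc_eq_iff.1 (by rw [hφ, hs]), (mul_inv_cancel_left _ _).symm⟩
  obtain ⟨hxc, a, b, ha, hb, hab⟩ := hx
  obtain ⟨k, hk, c, hc, rfl⟩ := dec x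
  obtain ⟨ka, hka, ca, hca, rfl⟩ := dec a
  obtain ⟨kb, hkb, cb, hcb, rfl⟩ := dec b
  have strip : ∀ {u v e f : G}, e ∈ center G → f ∈ center G → (u * e) * (v * f) = (v * f) * (u * e) →
      u * v = v * u := by
    intro u v e f he hf h
    have h1 : Commute (u * e * e⁻¹) (v * f * f⁻¹) :=
      (Commute.mul_left (show Commute (u * e) (v * f) from h) (comm_of_center (inv_mem he) _).symm).mul_right
        (comm_of_center (inv_mem hf) _)
    simpa using h1.eq
  refine hxc ?_
  have hkc : k ∈ center G := by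
    rw [mem_center_iff]
    intro g
    obtain ⟨kg, hkg, cg, hcg, rfl⟩ := dec g
    have h1 := hG.central hK hk hka hkb (strip hca hc ha) (strip hcb hc hb)
      (fun h => hab ((Commute.mul_left (Commute.mul_right h (comm_of_center hcb ka))
        (Commute.mul_right (comm_of_center hca kb).symm (comm_of_center hcb ca))).eq)) hkg
    exact ((Commute.mul_left (show Commute kg k from h1) (comm_of_center hcg k).symm)).eq
  exact mul_mem hkc hc

/-- Anticommuting preimages of a four-group have commuting images. -/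
theorem lift_anti (P : Sylow 2 G) (hP : ∀ a ∈ P, ∀ b ∈ P, a * b = b * a) (E : Emb G F) (φ : SL2 →* G)
    (hφ : ∀ s, qc G (φ s) = E.ρ s) (c e : F) (he : c * -c - e * e = 1) :
    φ (mk2 c e e (-c) he) * φ wW = φ wW * φ (mk2 c e e (-c) he) := by
  haveI : Fact (Nat.Prime 2) := ⟨Nat.prime_two⟩
  set R : SL2 := mk2 c e e (-c) he
  have hww : E.ρ (wW : SL2) * E.ρ wW = 1 := by
    rw [← map_mul, E.eq_one_iff]
    right
    ext i j
    fin_cases i <;> fin_cases j <;> simp [wW, coe_mk2, Matrix.mul_apply, Fin.sum_univ_two]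
  have hRR : E.ρ R * E.ρ R = 1 := by
    rw [← map_mul, E.eq_one_iff]
    right
    ext i j
    fin_cases i <;> fin_cases j <;> simp [R, coe_mk2, Matrix.mul_apply, Fin.sum_univ_two] <;>
      first
        | ring1
        | linear_combination -he
  have hwR : E.ρ (wW : SL2) * E.ρ R = E.ρ R * E.ρ wW := by
    rw [E.commute_iff]
    right
    ext i j
    fin_cases i <;> fin_cases j <;> simp [R, wW, coe_mk2, Matrix.mul_apply, Fin.sum_univ_two]
  refine commute_of_pgroup P hP (IsPGroup.to_sup_of_normal_left' (isPGroup_of_invol hww)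
    (isPGroup_of_invol hRR) (zpowers_le_normalizer hwR)) ?_ ?_
  · rw [hφ]; exact mem_sup_right (mem_zpowers _)
  · rw [hφ]; exact mem_sup_left (mem_zpowers _)

/-- The kernel of the lift is the centre. -/
theorem lift_ker (P : Sylow 2 G) (hP : ∀ a ∈ P, ∀ b ∈ P, a * b = b * a) (E : Emb G F)
    (h2 : (2 : F) ≠ 0) (φ : SL2 →* G) (hφ : ∀ s, qc G (φ s) = E.ρ s) : φ.ker = center SL2 := by
  obtain ⟨c, e, hce⟩ := exists_form (1 : F) 0 1 (-1) (by
    intro h
    exact mul_ne_zero h2 h2 (by linear_combination -h))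
  have he : c * -c - e * e = 1 := by linear_combination -hce
  have h := lift_anti P hP E φ hφ c e he
  rw [← map_mul, ← map_mul] at h
  set R : SL2 := mk2 c e e (-c) he
  have hneg : ∀ s : SL2, (s : M2) = -1 → φ s = 1 := by
    intro s hs
    have : s = (wW * R)⁻¹ * (R * wW) := by
      rw [eq_inv_mul_iff_mul_eq]
      refine Subtype.ext ?_
      rw [Matrix.SpecialLinearGroup.coe_mul, hs]
      ext i j
      fin_cases i <;> fin_cases j <;> simp [R, wW, coe_mk2, Matrix.mul_apply, Fin.sum_univ_two]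
    rw [this, map_mul, map_inv, h, inv_mul_cancel]
  refine le_antisymm (fun s hs => ?_) fun s hs => ?_
  · rw [← E.ker, MonoidHom.mem_ker, ← hφ, MonoidHom.mem_ker.1 hs, map_one]
  · rw [← E.ker, MonoidHom.mem_ker, E.eq_one_iff] at hs
    rw [MonoidHom.mem_ker]
    rcases hs with hs | hs
    · rw [show s = 1 from Subtype.ext hs, map_one]
    · exact hneg s hs

end Crit

end Cfsg.Agent.Lib.MinNonCA23
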