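import Cfsg.Agent.Lib.MinNonCA23.Abelian

/-!
# Minimal non-CA-groups: the arithmetic from the subfields

A proper subfield with more than five elements gives a proper subgroup which is not a CA-group.
Owner: helper23.
-/

set_option autoImplicit false
set_option linter.style.haveILetI false

open Subgroup Matrix

namespace Cfsg.Agent.Lib.MinNonCA23

universe u

variable {G : Type u} [Group G] {F : Type} [Field F]

local notation "SL2" => Matrix.SpecialLinearGroup (Fin 2) F
local notation "M2" => Matrix (Fin 2) (Fin 2) F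

namespace Crit

variable [Finite G] [Fintype F]

theorem subfield_absurd (hG : Crit G) (P : Sylow 2 G) (hP : ∀ a ∈ P, ∀ b ∈ P, a * b = b * a)
    (E : Emb G F) (h2 : (2 : F) ≠ 0) (φ : SL2 →* G) (hφ : ∀ s, qc G (φ s) = E.ρ s)
    {p : ℕ} [Fact p.Prime] [CharP F p] {d f : ℕ} (hf : Fintype.card F = p ^ f) (hd : d ∣ f) (hlt : d < f)
    (h7 : 7 ≤ p ^ d) : False := by
  haveI : ExpChar F p := ExpChar.prime (Fact.out : p.Prime)
  set σ : F →+* F := iterateFrobenius F p d with hσd
  have hσ : ∀ x : F, σ x = x ^ p ^ d := fun x => rfl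
  obtain ⟨g, hg⟩ := IsCyclic.exists_generator (α := Fˣ)
  have hord : orderOf g = p ^ f - 1 := by
    rw [orderOf_eq_card_of_forall_mem_zpowers hg, Nat.card_units, Nat.card_eq_fintype_card, hf]
  have hdf : p ^ d < p ^ f := Nat.pow_lt_pow_right (Fact.out : p.Prime).one_lt hlt
  obtain ⟨m, hm⟩ := Nat.pow_sub_one_dvd_pow_sub_one p hd
  have hm0 : 0 < m := by
    rcases Nat.eq_zero_or_pos m with h | h
    · rw [h, mul_zero] at hm; omega
    · exact h
  set k : F := ((g ^ m : Fˣ) : F) with hkdef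
  have hk0 : k ≠ 0 := Units.ne_zero _
  have hkfix : σ k = k := by
    have h : k ^ (p ^ d - 1) = 1 := by
      rw [hkdef, ← Units.val_pow_eq_pow_val, ← pow_mul, mul_comm, ← hm, ← hord, pow_orderOf_eq_one,
        Units.val_one]
    rw [hσ, show p ^ d = p ^ d - 1 + 1 by omega, pow_succ, h, one_mul]
  have hk4 : k ^ 4 ≠ 1 := by
    intro h
    rw [hkdef, ← Units.val_pow_eq_pow_val, Units.val_eq_one, ← pow_mul] at h
    have h1 := orderOf_dvd_of_pow_eq_one h
    rw [hord, hm, mul_comm m 4] at h1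
    have := Nat.le_of_dvd (by norm_num) (Nat.dvd_of_mul_dvd_mul_right hm0 h1)
    omega
  set a : F := (1 - k * k) / (1 + k * k) with hadef
  set b : F := 2 * k / (1 + k * k) with hbdef
  have h1 : 1 + k * k ≠ 0 := fun e => hk4 (by linear_combination (k * k - 1) * e)
  have h3 : 1 - k * k ≠ 0 := fun e => hk4 (by linear_combination (-(k * k) - 1) * e)
  have ha0 : a ≠ 0 := div_ne_zero h3 h1
  have hb0 : b ≠ 0 := div_ne_zero (mul_ne_zero h2 hk0) h1
  have hab : a * a - b * -b = 1 := by
    rw [hadef, hbdef, mul_neg, sub_neg_eq_add, div_mul_div_comm, div_mul_div_comm, ← add_div,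
      div_eq_one_iff_eq (mul_ne_zero h1 h1)]
    ring
  have hafix : σ a = a := by rw [hadef, map_div₀, map_sub, map_add, map_one, map_mul, hkfix]
  have hbfix : σ b = b := by
    rw [hbdef, map_div₀, map_add, map_one, map_mul, map_mul, hkfix, map_ofNat]
  obtain ⟨c₀, e₀, hce⟩ := ZMod.sq_add_sq p (-1 : ZMod p)
  set ι : ZMod p →+* F := ZMod.castHom dvd_rfl F
  have hι : ∀ z, σ (ι z) = ι z := fun z => RingHom.congr_fun (Subsingleton.elim (σ.comp ι) ι) z
  set c := ι c₀
  set e := ι e₀
  have hce' : c * c + e * e = -1 := by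
    have h := congrArg ι hce
    rwa [map_add, map_pow, map_pow, map_neg, map_one, sq, sq] at h
  have he : c * -c - e * e = 1 := by linear_combination -hce'
  set t : SL2 := mk2 a b (-b) a hab
  set R : SL2 := mk2 c e e (-c) he
  let S : Subgroup SL2 := MonoidHom.eqLocus (Matrix.SpecialLinearGroup.map σ) (MonoidHom.id _)
  have memS : ∀ s : SL2, (∀ i j, σ ((s : M2) i j) = (s : M2) i j) → s ∈ S := fun s h =>
    Subtype.ext (by ext i j; exact h i j)
  set H := S.map φ
  have hH : H ≠ ⊤ := by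
    intro htop
    have hmem : φ (uU (g : F)) ∈ H := htop ▸ mem_top _
    obtain ⟨s, hs, hse⟩ := mem_map.1 hmem
    have hρ : E.ρ s = E.ρ (uU (g : F)) := by rw [← hφ, ← hφ, hse]
    have hs01 : σ ((s : M2) 0 1) = (s : M2) 0 1 :=
      congrFun (congrFun (congrArg Subtype.val (show Matrix.SpecialLinearGroup.map σ s = s from hs)) 0) 1
    have hgfix : σ (g : F) = (g : F) := by
      rcases E.eq_iff.1 hρ with h | h
      · have := congrFun (congrFun h 0) 1
        simp [uU, coe_mk2] at this
        rw [this, hs01]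
      · have := congrFun (congrFun h 0) 1
        simp [uU, coe_mk2] at this
        rw [this, map_neg, hs01]
    rw [hσ, ← Units.val_pow_eq_pow_val, Units.val_inj] at hgfix
    have h : g ^ (p ^ d - 1) = 1 := by
      apply mul_right_cancel (b := g)
      rw [← pow_succ, one_mul, show p ^ d - 1 + 1 = p ^ d by omega, hgfix]
    have := Nat.le_of_dvd (by omega) (hord ▸ orderOf_dvd_of_pow_eq_one h)
    omega
  have hxH : φ (wW : SL2) ∈ H := mem_map_of_mem _ (memS _ fun i j => by
    fin_cases i <;> fin_cases j <;> simp [wW, coe_mk2])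
  have htH : φ t ∈ H := mem_map_of_mem _ (memS _ fun i j => by
    fin_cases i <;> fin_cases j <;> simp [t, coe_mk2, hafix, hbfix])
  have hRH : φ R ∈ H := mem_map_of_mem _ (memS _ fun i j => by
    fin_cases i <;> fin_cases j <;> simp [R, coe_mk2, c, e, hι])
  have huH : φ (uU 1 : SL2) ∈ H := mem_map_of_mem _ (memS _ fun i j => by
    fin_cases i <;> fin_cases j <;> simp [uU, coe_mk2])
  have htw : φ t * φ wW = φ wW * φ t := by
    rw [← map_mul, ← map_mul]
    refine congrArg φ (Subtype.ext ?_)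
    ext i j
    fin_cases i <;> fin_cases j <;> simp [t, wW, coe_mk2, Matrix.mul_apply, Fin.sum_univ_two]
  have hne : ∀ s s' : SL2, φ s * φ s' = φ s' * φ s →
      (s' : M2) * (s : M2) = (s : M2) * (s' : M2) ∨ (s' : M2) * (s : M2) = -((s : M2) * (s' : M2)) := by
    intro s s' h
    rw [← E.commute_iff, ← hφ, ← hφ, ← map_mul (qc G), h, map_mul]
  have htR : φ t * φ R ≠ φ R * φ t := by
    intro h
    rcases hne t R h with h | h
    · have e00 := congrFun (congrFun h 0) 0
      have e01 := congrFun (congrFun h 0) 1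
      simp [t, R, coe_mk2, Matrix.mul_apply, Fin.sum_univ_two] at e00 e01
      have he0 : e = 0 := (mul_eq_zero.1 (show (2 * b) * e = 0 by linear_combination -e00)).resolve_left
        (mul_ne_zero h2 hb0)
      have hc0 : c = 0 := (mul_eq_zero.1 (show (2 * b) * c = 0 by linear_combination e01)).resolve_left
        (mul_ne_zero h2 hb0)
      rw [hc0, he0] at hce'
      simp at hce'
    · have e00 := congrFun (congrFun h 0) 0
      have e01 := congrFun (congrFun h 0) 1
      simp [t, R, coe_mk2, Matrix.mul_apply, Fin.sum_univ_two] at e00 e01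
      have hc0 : c = 0 := (mul_eq_zero.1 (show (2 * a) * c = 0 by linear_combination e00)).resolve_left
        (mul_ne_zero h2 ha0)
      have he0 : e = 0 := (mul_eq_zero.1 (show (2 * a) * e = 0 by linear_combination e01)).resolve_left
        (mul_ne_zero h2 ha0)
      rw [hc0, he0] at hce'
      simp at hce'
  have hu := hG.central hH hxH htH hRH htw (lift_anti P hP E φ hφ c e he) htR huH
  rcases hne _ _ hu with h | h
  · have e00 := congrFun (congrFun h 0) 0
    simp [uU, wW, coe_mk2, Matrix.mul_apply, Fin.sum_univ_two] at e00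
  · have e01 := congrFun (congrFun h 0) 1
    simp [uU, wW, coe_mk2, Matrix.mul_apply, Fin.sum_univ_two] at e01
    exact h2 (by linear_combination e01)

end Crit

/-- The arithmetic of `q ≡ ±3 (mod 8)`. -/
theorem not_sixteen_dvd {q : ℕ} (h : q % 8 = 3 ∨ q % 8 = 5) : ¬ 16 ∣ q ^ 2 - 1 := by
  intro hd
  have hq : q ^ 2 % 16 = 9 := by
    rw [Nat.pow_mod]
    rcases (show q % 16 = 3 ∨ q % 16 = 5 ∨ q % 16 = 11 ∨ q % 16 = 13 by omega) with e | e | e | e <;>
      rw [e] <;> norm_num
  omega

theorem odd_exponent {p f : ℕ} (h : p ^ f % 8 = 3 ∨ p ^ f % 8 = 5) : Odd f := by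
  by_contra hf
  obtain ⟨e, rfl⟩ := Nat.not_odd_iff_even.1 hf
  rw [pow_add, Nat.mul_mod] at h
  have key : ∀ r < 8, r * r % 8 ≠ 3 ∧ r * r % 8 ≠ 5 := by decide
  have := key (p ^ e % 8) (Nat.mod_lt _ (by norm_num))
  omega

namespace Crit

variable [Finite G] [Fintype F]

/-- The abelian case. -/
theorem forward_abelian (hG : Crit G) (P : Sylow 2 G)
    (hcomm : ∀ p ∈ P, ∀ r ∈ P, qc G p * qc G r = qc G r * qc G p)
    (hq : Fintype.card F % 8 = 3 ∨ Fintype.card F % 8 = 5) (hq5 : 5 ≤ Fintype.card F)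
    {N : Subgroup (G ⧸ center G)} (hN : Socle G N)
    (e : ↥N ≃* Matrix.ProjectiveSpecialLinearGroup (Fin 2) F) :
    Nonempty (G ≃* Matrix.ProjectiveSpecialLinearGroup (Fin 2) F) ∧
      (((Fintype.card F).Prime ∧ 5 < Fintype.card F ∧ ¬ 16 ∣ Fintype.card F ^ 2 - 1) ∨
        ∃ p : ℕ, p.Prime ∧ p ≠ 2 ∧ (Fintype.card F = 3 ^ p ∨ Fintype.card F = 5 ^ p)) := by
  obtain ⟨E, -⟩ := exists_emb hN e
  have h2 : (2 : F) ≠ 0 := Ring.two_ne_zero fun h => by
    have := FiniteField.even_card_of_char_two h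
    omega
  have h9 : Fintype.card F ≠ 9 := by omega
  have hfp := hG.field_part E (by omega) fun h => absurd h h9
  obtain ⟨x, hx⟩ := hG.exists_witness
  obtain ⟨-, hx2⟩ := hG.witness_invol E (by omega) hfp hx
  have hP := hG.sylow_comm P hcomm hx hx2
  have hon := range_eq_top P hcomm E h2 hfp
  obtain ⟨φ, hφ⟩ := E.exists_phi (by omega) h9
  have hsurj := hG.lift_surjective E hon φ hφ hx
  have hker := lift_ker P hP E h2 φ hφ
  have hne5 : Fintype.card F ≠ 5 := fun h5 => five_absurd P hP E hon h5 hx hx2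
  refine ⟨⟨((QuotientGroup.quotientMulEquivOfEq hker.symm).trans
    (QuotientGroup.quotientKerEquivOfSurjective φ hsurj)).symm⟩, ?_⟩
  obtain ⟨p, hchar⟩ := CharP.exists F
  obtain ⟨n, hp, hn⟩ := FiniteField.card F p
  haveI := Fact.mk hp
  haveI := hchar
  have hodd : Odd (n : ℕ) := odd_exponent (p := p) (by rw [← hn]; exact hq)
  have hp2 : p ≠ 2 := fun e => h2 (by subst e; exact CharP.cast_eq_zero F 2)
  by_cases hn1 : (n : ℕ) = 1
  · left
    rw [hn1, pow_one] at hn
    exact ⟨hn ▸ hp, by omega, not_sixteen_dvd hq⟩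
  right
  have hno : ∀ d, d ∣ (n : ℕ) → d < (n : ℕ) → ¬ 7 ≤ p ^ d := fun d hd hlt h7 =>
    hG.subfield_absurd P hP E h2 φ hφ hn hd hlt h7
  have hn0 : 0 < (n : ℕ) := n.pos
  have hp35 : p = 3 ∨ p = 5 := by
    have h := hno 1 (one_dvd _) (by omega)
    rw [pow_one] at h
    have := hp.two_le
    interval_cases p <;> first | omega | exact absurd hp (by norm_num)
  have hnp : (n : ℕ).Prime := by
    rw [Nat.prime_def_minFac]
    refine ⟨by omega, ?_⟩
    by_contra hne
    have hm := Nat.minFac_prime hn1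
    obtain ⟨d, hd⟩ := Nat.minFac_dvd (n : ℕ)
    have hd3 : 3 ≤ d := by
      have hdodd : Odd d := (Nat.odd_mul.1 (hd ▸ hodd)).2
      rcases hdodd with ⟨l, rfl⟩
      rcases Nat.eq_zero_or_pos l with rfl | hl
      · exact absurd (by conv_rhs => rw [hd]; simp) hne
      · omega
    refine hno d (Dvd.intro_left _ hd.symm) ?_ ?_
    · rw [hd]
      exact lt_mul_of_one_lt_left (by omega) hm.one_lt
    · calc 7 ≤ 3 ^ 3 := by norm_num
        _ ≤ p ^ 3 := Nat.pow_le_pow_left (by omega) 3
        _ ≤ p ^ d := Nat.pow_le_pow_right (by omega) hd3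
  refine ⟨n, hnp, fun e => ?_, ?_⟩
  · rw [e] at hodd
    exact absurd hodd (by decide)
  · rcases hp35 with rfl | rfl
    · exact Or.inl hn
    · exact Or.inr hn

end Crit

end Cfsg.Agent.Lib.MinNonCA23
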