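import Mathlib
import Cfsg.Agent.Lib.OddOrder.FeitThompson

/-!
# Minimal non-CA-groups: first facts

A CA-group has abelian centralisers of non-central elements.  In a non-solvable group all whose proper
subgroups are CA-groups, an element commuting with two non-commuting elements of a proper subgroup is
central in it; normal non-solvable subgroups have central centralisers.  Owner: helper23.
-/

set_option autoImplicit false
set_option linter.style.haveILetI false

namespace Cfsg.Agent.Lib.MinNonCA23

universe u

/-- Non-central elements have abelian centralisers. -/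
def CA (H : Type*) [Group H] : Prop :=
  ∀ x : H, x ∉ Subgroup.center H → IsMulCommutative (Subgroup.centralizer ({x} : Set H))

/-- A non-solvable minimal non-CA-group. -/
structure Crit (G : Type u) [Group G] : Prop where
  nonsolvable : ¬ Group.IsSolvable G
  notCA : ¬ CA G
  proper : ∀ H : Subgroup G, H ≠ ⊤ → CA H

variable {G : Type u} [Group G]

/-- `x` is non-central and has two non-commuting elements in its centraliser. -/
def Witness (x : G) : Prop :=
  x ∉ Subgroup.center G ∧ ∃ a b : G, a * x = x * a ∧ b * x = x * b ∧ a * b ≠ b * a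

namespace Crit

theorem exists_witness (hG : Crit G) : ∃ x : G, Witness x := by
  obtain ⟨x, hx⟩ := not_forall.1 hG.notCA
  obtain ⟨hx, hab⟩ := Classical.not_imp.1 hx
  refine ⟨x, hx, ?_⟩
  by_contra h
  push Not at h
  exact hab ⟨⟨fun a b => Subtype.ext (h a b (Subgroup.mem_centralizer_singleton_iff.1 a.2)
    (Subgroup.mem_centralizer_singleton_iff.1 b.2))⟩⟩

/-- In a proper subgroup, an element commuting with two non-commuting elements is central. -/
theorem central (hG : Crit G) {H : Subgroup G} (hH : H ≠ ⊤) {x a b : G} (hx : x ∈ H) (ha : a ∈ H)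
    (hb : b ∈ H) (hax : a * x = x * a) (hbx : b * x = x * b) (hab : a * b ≠ b * a) {y : G}
    (hy : y ∈ H) : y * x = x * y := by
  by_contra hne
  have hnc : (⟨x, hx⟩ : H) ∉ Subgroup.center H := fun hc =>
    hne (congrArg Subtype.val (Subgroup.mem_center_iff.1 hc ⟨y, hy⟩))
  haveI := hG.proper H hH _ hnc
  have hma : (⟨a, ha⟩ : H) ∈ Subgroup.centralizer ({⟨x, hx⟩} : Set H) :=
    Subgroup.mem_centralizer_singleton_iff.2 (Subtype.ext hax)
  have hmb : (⟨b, hb⟩ : H) ∈ Subgroup.centralizer ({⟨x, hx⟩} : Set H) :=
    Subgroup.mem_centralizer_singleton_iff.2 (Subtype.ext hbx)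
  have h : (⟨⟨a, ha⟩, hma⟩ : Subgroup.centralizer ({⟨x, hx⟩} : Set H)) * ⟨⟨b, hb⟩, hmb⟩ =
      ⟨⟨b, hb⟩, hmb⟩ * ⟨⟨a, ha⟩, hma⟩ := mul_comm' _ _
  exact hab (congrArg Subtype.val (congrArg Subtype.val h))

/-- If something in a proper subgroup moves `x`, elements of it commuting with `x` commute. -/
theorem commute_of_moved (hG : Crit G) {H : Subgroup G} (hH : H ≠ ⊤) {x a b y : G} (hx : x ∈ H)
    (ha : a ∈ H) (hb : b ∈ H) (hy : y ∈ H) (hax : a * x = x * a) (hbx : b * x = x * b)
    (hyx : y * x ≠ x * y) : a * b = b * a := by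
  by_contra hab
  exact hyx (hG.central hH hx ha hb hax hbx hab hy)

theorem ne_top_of_isSolvable (hG : Crit G) {H : Subgroup G} (hH : Group.IsSolvable H) : H ≠ ⊤ := by
  rintro rfl
  haveI := hH
  exact hG.nonsolvable (Group.isSolvable_of_surjective (f := (Subgroup.topEquiv : (⊤ : Subgroup G) ≃* G).toMonoidHom)
    (Subgroup.topEquiv : (⊤ : Subgroup G) ≃* G).surjective)

end Crit

/-- A group with a normal solvable subgroup and solvable quotient is solvable. -/
theorem isSolvable_of_normal (N : Subgroup G) [N.Normal] (hN : Group.IsSolvable N)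
    (hQ : Group.IsSolvable (G ⧸ N)) : Group.IsSolvable G :=
  haveI := hN
  haveI := hQ
  Group.isSolvable_of_ker_le_range N.subtype (QuotientGroup.mk' N)
    (by rw [QuotientGroup.ker_mk', Subgroup.range_subtype])

/-- A finite group with a normal `2`-subgroup of odd index is solvable. -/
theorem isSolvable_of_normal_sylow [Finite G] (P : Sylow 2 G) (hP : (P : Subgroup G).Normal) :
    Group.IsSolvable G := by
  haveI : Fact (Nat.Prime 2) := ⟨Nat.prime_two⟩
  haveI := hP
  haveI := P.isPGroup'.isNilpotent
  refine isSolvable_of_normal (P : Subgroup G) inferInstance ?_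
  refine Lib.OddOrder.FeitThompson.isSolvable_of_odd_card ?_
  rw [← Subgroup.index_eq_card, Nat.odd_iff]
  have := P.not_dvd_index
  omega

/-- **NS**: a non-solvable group has non-abelian Sylow `2`-normalisers. -/
theorem exists_noncomm_normalizer [Finite G] (hG : ¬ Group.IsSolvable G) (P : Sylow 2 G) :
    ∃ a ∈ Subgroup.normalizer ((P : Subgroup G) : Set G),
      ∃ b ∈ Subgroup.normalizer ((P : Subgroup G) : Set G), a * b ≠ b * a := by
  haveI : Fact (Nat.Prime 2) := ⟨Nat.prime_two⟩
  by_contra h
  push Not at h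
  apply hG
  have hle : Subgroup.normalizer ((P : Subgroup G) : Set G) ≤
      Subgroup.centralizer ((P : Subgroup G) : Set G) := fun g hg => by
    rw [Subgroup.mem_centralizer_iff]
    intro x hx
    exact h x (Subgroup.le_normalizer hx) g hg
  set K := (MonoidHom.transferSylow P hle).ker with hK
  have hKs : Group.IsSolvable K := by
    refine Lib.OddOrder.FeitThompson.isSolvable_of_odd_card ?_
    have := MonoidHom.not_dvd_card_ker_transferSylow P hle
    rw [← hK] at this
    rw [Nat.odd_iff]
    omega
  haveI : IsMulCommutative (P : Subgroup G) :=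
    ⟨⟨fun a b => Subtype.ext (h a (Subgroup.le_normalizer a.2) b (Subgroup.le_normalizer b.2))⟩⟩
  refine isSolvable_of_normal K hKs ?_
  have e := QuotientGroup.quotientKerEquivRange (MonoidHom.transferSylow P hle)
  haveI : Group.IsSolvable (P : Subgroup G) := Group.isSolvable_of_comm fun a b => mul_comm' a b
  exact Group.isSolvable_of_isSolvable_injective (f := (Subgroup.subtype _).comp e.toMonoidHom)
    (Subtype.coe_injective.comp e.injective)

/-- Non-commuting elements in the normaliser of a Sylow `2`-subgroup of a non-solvable subgroup. -/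
theorem exists_noncomm_sub [Finite G] (K : Subgroup G) (hK : ¬ Group.IsSolvable K) (P : Sylow 2 K) :
    ∃ a ∈ Subgroup.normalizer (((P : Subgroup K).map K.subtype : Subgroup G) : Set G),
      ∃ b ∈ Subgroup.normalizer (((P : Subgroup K).map K.subtype : Subgroup G) : Set G),
        a ∈ K ∧ b ∈ K ∧ a * b ≠ b * a := by
  obtain ⟨a, ha, b, hb, hab⟩ := exists_noncomm_normalizer hK P
  have h : ∀ c : K, c ∈ Subgroup.normalizer ((P : Subgroup K) : Set K) →
      (c : G) ∈ Subgroup.normalizer (((P : Subgroup K).map K.subtype : Subgroup G) : Set G) :=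
    fun c hc => Subgroup.le_normalizer_map K.subtype (Subgroup.mem_map_of_mem _ hc)
  exact ⟨a, h a ha, b, h b hb, a.2, b.2, fun e => hab (Subtype.ext e)⟩

namespace Crit

/-- A subgroup normalising a Sylow `2`-subgroup of a non-solvable subgroup is proper. -/
theorem normalizer_ne_top [Finite G] (K : Subgroup G) (hK : ¬ Group.IsSolvable K) (P : Sylow 2 K) :
    Subgroup.normalizer (((P : Subgroup K).map K.subtype : Subgroup G) : Set G) ≠ ⊤ := by
  intro htop
  apply hK
  haveI := Subgroup.normalizer_eq_top_iff.1 htop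
  refine isSolvable_of_normal_sylow P ?_
  have h := Subgroup.Normal.subgroupOf (H := (P : Subgroup K).map K.subtype) inferInstance K
  rwa [Subgroup.subgroupOf, Subgroup.comap_map_eq_self_of_injective Subtype.coe_injective] at h

/-- **KL**: a normal non-solvable subgroup has central centraliser. -/
theorem centralizer_le_center [Finite G] (hG : Crit G) (K : Subgroup G) [K.Normal]
    (hK : ¬ Group.IsSolvable K) : Subgroup.centralizer (K : Set G) ≤ Subgroup.center G := by
  haveI : Fact (Nat.Prime 2) := ⟨Nat.prime_two⟩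
  intro c hc
  rw [Subgroup.mem_centralizer_iff] at hc
  obtain ⟨P⟩ : Nonempty (Sylow 2 K) := inferInstance
  set N := Subgroup.normalizer (((P : Subgroup K).map K.subtype : Subgroup G) : Set G)
  obtain ⟨a, ha, b, hb, haK, hbK, hab⟩ := exists_noncomm_sub K hK P
  have hcN : c ∈ N := by
    rw [Subgroup.mem_normalizer_iff]
    intro x
    constructor
    · rintro ⟨k, hk, rfl⟩
      refine ⟨k, hk, ?_⟩
      rw [Subgroup.coe_subtype, ← hc k k.2, mul_inv_cancel_right]
    · rintro ⟨k, hk, hkx⟩
      refine ⟨k, hk, ?_⟩
      rw [Subgroup.coe_subtype] at hkx ⊢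
      calc (k : G) = c⁻¹ * (c * k * c⁻¹) * c := by group
        _ = c⁻¹ * k * c := by rw [← hc k k.2, mul_inv_cancel_right]
        _ = x := by rw [hkx]; group
  have hall : ∀ y ∈ N, y * c = c * y := fun y hy =>
    hG.central (normalizer_ne_top K hK P) hcN ha hb (hc a haK) (hc b hbK) hab hy
  rw [Subgroup.mem_center_iff]
  intro g
  have hg : g ∈ N ⊔ K := by
    rw [Sylow.normalizer_sup_eq_top P]
    exact Subgroup.mem_top g
  obtain ⟨n, hn, k, hk, rfl⟩ := Subgroup.mem_sup_of_normal_right.1 hg
  rw [mul_assoc, hc k hk, ← mul_assoc, hall n hn, mul_assoc]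

end Crit

end Cfsg.Agent.Lib.MinNonCA23
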