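import Cfsg.Agent.Lib.MinNonCA23.Dickson
import Cfsg.Agent.Lib.MinNonCA23.Arith
import Cfsg.Agent.Lib.DicksonId.MaxPSL

/-!
# Minimal non-CA-groups: the converse

`PSL(2,q)` on the list is a minimal non-CA-group.  Owner: helper23.
-/

set_option autoImplicit false
set_option linter.style.haveILetI false

open Subgroup Matrix

namespace Cfsg.Agent.Lib.MinNonCA23

universe u

theorem CA.of_equiv {H K : Type*} [Group H] [Group K] (e : H ≃* K) (hK : CA K) : CA H := by
  intro x hx
  have hex : e x ∉ center K := fun h => hx (mem_center_iff.2 fun y =>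
    e.injective (by rw [map_mul, map_mul, mem_center_iff.1 h (e y)]))
  haveI := hK (e x) hex
  constructor
  constructor
  intro a b
  refine Subtype.ext (e.injective ?_)
  have ha : e (a : H) ∈ centralizer ({e x} : Set K) := mem_centralizer_singleton_iff.2 (by
    rw [← map_mul, ← map_mul, mem_centralizer_singleton_iff.1 a.2])
  have hb : e (b : H) ∈ centralizer ({e x} : Set K) := mem_centralizer_singleton_iff.2 (by
    rw [← map_mul, ← map_mul, mem_centralizer_singleton_iff.1 b.2])
  have h := congrArg Subtype.val (mul_comm' (⟨_, ha⟩ : centralizer ({e x} : Set K)) ⟨_, hb⟩)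
  show e (_ * _) = e (_ * _)
  rw [map_mul, map_mul]
  exact h

theorem ca_dihedral (k : ℕ) : CA (DihedralGroup k) := by
  intro x hx
  constructor
  constructor
  rintro ⟨a, ha⟩ ⟨b, hb⟩
  refine Subtype.ext ?_
  show a * b = b * a
  rw [mem_centralizer_singleton_iff] at ha hb
  rcases x with i | i
  · have hrot : ∀ c : DihedralGroup k, c * .r i = .r i * c → ∃ j, c = .r j := by
      rintro (j | j) h
      · exact ⟨j, rfl⟩
      · exfalso
        rw [DihedralGroup.sr_mul_r, DihedralGroup.r_mul_sr, DihedralGroup.sr.injEq] at h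
        refine hx (mem_center_iff.2 fun y => ?_)
        rcases y with l | l
        · rw [DihedralGroup.r_mul_r, DihedralGroup.r_mul_r, add_comm]
        · rw [DihedralGroup.sr_mul_r, DihedralGroup.r_mul_sr, DihedralGroup.sr.injEq]
          linear_combination h
    obtain ⟨j, rfl⟩ := hrot a ha
    obtain ⟨l, rfl⟩ := hrot b hb
    rw [DihedralGroup.r_mul_r, DihedralGroup.r_mul_r, add_comm]
  · rcases a with j | j <;> rcases b with l | l <;>
      simp only [DihedralGroup.r_mul_r, DihedralGroup.r_mul_sr, DihedralGroup.sr_mul_r,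
        DihedralGroup.sr_mul_sr, DihedralGroup.r.injEq, DihedralGroup.sr.injEq] at ha hb ⊢ <;>
      first
        | linear_combination ha
        | linear_combination -ha
        | linear_combination hb
        | linear_combination -hb
        | linear_combination ha - hb
        | linear_combination hb - ha
        | linear_combination (0 : ZMod k) * ha

variable {F : Type} [Field F] [Fintype F]

local notation "SL2" => Matrix.SpecialLinearGroup (Fin 2) F
local notation "M2" => Matrix (Fin 2) (Fin 2) F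
local notation "PSL2" => Matrix.ProjectiveSpecialLinearGroup (Fin 2) F

omit [Fintype F] in
theorem mk_mul_eq_one_of_trace {s : SL2} (h : Matrix.trace (s : M2) = 0) :
    (s : PSL2) * (s : PSL2) = 1 := by
  rw [← QuotientGroup.mk_mul, ← QuotientGroup.mk_one, eq_comm, AutPSL.mk_eq_mk_iff]
  exact ⟨-1, by rw [Matrix.SpecialLinearGroup.coe_mul, Lib.Linear.sl2_mul_self, h, zero_smul, zero_sub,
    Matrix.SpecialLinearGroup.coe_one, neg_one_smul]⟩

omit [Fintype F] in
/-- Elements other than involutions have abelian centralisers in `PSL(2,q)`. -/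
theorem comm_of_sq_ne (h2 : (2 : F) ≠ 0) {x a b : PSL2} (hx : x * x ≠ 1) (ha : a * x = x * a)
    (hb : b * x = x * b) : a * b = b * a := by
  obtain ⟨s, rfl⟩ := QuotientGroup.mk_surjective x
  have hs : Lib.Linear.NonScalar s := DicksonId.nonScalar_linear_psl fun h => hx (by rw [h, one_mul])
  have key : ∀ t : SL2, (t : PSL2) * (s : PSL2) = (s : PSL2) * (t : PSL2) →
      ∃ a b : F, (t : M2) = a • 1 + b • (s : M2) := by
    intro t ht
    refine Lib.Linear.exists_eq_add_smul_of_commute hs ?_
    rw [← QuotientGroup.mk_mul, ← QuotientGroup.mk_mul, AutPSL.mk_eq_mk_iff] at ht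
    obtain ⟨c, hc⟩ := ht
    rw [Matrix.SpecialLinearGroup.coe_mul, Matrix.SpecialLinearGroup.coe_mul] at hc
    have hd := congrArg Matrix.det hc
    rw [det_smul, det_mul, det_mul, s.det_coe, t.det_coe, Fintype.card_fin, mul_one, mul_one] at hd
    rcases eq_or_eq_neg_of_sq_eq_sq c 1 (by rw [one_pow]; exact hd.symm) with rfl | rfl
    · exact Subtype.ext (by simpa using hc.symm)
    · exfalso
      refine hx (mk_mul_eq_one_of_trace ?_)
      have e1 : Matrix.trace (((t⁻¹ : SL2) : M2) * ((s : M2) * (t : M2))) = Matrix.trace (s : M2) := by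
        rw [Matrix.trace_mul_comm, Matrix.mul_assoc, ← Matrix.SpecialLinearGroup.coe_mul, mul_inv_cancel,
          Matrix.SpecialLinearGroup.coe_one, Matrix.mul_one]
      rw [hc, neg_one_smul, Matrix.mul_neg, ← Matrix.mul_assoc ((t⁻¹ : SL2) : M2),
        ← Matrix.SpecialLinearGroup.coe_mul, inv_mul_cancel,
        Matrix.SpecialLinearGroup.coe_one, Matrix.one_mul, Matrix.trace_neg] at e1
      exact (mul_eq_zero.1 (show (2 : F) * Matrix.trace (s : M2) = 0 by
        linear_combination -e1)).resolve_left h2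
  obtain ⟨t, rfl⟩ := QuotientGroup.mk_surjective a
  obtain ⟨v, rfl⟩ := QuotientGroup.mk_surjective b
  obtain ⟨a₁, b₁, e₁⟩ := key t ha
  obtain ⟨a₂, b₂, e₂⟩ := key v hb
  rw [← QuotientGroup.mk_mul, ← QuotientGroup.mk_mul]
  refine congrArg _ (Subtype.ext ?_)
  show (t : M2) * (v : M2) = (v : M2) * (t : M2)
  rw [e₁, e₂]
  simp only [Matrix.mul_add, Matrix.add_mul, Matrix.mul_smul, Matrix.smul_mul, Matrix.mul_one,
    Matrix.one_mul]
  module

omit [Fintype F] in
/-- A subgroup is a CA-group if centralisers of its involutions are abelian. -/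
theorem ca_of_invol (h2 : (2 : F) ≠ 0) (H : Subgroup PSL2)
    (h : ∀ x ∈ H, x ≠ 1 → x * x = 1 → ∀ a ∈ H, ∀ b ∈ H, a * x = x * a → b * x = x * b → a * b = b * a) :
    CA H := by
  intro x hx
  constructor
  constructor
  rintro ⟨⟨a, haH⟩, ha⟩ ⟨⟨b, hbH⟩, hb⟩
  refine Subtype.ext (Subtype.ext ?_)
  show a * b = b * a
  have ha' : a * (x : PSL2) = x * a := congrArg Subtype.val (mem_centralizer_singleton_iff.1 ha)
  have hb' : b * (x : PSL2) = x * b := congrArg Subtype.val (mem_centralizer_singleton_iff.1 hb)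
  by_cases h1 : (x : PSL2) * x = 1
  · exact h x x.2 (fun e => hx (mem_center_iff.2 fun y => Subtype.ext (by simp [e]))) h1 a haH b hbH ha' hb'
  · exact comm_of_sq_ne h2 h1 ha' hb'

/-- Subgroups all whose elements have order `1`, `2`, `3` or `5` are CA-groups. -/
theorem ca_of_orders (h2 : (2 : F) ≠ 0) (H : Subgroup PSL2)
    (h : ∀ g ∈ H, g ^ 2 = 1 ∨ g ^ 3 = 1 ∨ g ^ 5 = 1) : CA H := by
  refine ca_of_invol h2 H fun x hx hx1 hxx a ha b hb hax hbx => ?_
  have key : ∀ c ∈ H, c * x = x * c → c * c = 1 := by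
    intro c hc hcx
    have hcx' : Commute c x := hcx
    have hx2 : x ^ 2 = 1 := by rw [sq, hxx]
    have hx3 : x ^ 3 = x := by rw [pow_succ, hx2, one_mul]
    have hx5 : x ^ 5 = x := by rw [show 5 = 2 + 3 by norm_num, pow_add, hx2, one_mul, hx3]
    rcases h c hc with e | e | e
    · rwa [← sq]
    · rcases h (c * x) (mul_mem hc hx) with e' | e' | e'
      · rw [hcx'.mul_pow, hx2, mul_one] at e'
        rwa [← sq]
      · exfalso
        rw [hcx'.mul_pow, e, one_mul, hx3] at e'
        exact hx1 e'
      · exfalso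
        rw [hcx'.mul_pow, hx5, show 5 = 3 + 2 by norm_num, pow_add, e, one_mul] at e'
        have h6 : (c ^ 2) ^ 3 = 1 := by rw [← pow_mul, mul_comm, pow_mul, e, one_pow]
        rw [eq_inv_of_mul_eq_one_left e', inv_pow, hx3, inv_eq_one] at h6
        exact hx1 h6
    · rcases h (c * x) (mul_mem hc hx) with e' | e' | e'
      · rw [hcx'.mul_pow, hx2, mul_one] at e'
        rwa [← sq]
      · exfalso
        rw [hcx'.mul_pow, hx3] at e'
        have h15 : (c ^ 3) ^ 5 = 1 := by rw [← pow_mul, mul_comm, pow_mul, e, one_pow]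
        rw [eq_inv_of_mul_eq_one_left e', inv_pow, hx5, inv_eq_one] at h15
        exact hx1 h15
      · exfalso
        rw [hcx'.mul_pow, e, one_mul, hx5] at e'
        exact hx1 e'
  have ha2 := key a ha hax
  have hb2 := key b hb hbx
  have hab := key (a * b) (mul_mem ha hb) (Commute.mul_left hax hbx).eq
  have ei : ∀ {c : PSL2}, c * c = 1 → c⁻¹ = c := fun h => inv_eq_of_mul_eq_one_right h
  calc a * b = (a * b)⁻¹ := (ei hab).symm
    _ = b * a := by rw [_root_.mul_inv_rev, ei ha2, ei hb2]

end Cfsg.Agent.Lib.MinNonCA23
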