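import Cfsg.Agent.Lib.MinNonCA23.Converse

/-!
# Minimal non-CA-groups: `PSL(2,q)` on the list is one

Owner: helper23.
-/

set_option autoImplicit false
set_option linter.style.haveILetI false

open Subgroup Matrix

namespace Cfsg.Agent.Lib.MinNonCA23

universe u

variable {F : Type} [Field F]

local notation "SL2" => Matrix.SpecialLinearGroup (Fin 2) F
local notation "M2" => Matrix (Fin 2) (Fin 2) F
local notation "PSL2" => Matrix.ProjectiveSpecialLinearGroup (Fin 2) F

theorem mk_commute_cases {s t : SL2} (h : (s : PSL2) * (t : PSL2) = (t : PSL2) * (s : PSL2)) :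
    (t : M2) * (s : M2) = (s : M2) * (t : M2) ∨ (t : M2) * (s : M2) = -((s : M2) * (t : M2)) := by
  rw [← QuotientGroup.mk_mul, ← QuotientGroup.mk_mul, AutPSL.mk_eq_mk_iff] at h
  obtain ⟨c, hc⟩ := h
  rw [Matrix.SpecialLinearGroup.coe_mul, Matrix.SpecialLinearGroup.coe_mul] at hc
  have hd := congrArg Matrix.det hc
  rw [det_smul, det_mul, det_mul, s.det_coe, t.det_coe, Fintype.card_fin, mul_one, mul_one] at hd
  rcases eq_or_eq_neg_of_sq_eq_sq c 1 (by rw [one_pow]; exact hd.symm) with rfl | rfl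
  · exact Or.inl (by rw [hc, one_smul])
  · exact Or.inr (by rw [hc, neg_one_smul])

variable [Fintype F]

/-- A non-central involution with non-commuting elements in its centraliser. -/
theorem exists_witness_psl (h2 : (2 : F) ≠ 0) (hq : 5 < Fintype.card F) :
    ∃ x a b y : PSL2, a * x = x * a ∧ b * x = x * b ∧ a * b ≠ b * a ∧ y * x ≠ x * y := by
  obtain ⟨a, b, ha, hb, hab⟩ := exists_circle h2 hq
  obtain ⟨c, e, hce⟩ := exists_form (1 : F) 0 1 (-1) (by
    intro h
    exact mul_ne_zero h2 h2 (by linear_combination -h))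
  set t : SL2 := mk2 a b (-b) a (by linear_combination hab) with ht
  set R : SL2 := mk2 c e e (-c) (by linear_combination -hce) with hR
  refine ⟨(wW : SL2), t, R, (uU 1 : SL2), ?_, ?_, fun h => ?_, fun h => ?_⟩
  · rw [← QuotientGroup.mk_mul, ← QuotientGroup.mk_mul]
    refine congrArg _ (Subtype.ext ?_)
    ext i j
    fin_cases i <;> fin_cases j <;> simp [t, wW, coe_mk2, Matrix.mul_apply, Fin.sum_univ_two]
  · rw [← QuotientGroup.mk_mul, ← QuotientGroup.mk_mul, AutPSL.mk_eq_mk_iff]
    refine ⟨-1, ?_⟩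
    ext i j
    fin_cases i <;> fin_cases j <;> simp [R, wW, coe_mk2, Matrix.mul_apply, Fin.sum_univ_two]
  · rcases mk_commute_cases h with h | h
    · have e00 := congrFun (congrFun h 0) 0
      have e01 := congrFun (congrFun h 0) 1
      simp [t, R, coe_mk2, Matrix.mul_apply, Fin.sum_univ_two] at e00 e01
      have he0 : e = 0 := (mul_eq_zero.1 (show (2 * b) * e = 0 by linear_combination -e00)).resolve_left
        (mul_ne_zero h2 hb)
      have hc0 : c = 0 := (mul_eq_zero.1 (show (2 * b) * c = 0 by linear_combination e01)).resolve_left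
        (mul_ne_zero h2 hb)
      rw [hc0, he0] at hce
      simp at hce
    · have e00 := congrFun (congrFun h 0) 0
      have e01 := congrFun (congrFun h 0) 1
      simp [t, R, coe_mk2, Matrix.mul_apply, Fin.sum_univ_two] at e00 e01
      have hc0 : c = 0 := (mul_eq_zero.1 (show (2 * a) * c = 0 by linear_combination e00)).resolve_left
        (mul_ne_zero h2 ha)
      have he0 : e = 0 := (mul_eq_zero.1 (show (2 * a) * e = 0 by linear_combination e01)).resolve_left
        (mul_ne_zero h2 ha)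
      rw [hc0, he0] at hce
      simp at hce
  · rcases mk_commute_cases h with h | h
    · have e00 := congrFun (congrFun h 0) 0
      simp [uU, wW, coe_mk2, Matrix.mul_apply, Fin.sum_univ_two] at e00
    · have e01 := congrFun (congrFun h 0) 1
      simp [uU, wW, coe_mk2, Matrix.mul_apply, Fin.sum_univ_two] at e01
      exact h2 (by linear_combination e01)

variable {p : ℕ} [hp : Fact p.Prime] [CharP F p]

/-- Proper subgroups of `PSL(2,q)` on the list are CA-groups. -/
theorem ca_proper {f : ℕ} (hq : Fintype.card F = p ^ f) (hp2 : p ≠ 2)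
    (h8 : Fintype.card F % 8 = 3 ∨ Fintype.card F % 8 = 5)
    (hsub : ∀ k, 0 < k → k ∣ f → k < f → p ^ k ≤ 5) (H : Subgroup PSL2) (hH : H ≠ ⊤) : CA H := by
  have h2 : (2 : F) ≠ 0 := DicksonId.two_ne_zero_of_char (p := p) hp2
  have hpq : p ∣ Fintype.card F := by
    obtain ⟨f', hf', hq'⟩ := Lib.Linear.exists_card_eq_pow (F := F) p
    rw [hq']; exact dvd_pow_self p hf'.ne'
  have hodd : Odd f := odd_exponent (hq ▸ h8)
  rcases classify_cases (p := p) H with h | ⟨k, -, -, ⟨e⟩⟩ | h | ⟨-, ⟨e⟩⟩ | ⟨hpH, ⟨e⟩⟩ | ⟨-, ⟨e⟩⟩ |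
    ⟨k, hk, hk3, hdvd, g, φ, hφ⟩
  · haveI := h.1
    haveI : IsMulCommutative H := IsCyclic.commutative
    intro x hx
    exact absurd (mem_center_iff.2 fun y => mul_comm' y x) hx
  · exact CA.of_equiv e (ca_dihedral k)
  · refine ca_of_invol h2 H fun x hxH hx1 hxx a ha b hb hax hbx => ?_
    set c := a * b * a⁻¹ * b⁻¹ with hc
    have hcp : c ^ p = 1 := congrArg Subtype.val (h ⟨a, ha⟩ ⟨b, hb⟩)
    have hcx : Commute c x :=
      ((Commute.mul_left (show Commute a x from hax) hbx).mul_left (Commute.inv_left hax)).mul_left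
        (Commute.inv_left hbx)
    by_contra hab
    have hc1 : c ≠ 1 := fun e => hab (by
      rw [hc, mul_inv_eq_one, mul_inv_eq_iff_eq_mul] at e
      exact e)
    have hoc : orderOf c = p := orderOf_eq_prime hcp hc1
    have hox : orderOf x = 2 := orderOf_eq_prime (by rw [sq, hxx]) hx1
    have hcop : (orderOf c).Coprime (orderOf x) := by
      rw [hoc, hox]; exact (Nat.coprime_primes hp.out Nat.prime_two).2 hp2
    have ho : orderOf (c * x) = p * 2 := by
      rw [hcx.orderOf_mul_eq_mul_orderOf_of_coprime hcop, hoc, hox]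
    have hp1 := hp.out.two_le
    rcases Lib.RecogThree.PSL2Orders.orderOf_cases p (c * x) with h' | h' | h' <;> rw [ho] at h'
    · have := Nat.le_of_dvd hp.out.pos h'
      omega
    · have h'' : p ∣ Fintype.card F - 1 :=
        (dvd_mul_right p 2).trans (h'.trans (Nat.div_dvd_of_dvd (by
          unfold Lib.RecogThree.PSL2Orders.dd; split_ifs <;> omega)))
      have h1 : p ∣ 1 := by
        have := Nat.dvd_sub hpq h''
        rwa [show Fintype.card F - (Fintype.card F - 1) = 1 by omega] at this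
      exact hp.out.one_lt.ne' (Nat.dvd_one.1 h1)
    · have h'' : p ∣ Fintype.card F + 1 :=
        (dvd_mul_right p 2).trans (h'.trans (Nat.div_dvd_of_dvd (by
          unfold Lib.RecogThree.PSL2Orders.dd; split_ifs <;> omega)))
      exact hp.out.one_lt.ne' (Nat.dvd_one.1 ((Nat.dvd_add_right hpq).1 h''))
  · refine ca_of_orders h2 H fun g hg => ?_
    have hall : ∀ a : alternatingGroup (Fin 4), a ^ 2 = 1 ∨ a ^ 3 = 1 ∨ a ^ 5 = 1 := by decide +kernel
    rcases hall (e ⟨g, hg⟩) with h | h | h <;> rw [← map_pow, map_eq_one_iff e e.injective] at h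
    · exact Or.inl (congrArg Subtype.val h)
    · exact Or.inr (Or.inl (congrArg Subtype.val h))
    · exact Or.inr (Or.inr (congrArg Subtype.val h))
  · exfalso
    have h4 : orderOf (finRotate 4) = 4 := by
      have h' := orderOf_eq_prime_pow (x := finRotate 4) (p := 2) (n := 1) (by decide +kernel)
        (by decide +kernel)
      simpa using h'
    obtain ⟨x, -, hx⟩ := DicksonId.exists_orderOf_image e (finRotate 4)
    rw [h4] at hx
    have hp4 : ¬ p ∣ orderOf x := fun h => by
      rw [hx] at h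
      exact hp2 ((Nat.prime_dvd_prime_iff_eq hp.out Nat.prime_two).1
        (hp.out.dvd_of_dvd_pow (show p ∣ 2 ^ 2 from h)))
    rcases DicksonId.dvd_half hp2 hp4 with h | h <;> rw [hx] at h <;> omega
  · refine ca_of_orders h2 H fun g hg => ?_
    have hall : ∀ a : alternatingGroup (Fin 5), a ^ 2 = 1 ∨ a ^ 3 = 1 ∨ a ^ 5 = 1 := by decide +kernel
    rcases hall (e ⟨g, hg⟩) with h | h | h <;> rw [← map_pow, map_eq_one_iff e e.injective] at h
    · exact Or.inl (congrArg Subtype.val h)
    · exact Or.inr (Or.inl (congrArg Subtype.val h))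
    · exact Or.inr (Or.inr (congrArg Subtype.val h))
  letI : Fintype (GaloisField p k) := Fintype.ofFinite _
  have hK : Fintype.card (GaloisField p k) = p ^ k := by
    rw [← Nat.card_eq_fintype_card, GaloisField.card p k hk.ne']
  have hkf := hdvd f hq
  have hkodd : Odd k := hodd.of_dvd_nat hkf
  have hf0 : 0 < f := hodd.pos
  rcases hφ with hφ | ⟨-, hsq, -⟩
  swap
  · exfalso
    have hK8 : p ^ k % 8 = p % 8 := by
      rw [DicksonId.pow_mod_eight hp2, if_neg (Nat.not_even_iff_odd.2 hkodd)]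
    have hF8 : p ^ f % 8 = p % 8 := by
      rw [DicksonId.pow_mod_eight hp2, if_neg (Nat.not_even_iff_odd.2 hodd)]
    have hKc : ringChar (GaloisField p k) ≠ 2 := by rw [ringChar.eq (GaloisField p k) p]; exact hp2
    have hFc : ringChar F ≠ 2 := by rw [ringChar.eq F p]; exact hp2
    obtain ⟨a, ha⟩ := FiniteField.exists_nonsquare hKc
    have ha0 : a ≠ 0 := fun e => ha (e ▸ IsSquare.zero)
    have h1 : a ^ (p ^ k / 2) = -1 := by
      rw [← hK]
      exact (FiniteField.pow_dichotomy hKc ha0).resolve_left fun e =>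
        ha ((FiniteField.isSquare_iff hKc ha0).2 e)
    have h1' : φ a ^ (Fintype.card F / 2) = 1 :=
      (FiniteField.isSquare_iff hFc (by simpa using ha0)).1 (hsq a)
    obtain ⟨M, hM⟩ := Nat.pow_sub_one_dvd_pow_sub_one p hkf
    have hMo : Odd M := by
      by_contra hMe
      obtain ⟨N, rfl⟩ := Nat.not_odd_iff_even.1 hMe
      have hM' : p ^ f - 1 = 2 * ((p ^ k - 1) * N) := by rw [hM]; ring
      rw [hq] at h8
      have h2dvd : 2 ∣ p ^ k - 1 := by omega
      obtain ⟨L, hL⟩ := h2dvd
      rw [hL, show 2 * L * N = 2 * (L * N) by ring] at hM'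
      rcases h8 with h8 | h8
      · omega
      · have : Even L := by rw [Nat.even_iff]; omega
        obtain ⟨L', rfl⟩ := this
        rw [show (L' + L') * N = 2 * (L' * N) by ring] at hM'
        omega
    have hhalf : Fintype.card F / 2 = p ^ k / 2 * M := by
      rw [hq]
      have hk1 : p ^ k - 1 = 2 * (p ^ k / 2) := by omega
      rw [hk1, mul_assoc] at hM
      omega
    rw [hhalf, pow_mul, ← map_pow, h1, map_neg, map_one, hMo.neg_one_pow] at h1'
    exact h2 (by linear_combination -h1')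
  rcases (Nat.le_of_dvd hf0 hkf).eq_or_lt with hlt | hlt
  · exfalso
    apply hH
    refine eq_top_of_card_eq _ ?_
    have e1 := DicksonId.two_mul_card_range hp2 hk φ
    have e2 := DicksonId.two_mul_card_PSL (F := F) hp2
    rw [← hφ, DicksonId.card_conjG, hlt, ← hq] at e1
    omega
  refine ca_of_orders h2 H fun y hy => ?_
  let e := (DicksonId.conjGEquiv g H).trans ((MulEquiv.subgroupCongr hφ).trans
    (MonoidHom.ofInjective (DicksonFull.pslExt_injective φ)).symm)
  have hoy : orderOf (e ⟨y, hy⟩) = orderOf y := by rw [MulEquiv.orderOf_eq, Subgroup.orderOf_mk]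
  have hpk : p ^ k = 3 ∨ p ^ k = 5 := by
    have h1 := hsub k hk hkf hlt
    have h3 : p ^ k % 2 = 1 := Nat.odd_iff.1 (hp.out.odd_of_ne_two hp2).pow
    omega
  have hcases := Lib.RecogThree.PSL2Orders.orderOf_cases p (e ⟨y, hy⟩)
  rw [hoy, hK] at hcases
  rcases hpk with hr | hr <;>
    [obtain ⟨rfl, rfl⟩ := (Nat.Prime.pow_eq_iff (by norm_num : Nat.Prime 3)).1 hr;
     obtain ⟨rfl, rfl⟩ := (Nat.Prime.pow_eq_iff (by norm_num : Nat.Prime 5)).1 hr] <;>
    norm_num [Lib.RecogThree.PSL2Orders.dd, orderOf_dvd_iff_pow_eq_one] at hcases ⊢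
  · rcases hcases with h | h | h
    · exact Or.inr (Or.inl h)
    · exact Or.inl (by rw [h, one_pow])
    · exact Or.inl h
  · rcases hcases with h | h | h
    · exact Or.inr (Or.inr h)
    · exact Or.inl h
    · exact Or.inr (Or.inl h)

omit hp [CharP F p] in
/-- The converse. -/
theorem crit_psl (h : ((Fintype.card F).Prime ∧ 5 < Fintype.card F ∧ ¬ 16 ∣ Fintype.card F ^ 2 - 1) ∨
    ∃ r : ℕ, r.Prime ∧ r ≠ 2 ∧ (Fintype.card F = 3 ^ r ∨ Fintype.card F = 5 ^ r)) :
    Crit PSL2 := by
  obtain ⟨p, hchar⟩ := CharP.exists F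
  obtain ⟨n, hp, hn⟩ := FiniteField.card F p
  haveI := Fact.mk hp
  haveI := hchar
  have main : p ≠ 2 → (Fintype.card F % 8 = 3 ∨ Fintype.card F % 8 = 5) → 5 < Fintype.card F →
      (∀ k, 0 < k → k ∣ (n : ℕ) → k < (n : ℕ) → p ^ k ≤ 5) → Crit PSL2 := by
    intro hp2 h8 h5 hsub
    obtain ⟨x, a, b, y, hax, hbx, hab, hyx⟩ :=
      exists_witness_psl (DicksonId.two_ne_zero_of_char (p := p) hp2) h5
    haveI := DicksonId.isSimple (F := F) (by omega)
    refine ⟨fun hsol => hab (IsSimpleGroup.comm_iff_isSolvable.2 hsol a b), fun hCA => ?_,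
      fun H hH => ca_proper hn hp2 h8 hsub H hH⟩
    haveI := hCA x fun hx => hyx (mem_center_iff.1 hx y)
    exact hab (congrArg Subtype.val (mul_comm'
      (⟨a, mem_centralizer_singleton_iff.2 hax⟩ : centralizer ({x} : Set PSL2))
      ⟨b, mem_centralizer_singleton_iff.2 hbx⟩))
  rcases h with ⟨hprime, h5, h16⟩ | ⟨r, hr, hr2, hr35⟩
  · have hn1 : (n : ℕ) = 1 := by
      rw [hn] at hprime
      exact (Nat.Prime.eq_one_of_pow hprime)
    have hq2 : Fintype.card F % 2 = 1 := Nat.odd_iff.1 (hprime.odd_of_ne_two (by omega))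
    have h8 : Fintype.card F % 8 = 3 ∨ Fintype.card F % 8 = 5 := by
      by_contra h8
      apply h16
      have hsq : Fintype.card F ^ 2 % 16 = 1 := by
        rw [Nat.pow_mod]
        rcases (show Fintype.card F % 16 = 1 ∨ Fintype.card F % 16 = 7 ∨ Fintype.card F % 16 = 9 ∨
          Fintype.card F % 16 = 15 by omega) with e | e | e | e <;> rw [e] <;> norm_num
      omega
    refine main (fun e => ?_) h8 h5 fun k hk hkn hlt => by omega
    rw [hn1, pow_one] at hn
    omega
  · have hr3 : 3 ≤ r := by have := hr.two_le; omega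
    have hrodd : r % 2 = 1 := Nat.odd_iff.1 (hr.odd_of_ne_two hr2)
    have key : ∀ s : ℕ, s.Prime → Fintype.card F = s ^ r → p = s ∧ (n : ℕ) = r := by
      intro s hs he
      have h' : p ^ (n : ℕ) = s ^ r := hn.symm.trans he
      have hps : p = s := (Nat.prime_dvd_prime_iff_eq hp hs).1
        (hp.dvd_of_dvd_pow (h' ▸ dvd_pow_self p n.pos.ne'))
      exact ⟨hps, Nat.pow_right_injective hp.two_le (show p ^ (n : ℕ) = p ^ r by rw [h', hps])⟩
    have hk1 : (n : ℕ) = r → ∀ k, 0 < k → k ∣ (n : ℕ) → k < (n : ℕ) → k = 1 := fun e k _ hk hlt =>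
      ((Nat.dvd_prime hr).1 (e ▸ hk)).resolve_right (by omega)
    rcases hr35 with he | he
    · obtain ⟨rfl, hnr⟩ := key 3 Nat.prime_three he
      refine main (by norm_num) (Or.inl ?_) ?_ fun k h0 hd hl => by rw [hk1 hnr k h0 hd hl]; norm_num
      · rw [he, DicksonId.pow_mod_eight (by norm_num), if_neg (by rw [Nat.even_iff]; omega)]
      · rw [he]
        calc 5 < 3 ^ 3 := by norm_num
          _ ≤ 3 ^ r := Nat.pow_le_pow_right (by norm_num) hr3
    · obtain ⟨rfl, hnr⟩ := key 5 (by norm_num) he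
      refine main (by norm_num) (Or.inr ?_) ?_ fun k h0 hd hl => by rw [hk1 hnr k h0 hd hl]; norm_num
      · rw [he, DicksonId.pow_mod_eight (by norm_num), if_neg (by rw [Nat.even_iff]; omega)]
      · rw [he]
        calc 5 < 5 ^ 3 := by norm_num
          _ ≤ 5 ^ r := Nat.pow_le_pow_right (by norm_num) hr3

/-- Transport. -/
theorem Crit.of_equiv {G : Type u} {K : Type} [Group G] [Group K] (e : G ≃* K) (hK : Crit K) :
    Crit G where
  nonsolvable h := hK.nonsolvable (by
    haveI := h
    exact Group.isSolvable_of_surjective (f := e.toMonoidHom) e.surjective)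
  notCA h := hK.notCA (CA.of_equiv e.symm h)
  proper H hH := CA.of_equiv (e.subgroupMap H) (hK.proper _ fun h => hH (by
    rw [← comap_map_eq_self_of_injective (f := (e : G →* K)) e.injective H, h, comap_top]))

end Cfsg.Agent.Lib.MinNonCA23
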