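import Cfsg.Agent.Lib.DicksonId.Classify

/-!
# Minimal non-CA-groups: Dickson's list with the commutator form of the Borel case

Owner: helper23.
-/

set_option autoImplicit false

namespace Cfsg.Agent.Lib.MinNonCA23

open Matrix Cfsg.Agent.Lib.Linear Cfsg.Agent.Lib.DicksonId
open Cfsg.Agent.Lib.DicksonFull (pslExt)
open scoped Pointwise

variable {F : Type*} [Field F] [Fintype F] {p : ℕ} [hp : Fact p.Prime] [CharP F p]

local notation "PSL2" => Matrix.ProjectiveSpecialLinearGroup (Fin 2) F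

/-- Dickson's list; the Borel case through commutators. -/
theorem classify_cases (G : Subgroup PSL2) :
    (IsCyclic G ∧ ¬ p ∣ Nat.card G) ∨
    (∃ k, ¬ p ∣ k ∧ (∃ x ∈ G, orderOf x = k) ∧ Nonempty (G ≃* DihedralGroup k)) ∨
    (∀ a b : G, (a * b * a⁻¹ * b⁻¹) ^ p = 1) ∨
    (¬ p ∣ Nat.card G ∧ Nonempty (G ≃* alternatingGroup (Fin 4))) ∨
    (¬ p ∣ Nat.card G ∧ Nonempty (G ≃* Equiv.Perm (Fin 4))) ∨
    ((¬ p ∣ Nat.card G ∨ p = 3) ∧ Nonempty (G ≃* alternatingGroup (Fin 5))) ∨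
    ∃ k, IsSubfieldGroup p G k := by
  by_cases hpG : p ∣ Nat.card G
  · rcases DicksonFull.dvd_cases G hpG with ⟨h1, -, -⟩ | ⟨q, k, hk, rfl, hk1, hk2, hc⟩
    · exact Or.inr (Or.inr (Or.inl h1))
    rcases hc with ⟨hq, C, hC, hi⟩ | ⟨h3, hf⟩ | ⟨hq, h60⟩
    · have hp2 : p = 2 := (Nat.prime_dvd_prime_iff_eq hp.out Nat.prime_two).mp (hq ▸ dvd_pow_self p hk.ne')
      have hpC : ¬ p ∣ Nat.card C := fun hd => hk2 (by
        rw [← Subgroup.card_mul_index C, hi]
        have : p ^ (k + 1) = p * 2 := by rw [pow_succ, hq, hp2]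
        rw [this]
        exact Nat.mul_dvd_mul_right hd 2)
      exact (psl_cyclic_or_dihedral G C hC hi.le hpC).imp_right Or.inl
    · refine Or.inr (Or.inr (Or.inr (Or.inr (Or.inr (Or.inr ⟨k, hk, h3, ?_⟩)))))
      exact subfield_ident G hk hk1 hk2 hf
    · have hp3 : p = 3 := (Nat.prime_dvd_prime_iff_eq hp.out Nat.prime_three).mp (hq ▸ dvd_pow_self p hk.ne')
      refine Or.inr (Or.inr (Or.inr (Or.inr (Or.inr (Or.inl ⟨Or.inr hp3, ?_⟩)))))
      have key : ∀ r : ℕ, r.Prime → r ≠ 3 → ∀ N : Subgroup G, N.Normal → Nat.card N ≠ r := by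
        intro r hr hr3 N hN hc
        haveI := hN
        haveI : Fact r.Prime := ⟨hr⟩
        have hb := psl_no_normal_cyclic (by omega) G hpG N (isCyclic_of_prime_card hc) (fun hd => hr3 (by
          rw [hc] at hd
          exact ((Nat.prime_dvd_prime_iff_eq hp.out hr).mp hd).symm.trans hp3))
        rw [hb, Subgroup.card_bot] at hc
        exact hr.ne_one hc.symm
      exact nonempty_alt_five h60 (key 5 (by norm_num) (by norm_num)) (key 2 Nat.prime_two (by norm_num))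
  by_cases hC : ∃ C : Subgroup G, IsCyclic C ∧ C.index ≤ 2
  · obtain ⟨C, hC, hi⟩ := hC
    exact (psl_cyclic_or_dihedral G C hC hi
      fun hd => hpG (hd.trans (Subgroup.card_subgroup_dvd_card C))).imp_right Or.inl
  have key : ∀ r : ℕ, r.Prime → ∀ N : Subgroup G, N.Normal → Nat.card N ≠ r := by
    intro r hr N hN hc
    haveI := hN
    haveI : Fact r.Prime := ⟨hr⟩
    refine hC (psl_cyclic_of_normal G hpG N (isCyclic_of_prime_card hc) fun hb => ?_)
    rw [hb, Subgroup.card_bot] at hc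
    exact hr.ne_one hc.symm
  rcases (DicksonFull.coprime_cases G hpG).resolve_left hC with h | h | h
  · exact Or.inr (Or.inr (Or.inr (Or.inl
      ⟨hpG, nonempty_alt_four h (key 3 Nat.prime_three) (key 2 Nat.prime_two)⟩)))
  · exact Or.inr (Or.inr (Or.inr (Or.inr (Or.inl
      ⟨hpG, nonempty_perm_four h (key 3 Nat.prime_three) (key 2 Nat.prime_two)⟩))))
  · exact Or.inr (Or.inr (Or.inr (Or.inr (Or.inr (Or.inl
      ⟨Or.inl hpG, nonempty_alt_five h (key 5 (by norm_num)) (key 2 Nat.prime_two)⟩)))))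

end Cfsg.Agent.Lib.MinNonCA23
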