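import Mathlib
import Cfsg.Agent.Lib.Linear.SL2

/-!
# Two-by-two matrices over a finite field: inverters, scalers, anticommuting elements

Owner: helper23.
-/

set_option autoImplicit false
set_option linter.style.haveILetI false

open Matrix

namespace Cfsg.Agent.Lib.MinNonCA23

variable {F : Type*} [Field F]

local notation "SL2" => Matrix.SpecialLinearGroup (Fin 2) F
local notation "M2" => Matrix (Fin 2) (Fin 2) F

/-- The matrix with rows `(a, b)`, `(c, d)`. -/
def mk2 (a b c d : F) (h : a * d - b * c = 1) : Matrix.SpecialLinearGroup (Fin 2) F :=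
  ⟨!![a, b; c, d], by simpa [Matrix.det_fin_two] using h⟩

theorem coe_mk2 (a b c d : F) (h : a * d - b * c = 1) :
    ((mk2 a b c d h : SL2) : M2) = !![a, b; c, d] := rfl

/-- An upper unitriangular matrix. -/
def uU (t : F) : Matrix.SpecialLinearGroup (Fin 2) F := mk2 1 t 0 1 (by ring)

/-- A diagonal matrix. -/
def hT (a : F) (ha : a ≠ 0) : Matrix.SpecialLinearGroup (Fin 2) F :=
  mk2 a 0 0 a⁻¹ (by rw [mul_inv_cancel₀ ha]; ring)

/-- The Weyl element. -/
def wW : Matrix.SpecialLinearGroup (Fin 2) F := mk2 0 1 (-1) 0 (by ring)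

section Finite

variable [Fintype F]

/-- A regular binary quadratic form represents everything. -/
theorem exists_form (A B C r : F) (hd : B ^ 2 - 4 * A * C ≠ 0) :
    ∃ x y : F, A * x ^ 2 + B * x * y + C * y ^ 2 = r := by
  classical
  by_cases hA : A = 0
  · subst hA
    have hB : B ≠ 0 := fun e => hd (by rw [e]; ring)
    exact ⟨(r - C) / B, 1, by field_simp; ring⟩
  by_cases h2 : (2 : F) = 0
  · have hF : ringChar F = 2 := by
      have hd2 : ringChar F ∣ 2 := ringChar.dvd (by exact_mod_cast h2)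
      rcases (Nat.dvd_prime Nat.prime_two).1 hd2 with h | h
      · exfalso
        have := CharP.cast_eq_zero (R := F) (ringChar F)
        rw [h] at this
        simp at this
      · exact h
    obtain ⟨x, hx⟩ := FiniteField.isSquare_of_char_two hF (r / A)
    refine ⟨x, 0, ?_⟩
    have : A * (r / A) = r := by field_simp
    rw [hx] at this
    linear_combination this
  · have h4 : (4 : F) * A ≠ 0 := mul_ne_zero (by
      rw [show (4 : F) = 2 * 2 by norm_num]; exact mul_ne_zero h2 h2) hA
    have hodd : Fintype.card F % 2 = 1 := FiniteField.odd_card_of_char_ne_two fun e => h2 (by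
      haveI : CharP F 2 := ringChar.of_eq e
      exact CharP.cast_eq_zero F 2)
    have hD : (4 * A * C - B ^ 2) / (4 * A) ≠ 0 :=
      div_ne_zero (fun e => hd (by linear_combination -e)) h4
    obtain ⟨X, y, hXy⟩ := FiniteField.exists_root_sum_quadratic
      (f := Polynomial.C A * Polynomial.X ^ 2 - Polynomial.C r)
      (g := Polynomial.C ((4 * A * C - B ^ 2) / (4 * A)) * Polynomial.X ^ 2)
      (by rw [Polynomial.degree_sub_eq_left_of_degree_lt] <;>
        rw [Polynomial.degree_C_mul_X_pow 2 hA]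
          <;> first
            | rfl
            | exact lt_of_le_of_lt Polynomial.degree_C_le (by norm_num))
      (by rw [Polynomial.degree_C_mul_X_pow 2 hD]; rfl) hodd
    have hw : 2 * A * (B * y / (2 * A)) = B * y := mul_div_cancel₀ _ (mul_ne_zero h2 hA)
    have hD4 : 4 * A * ((4 * A * C - B ^ 2) / (4 * A)) = 4 * A * C - B ^ 2 := mul_div_cancel₀ _ h4
    refine ⟨X - B * y / (2 * A), y, ?_⟩
    simp only [Polynomial.eval_sub, Polynomial.eval_mul, Polynomial.eval_C, Polynomial.eval_pow,
      Polynomial.eval_X] at hXy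
    apply mul_left_cancel₀ h4
    linear_combination 4 * A * hXy + (2 * A * (B * y / (2 * A)) - B * y - 4 * A * X) * hw - y ^ 2 * hD4

/-- A determinant one element inverting a regular semisimple matrix. -/
theorem exists_inverter (M : M2) (hd : (M 0 0 + M 1 1) ^ 2 - 4 * (M 0 0 * M 1 1 - M 0 1 * M 1 0) ≠ 0) :
    ∃ n : SL2, (n : M2) 0 0 + (n : M2) 1 1 = 0 ∧
      (n : M2) * M = ((M 0 0 + M 1 1) • (1 : M2) - M) * (n : M2) := by
  suffices h : ∃ x y z : F, -x * x - y * z = 1 ∧ (M 0 0 - M 1 1) * x + M 0 1 * z + M 1 0 * y = 0 by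
    obtain ⟨x, y, z, h1, h2⟩ := h
    refine ⟨mk2 x y z (-x) (by linear_combination h1), by simp [coe_mk2], ?_⟩
    ext i j
    fin_cases i <;> fin_cases j <;> simp [coe_mk2, Matrix.mul_apply, Fin.sum_univ_two] <;>
      first
        | linear_combination h2
        | linear_combination -h2
        | ring1
  by_cases hb : M 0 1 = 0
  · have hae : M 0 0 - M 1 1 ≠ 0 := fun e => hd (by rw [hb, sub_eq_zero.1 e]; ring)
    refine ⟨-M 1 0 / (M 0 0 - M 1 1), 1,
      -1 - (-M 1 0 / (M 0 0 - M 1 1)) * (-M 1 0 / (M 0 0 - M 1 1)), by ring, ?_⟩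
    rw [hb]
    field_simp
    ring
  · obtain ⟨x, y, hxy⟩ := exists_form (-1 : F) ((M 0 0 - M 1 1) / M 0 1) (M 1 0 / M 0 1) 1 (by
      intro e
      apply hd
      have he : ((M 0 0 - M 1 1) / M 0 1) ^ 2 - 4 * (-1) * (M 1 0 / M 0 1) =
          ((M 0 0 + M 1 1) ^ 2 - 4 * (M 0 0 * M 1 1 - M 0 1 * M 1 0)) / M 0 1 ^ 2 := by
        field_simp; ring
      rw [he, div_eq_zero_iff] at e
      exact e.resolve_right (pow_ne_zero _ hb))
    refine ⟨x, y, -((M 0 0 - M 1 1) * x + M 1 0 * y) / M 0 1, ?_, by field_simp; ring⟩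
    rw [← hxy]
    field_simp
    ring

/-- Traceless determinant one matrices are conjugate to the Weyl element in `SL₂`. -/
theorem exists_conj_wW (R : SL2) (h2 : (2 : F) ≠ 0) (hR : (R : M2) 0 0 + (R : M2) 1 1 = 0) :
    ∃ X : SL2, X * R = wW * X := by
  have hdet := Lib.Linear.sl2_det R
  have h11 : (R : M2) 1 1 = -(R : M2) 0 0 := by linear_combination hR
  rw [h11] at hdet
  set a := (R : M2) 0 0
  set b := (R : M2) 0 1
  set c := (R : M2) 1 0
  have hd : (-2 * a) ^ 2 - 4 * b * (-c) ≠ 0 := by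
    intro e
    have h4 : (4 : F) = 0 := by linear_combination (-1) * e - 4 * hdet
    exact mul_ne_zero h2 h2 (by linear_combination h4)
  obtain ⟨x, y, hxy⟩ := exists_form b (-2 * a) (-c) 1 hd
  refine ⟨mk2 x y (x * a + y * c) (x * b - y * a) (by linear_combination hxy), Subtype.ext ?_⟩
  simp only [a, b, c] at hdet h11 ⊢
  ext i j
  fin_cases i <;> fin_cases j <;>
    simp [wW, coe_mk2, Matrix.mul_apply, Fin.sum_univ_two, h11] <;>
    first
      | ring1
      | linear_combination (-x) * hdet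
      | linear_combination (-y) * hdet
      | linear_combination x * hdet
      | linear_combination y * hdet

theorem exists_unit_of_card {m : ℕ} (hm : m < Fintype.card F - 1) (hm0 : 0 < m) :
    ∃ k : F, k ≠ 0 ∧ k ^ m ≠ 1 := by
  classical
  obtain ⟨g, hg⟩ := IsCyclic.exists_generator (α := Fˣ)
  refine ⟨(g : F), g.ne_zero, fun h => ?_⟩
  have hd : orderOf g ∣ m := orderOf_dvd_of_pow_eq_one (Units.ext (by simpa using h))
  rw [orderOf_eq_card_of_forall_mem_zpowers hg, Nat.card_units, Nat.card_eq_fintype_card] at hd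
  have := Nat.le_of_dvd hm0 hd
  omega

/-- `a² + b² = 1` with `a`, `b` non-zero, beyond five elements. -/
theorem exists_circle (h2 : (2 : F) ≠ 0) (hq : 5 < Fintype.card F) :
    ∃ a b : F, a ≠ 0 ∧ b ≠ 0 ∧ a * a + b * b = 1 := by
  obtain ⟨k, hk, hk4⟩ := exists_unit_of_card (F := F) (m := 4) (by omega) (by norm_num)
  have h1 : 1 + k * k ≠ 0 := fun e => hk4 (by linear_combination (k * k - 1) * e)
  have h3 : 1 - k * k ≠ 0 := fun e => hk4 (by linear_combination (-(k * k) - 1) * e)
  refine ⟨(1 - k * k) / (1 + k * k), 2 * k / (1 + k * k), div_ne_zero h3 h1,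
    div_ne_zero (mul_ne_zero h2 hk) h1, ?_⟩
  rw [div_mul_div_comm, div_mul_div_comm, ← add_div, div_eq_one_iff_eq (mul_ne_zero h1 h1)]
  ring

end Finite

/-- Scaling a nilpotent matrix by a square. -/
theorem exists_scaler (N : M2) (_hN : N ≠ 0) (ht : N 0 0 + N 1 1 = 0)
    (hd : N 0 0 * N 1 1 - N 0 1 * N 1 0 = 0) (a : F) (ha : a ≠ 0) :
    ∃ n : SL2, (n : M2) * N = a ^ 2 • (N * (n : M2)) ∨ (n : M2) * N = (a ^ 2)⁻¹ • (N * (n : M2)) := by
  have h11 : N 1 1 = -N 0 0 := by linear_combination ht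
  rw [h11] at hd
  by_cases hc : N 1 0 = 0
  · have h00 : N 0 0 = 0 := by
      rw [hc] at hd
      have : N 0 0 * N 0 0 = 0 := by linear_combination -hd
      exact mul_self_eq_zero.1 this
    refine ⟨hT a ha, Or.inl ?_⟩
    ext i j
    fin_cases i <;> fin_cases j <;>
      simp [hT, coe_mk2, Matrix.mul_apply, Fin.sum_univ_two, h11, hc, h00] <;> field_simp
  · refine ⟨mk2 a⁻¹ (N 0 0 * (a - a⁻¹) / N 1 0) 0 a (by field_simp; ring), ?_⟩
    left
    ext i j
    fin_cases i <;> fin_cases j <;>
      simp [coe_mk2, Matrix.mul_apply, Fin.sum_univ_two, h11] <;> field_simp <;>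
      first
        | ring1
        | linear_combination (a ^ 4 - 1) * hd
        | linear_combination (1 - a ^ 4) * hd
        | linear_combination hd

/-- A matrix with non-zero trace, or in characteristic two, has a mover inside its own plane. -/
theorem exists_moving [Fintype F] (hq : 4 ≤ Fintype.card F) (M : M2) (hdet : M.det ≠ 0)
    (hns : ∀ a : F, M ≠ a • (1 : M2)) (hc : M 0 0 + M 1 1 ≠ 0 ∨ (2 : F) = 0) :
    ∃ (n : SL2) (u v : F), v ≠ 0 ∧ (n : M2) * M = (u • (1 : M2) + v • M) * (n : M2) ∧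
      ∀ μ : F, (n : M2) * M ≠ μ • (M * (n : M2)) := by
  classical
  set T := M 0 0 + M 1 1 with hT'
  rw [Matrix.det_fin_two] at hdet
  set d := M 0 0 * M 1 1 - M 0 1 * M 1 0 with hd'
  have hcancel : ∀ (n : SL2) (A B : M2), A * (n : M2) = B * (n : M2) → A = B := fun n A B h => by
    have h' := congrArg (· * ((n⁻¹ : SL2) : M2)) h
    simpa only [Matrix.mul_assoc, ← Matrix.SpecialLinearGroup.coe_mul, mul_inv_cancel,
      Matrix.SpecialLinearGroup.coe_one, Matrix.mul_one] using h'
  have key : ∀ (n : SL2) (u v : F), (n : M2) * M = (u • (1 : M2) + v • M) * (n : M2) → u ≠ 0 →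
      ∀ μ : F, (n : M2) * M ≠ μ • (M * (n : M2)) := by
    intro n u v h hu μ hμ
    rw [h, ← smul_mul_assoc] at hμ
    have h1 := hcancel n _ _ hμ
    have h2 : (μ - v) • M = u • (1 : M2) := by rw [sub_smul, ← h1, add_sub_cancel_right]
    by_cases hμv : μ - v = 0
    · rw [hμv, zero_smul] at h2
      have := congrFun (congrFun h2.symm 0) 0
      simp [hu] at this
    · apply hns ((μ - v)⁻¹ * u)
      rw [← smul_smul, ← h2, smul_smul, inv_mul_cancel₀ hμv, one_smul]
  by_cases hΔ : T ^ 2 - 4 * d = 0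
  · obtain ⟨c, hc2, hcc⟩ : ∃ c : F, T = 2 * c ∧ c * c = d := by
      by_cases h2 : (2 : F) = 0
      · have hF : ringChar F = 2 := by
          have hd2 : ringChar F ∣ 2 := ringChar.dvd (by exact_mod_cast h2)
          rcases (Nat.dvd_prime Nat.prime_two).1 hd2 with h | h
          · exfalso
            have := CharP.cast_eq_zero (R := F) (ringChar F)
            rw [h] at this
            simp at this
          · exact h
        obtain ⟨c, hc⟩ := FiniteField.isSquare_of_char_two hF d
        refine ⟨c, ?_, hc.symm⟩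
        have hTT : T * T = 0 := by linear_combination hΔ + (2 * d) * h2
        rw [mul_self_eq_zero.1 hTT, h2, zero_mul]
      · refine ⟨T / 2, by field_simp, ?_⟩
        field_simp
        linear_combination hΔ
    have hcne : c ≠ 0 := fun e => hdet (by rw [← hcc, e, mul_zero])
    set N := M - c • (1 : M2) with hN
    have hN0 : N ≠ 0 := fun e => hns c (sub_eq_zero.1 e)
    have hNt : N 0 0 + N 1 1 = 0 := by
      simp [hN]
      linear_combination hc2
    have hNd : N 0 0 * N 1 1 - N 0 1 * N 1 0 = 0 := by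
      simp [hN]
      linear_combination -hcc + (-c) * hc2
    obtain ⟨a, ha, ha2⟩ := exists_unit_of_card (F := F) (m := 2) (by omega) (by norm_num)
    obtain ⟨k, hk, hk1, n, hn⟩ : ∃ k : F, k ≠ 0 ∧ k ≠ 1 ∧ ∃ n : SL2,
        (n : M2) * N = k • (N * (n : M2)) := by
      obtain ⟨n, h | h⟩ := exists_scaler N hN0 hNt hNd a ha
      · exact ⟨a ^ 2, pow_ne_zero _ ha, ha2, n, h⟩
      · exact ⟨(a ^ 2)⁻¹, inv_ne_zero (pow_ne_zero _ ha), fun e => ha2 (inv_eq_one.1 e), n, h⟩
    have hnM : (n : M2) * M = ((c - k * c) • (1 : M2) + k • M) * (n : M2) := by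
      rw [hN, Matrix.mul_sub, Matrix.mul_smul, Matrix.mul_one, Matrix.sub_mul, Matrix.smul_mul,
        Matrix.one_mul, sub_eq_iff_eq_add] at hn
      rw [hn, Matrix.add_mul, Matrix.smul_mul, Matrix.smul_mul, Matrix.one_mul]
      module
    refine ⟨n, c - k * c, k, hk, hnM, key n _ _ hnM fun e => hk1 ?_⟩
    have : (1 - k) * c = 0 := by linear_combination e
    exact (sub_eq_zero.1 ((mul_eq_zero.1 this).resolve_right hcne)).symm
  · obtain ⟨n, -, hn⟩ := exists_inverter M hΔ
    have hT0 : T ≠ 0 := by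
      rcases hc with h | h
      · exact h
      · intro e
        apply hΔ
        linear_combination (T) * e - (2 * d) * h
    have hnM : (n : M2) * M = (T • (1 : M2) + (-1 : F) • M) * (n : M2) := by
      rw [hn, neg_one_smul, sub_eq_add_neg]
    exact ⟨n, T, -1, neg_ne_zero.2 one_ne_zero, hnM, key n _ _ hnM hT0⟩

end Cfsg.Agent.Lib.MinNonCA23
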