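import Cfsg.Agent.Lib.MinNonCA23.Structure
import Cfsg.Agent.Lib.MinNonCA23.Matrices
import Cfsg.Agent.Lib.AutPSL.Main
import Cfsg.Agent.Lib.Linear.Transvection

/-!
# Minimal non-CA-groups: `G ⧸ Z(G)` between `PSL(2,q)` and its automorphism group

Owner: helper23.
-/

set_option autoImplicit false
set_option linter.style.haveILetI false

open Subgroup Matrix

namespace Cfsg.Agent.Lib.MinNonCA23

universe u

variable {G : Type u} [Group G] {F : Type} [Field F]

local notation "SL2" => Matrix.SpecialLinearGroup (Fin 2) F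
local notation "M2" => Matrix (Fin 2) (Fin 2) F

/-- `ρ : SL₂(F) → G ⧸ Z(G)` onto a normal subgroup with trivial centraliser, with kernel the centre. -/
structure Emb (G : Type u) [Group G] (F : Type) [Field F] where
  /-- The homomorphism. -/
  ρ : Matrix.SpecialLinearGroup (Fin 2) F →* G ⧸ center G
  ker : ρ.ker = center (Matrix.SpecialLinearGroup (Fin 2) F)
  normal : ρ.range.Normal
  cent : ∀ x : G ⧸ center G, (∀ s, x * ρ s = ρ s * x) → x = 1

theorem exists_emb {N : Subgroup (G ⧸ center G)} (hN : Socle G N)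
    (e : ↥N ≃* Matrix.ProjectiveSpecialLinearGroup (Fin 2) F) :
    ∃ E : Emb G F, E.ρ.range = N := by
  set ρ : SL2 →* G ⧸ center G := N.subtype.comp (e.symm.toMonoidHom.comp (QuotientGroup.mk' _)) with hρ
  have hr : ρ.range = N := by
    refine le_antisymm ?_ fun x hx => ?_
    · rintro _ ⟨s, rfl⟩
      exact (e.symm (QuotientGroup.mk s)).2
    · obtain ⟨s, hs⟩ := QuotientGroup.mk_surjective (e ⟨x, hx⟩)
      exact ⟨s, by simp [hρ, hs]⟩
  have hker : ρ.ker = center SL2 := by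
    ext s
    rw [MonoidHom.mem_ker]
    constructor
    · intro h
      have h1 : e.symm (QuotientGroup.mk s) = 1 := Subtype.ext h
      rw [map_eq_one_iff _ e.symm.injective] at h1
      exact (QuotientGroup.eq_one_iff s).1 h1
    · intro h
      show ((e.symm (QuotientGroup.mk s) : N) : G ⧸ center G) = 1
      rw [(QuotientGroup.eq_one_iff s).2 h, map_one]
      rfl
  refine ⟨⟨ρ, hker, hr.symm ▸ hN.normal, fun x hx => ?_⟩, hr⟩
  have hmem : x ∈ centralizer (N : Set (G ⧸ center G)) := by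
    rw [mem_centralizer_iff]
    intro n hn
    rw [SetLike.mem_coe, ← hr] at hn
    obtain ⟨s, rfl⟩ := hn
    exact (hx s).symm
  rw [hN.cent, mem_bot] at hmem
  exact hmem

namespace Emb

variable (E : Emb G F)

theorem eq_iff {s t : SL2} :
    E.ρ s = E.ρ t ↔ (t : M2) = (s : M2) ∨ (t : M2) = -(s : M2) := by
  constructor
  · intro h
    have hm : s⁻¹ * t ∈ center SL2 := by
      rw [← E.ker, MonoidHom.mem_ker, map_mul, map_inv, h, inv_mul_cancel]
    obtain ⟨c, hc⟩ := (AutPSL.mk_eq_mk_iff s t).1 (QuotientGroup.eq.2 hm)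
    have hd := congrArg Matrix.det hc
    rw [det_smul, s.det_coe, t.det_coe, Fintype.card_fin, mul_one] at hd
    rcases eq_or_eq_neg_of_sq_eq_sq c 1 (by rw [one_pow]; exact hd.symm) with rfl | rfl
    · exact Or.inl (by rw [hc, one_smul])
    · exact Or.inr (by rw [hc, neg_one_smul])
  · intro h
    have hc : ∃ c : F, (t : M2) = c • (s : M2) := by
      rcases h with h | h
      · exact ⟨1, by rw [h, one_smul]⟩
      · exact ⟨-1, by rw [h, neg_one_smul]⟩
    have hm : s⁻¹ * t ∈ center SL2 := QuotientGroup.eq.1 ((AutPSL.mk_eq_mk_iff s t).2 hc)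
    rw [← E.ker, MonoidHom.mem_ker, map_mul, map_inv, inv_mul_eq_one] at hm
    exact hm

theorem commute_iff {s t : SL2} :
    E.ρ s * E.ρ t = E.ρ t * E.ρ s ↔
      (t : M2) * (s : M2) = (s : M2) * (t : M2) ∨ (t : M2) * (s : M2) = -((s : M2) * (t : M2)) := by
  rw [← map_mul, ← map_mul, E.eq_iff]
  rfl

theorem eq_one_iff {s : SL2} : E.ρ s = 1 ↔ (s : M2) = 1 ∨ (s : M2) = -1 := by
  rw [← map_one E.ρ, eq_comm, E.eq_iff]
  simp

/-- `x` acts on `ρ(SL₂)` as `conj M ∘ σ`. -/
def Acts (x : G ⧸ center G) (M : GL (Fin 2) F) (σ : F ≃+* F) : Prop :=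
  ∀ s : SL2, x * E.ρ s * x⁻¹ = E.ρ (AutPSL.conjSL M (AutPSL.fieldSL σ s))

theorem exists_acts [Fintype F] (x : G ⧸ center G) :
    ∃ (M : GL (Fin 2) F) (σ : F ≃+* F), E.Acts x M σ := by
  haveI := E.normal
  let e' : Matrix.ProjectiveSpecialLinearGroup (Fin 2) F ≃* E.ρ.range :=
    (QuotientGroup.quotientMulEquivOfEq E.ker.symm).trans (QuotientGroup.quotientKerEquivRange E.ρ)
  have he' : ∀ s : SL2, ((e' (QuotientGroup.mk s) : E.ρ.range) : G ⧸ center G) = E.ρ s := fun s => rfl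
  let α : MulAut (Matrix.ProjectiveSpecialLinearGroup (Fin 2) F) :=
    (e'.trans (MulAut.conjNormal x)).trans e'.symm
  obtain ⟨M, σ, γ, hγ, hα⟩ := AutPSL.exists_decomp le_rfl α
  rcases hγ with rfl | ⟨h, -⟩
  swap
  · omega
  refine ⟨M, σ, fun s => ?_⟩
  have h := congrArg e' (MulEquiv.congr_fun hα (QuotientGroup.mk s))
  rw [mul_one, MulAut.mul_apply, AutPSL.fieldAut_mk, AutPSL.conjAut_mk] at h
  have h2 : e' (α (QuotientGroup.mk s)) = MulAut.conjNormal x (e' (QuotientGroup.mk s)) :=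
    e'.apply_symm_apply _
  rw [h2] at h
  have h3 := congrArg Subtype.val h
  rw [MulAut.conjNormal_apply, he', he'] at h3
  exact h3

theorem acts_rho (s : SL2) : E.Acts (E.ρ s) (Matrix.SpecialLinearGroup.toGL s) 1 := by
  intro t
  rw [AutPSL.conjSL_toGL, map_one, MulAut.one_apply, MulAut.conj_apply, map_mul, map_mul, map_inv]

theorem Acts.mul {E : Emb G F} {x y : G ⧸ center G} {M M' : GL (Fin 2) F} {σ σ' : F ≃+* F}
    (hx : E.Acts x M σ) (hy : E.Acts y M' σ') :
    E.Acts (x * y) (M * GeneralLinearGroup.map σ.toRingHom M') (σ * σ') := by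
  intro s
  have h1 : x * y * E.ρ s * (x * y)⁻¹ = x * (y * E.ρ s * y⁻¹) * x⁻¹ := by group
  rw [h1, hy, hx]
  congr 1
  rw [map_mul, map_mul, MulAut.mul_apply, MulAut.mul_apply]
  congr 1
  refine Subtype.ext ?_
  simp only [AutPSL.coe_fieldSL, AutPSL.coe_conjSL, Matrix.map_mul, ← map_inv]
  rfl

theorem eq_of_acts {x y : G ⧸ center G} {M : GL (Fin 2) F} {σ : F ≃+* F} (hx : E.Acts x M σ)
    (hy : E.Acts y M σ) : x = y := by
  have h : y⁻¹ * x = 1 := E.cent _ fun s => by
    have h1 := hx s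
    rw [← hy s] at h1
    calc y⁻¹ * x * E.ρ s = y⁻¹ * (x * E.ρ s * x⁻¹) * x := by group
      _ = y⁻¹ * (y * E.ρ s * y⁻¹) * x := by rw [h1]
      _ = E.ρ s * (y⁻¹ * x) := by group
  exact (inv_mul_eq_one.1 h).symm

theorem conjSL_eq_iff {M : GL (Fin 2) F} {s t : SL2} :
    AutPSL.conjSL M s = t ↔ (M : M2) * (s : M2) = (t : M2) * (M : M2) := by
  constructor
  · rintro rfl
    rw [AutPSL.coe_conjSL, Matrix.mul_assoc, Units.inv_mul, Matrix.mul_one]
  · intro h
    refine Subtype.ext ?_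
    rw [AutPSL.coe_conjSL, h, Matrix.mul_assoc, Units.mul_inv, Matrix.mul_one]

/-- Scalar multiples act identically. -/
theorem conjSL_congr {M M' : GL (Fin 2) F} {b : F} (h : (M' : M2) = b • (M : M2)) :
    AutPSL.conjSL M' = AutPSL.conjSL M := by
  refine MulEquiv.ext fun s => ?_
  rw [conjSL_eq_iff, h, Matrix.mul_smul, Matrix.smul_mul, ← conjSL_eq_iff.1 rfl]

theorem Acts.congr {E : Emb G F} {x : G ⧸ center G} {M M' : GL (Fin 2) F} {σ : F ≃+* F} {b : F}
    (hx : E.Acts x M σ) (h : (M' : M2) = b • (M : M2)) : E.Acts x M' σ := by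
  intro s
  rw [conjSL_congr h]
  exact hx s

/-- An element acting as an inner automorphism lies in the range. -/
theorem eq_rho {x : G ⧸ center G} {M : GL (Fin 2) F} (hx : E.Acts x M 1) {b : F} {s : SL2}
    (h : (M : M2) = b • (s : M2)) : x = E.ρ s :=
  E.eq_of_acts hx ((E.acts_rho s).congr h)

/-- If `x` acts by `M` and commutes with `ρ s`, then `M` and `s` commute up to sign. -/
theorem Acts.commute_cases {E : Emb G F} {x : G ⧸ center G} {M : GL (Fin 2) F} (hx : E.Acts x M 1)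
    {s : SL2} (h : x * E.ρ s = E.ρ s * x) :
    (M : M2) * (s : M2) = (s : M2) * (M : M2) ∨ (M : M2) * (s : M2) = -((s : M2) * (M : M2)) := by
  have h1 : E.ρ (AutPSL.conjSL M (AutPSL.fieldSL 1 s)) = E.ρ s := by
    rw [← hx s, h, mul_inv_cancel_right]
  rw [map_one, MulAut.one_apply, E.eq_iff] at h1
  have h2 := conjSL_eq_iff.1 (rfl : AutPSL.conjSL M s = _)
  rcases h1 with h1 | h1
  · left; rw [h2, h1]
  · right; rw [h2, h1, neg_mul, neg_neg]

theorem Acts.commute_of {E : Emb G F} {x : G ⧸ center G} {M : GL (Fin 2) F} (hx : E.Acts x M 1)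
    {s : SL2} (h : (M : M2) * (s : M2) = (s : M2) * (M : M2) ∨
      (M : M2) * (s : M2) = -((s : M2) * (M : M2))) : x * E.ρ s = E.ρ s * x := by
  refine mul_inv_eq_iff_eq_mul.1 ((hx s).trans ?_)
  rw [map_one, MulAut.one_apply, E.eq_iff]
  rw [AutPSL.coe_conjSL]
  rcases h with h | h
  · left; rw [h, Matrix.mul_assoc, Units.mul_inv, Matrix.mul_one]
  · right; rw [h, neg_mul, neg_neg, Matrix.mul_assoc, Units.mul_inv, Matrix.mul_one]

end Emb

end Cfsg.Agent.Lib.MinNonCA23
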