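import Cfsg.Agent.Lib.MinNonCA23.FieldPart

/-!
# Minimal non-CA-groups: nine elements, and the inner-diagonal conclusion

Owner: helper23.
-/

set_option autoImplicit false
set_option linter.style.haveILetI false

open Subgroup Matrix

namespace Cfsg.Agent.Lib.MinNonCA23

universe u

variable {G : Type u} [Group G] {F : Type} [Field F]

local notation "SL2" => Matrix.SpecialLinearGroup (Fin 2) F
local notation "M2" => Matrix (Fin 2) (Fin 2) F

theorem mem_centralizer_sup {H : Type*} [Group H] {a b c : H} (ha : a * c = c * a) (hb : b * c = c * b) :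
    c ∈ normalizer ((zpowers a ⊔ zpowers b : Subgroup H) : Set H) := by
  have hle : zpowers a ⊔ zpowers b ≤ centralizer ({c} : Set H) :=
    sup_le (zpowers_le.2 (mem_centralizer_singleton_iff.2 ha))
      (zpowers_le.2 (mem_centralizer_singleton_iff.2 hb))
  rw [mem_normalizer_iff]
  intro x
  constructor
  · intro hx
    rwa [← mem_centralizer_singleton_iff.1 (hle hx), mul_inv_cancel_right]
  · intro hx
    have h := mem_centralizer_singleton_iff.1 (hle hx)
    have : c * x * c⁻¹ = x := by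
      apply mul_left_cancel (a := c)
      rw [← h]
      group
    rwa [this] at hx

theorem zpowers_le_normalizer {H : Type*} [Group H] {a b : H} (h : a * b = b * a) :
    zpowers b ≤ normalizer ((zpowers a : Subgroup H) : Set H) := by
  refine zpowers_le.2 ?_
  have h2 := mem_centralizer_sup (a := a) (b := a) (c := b) h h
  rwa [sup_idem] at h2

theorem isPGroup_of_invol {H : Type*} [Group H] {a : H} (ha : a * a = 1) : IsPGroup 2 (zpowers a) :=
  isPGroup_zpowers (k := 1) (by rw [pow_one, sq, ha])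

/-- No three independent commuting involutions when the Sylow groups are dihedral. -/
theorem sylow_no_three {H : Type*} [Group H] [Finite H] (Q : Sylow 2 H) {m : ℕ} [NeZero m]
    (e : ↥(Q : Subgroup H) ≃* DihedralGroup m) {a b c : H} (ha : a * a = 1) (hb : b * b = 1)
    (hc : c * c = 1) (hab : a * b = b * a) (hac : a * c = c * a) (hbc : b * c = c * b) (h1 : a ≠ 1)
    (h2 : b ≠ 1) (h3 : c ≠ 1) (h4 : a * b ≠ 1) (h5 : a * c ≠ 1) (h6 : b * c ≠ 1) (h7 : a * (b * c) ≠ 1) :
    False := by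
  haveI : Fact (Nat.Prime 2) := ⟨Nat.prime_two⟩
  have hp : IsPGroup 2 ((zpowers c) ⊔ (zpowers a ⊔ zpowers b) : Subgroup H) := by
    refine IsPGroup.to_sup_of_normal_right' (isPGroup_of_invol hc) ?_
      (zpowers_le.2 (mem_centralizer_sup hac hbc))
    exact IsPGroup.to_sup_of_normal_left' (isPGroup_of_invol ha) (isPGroup_of_invol hb)
      (zpowers_le_normalizer hab)
  obtain ⟨g, -, hg⟩ := exists_conj_into Q (C := ⊤) le_top le_top hp
  have ma := hg a (mem_sup_right (mem_sup_left (mem_zpowers a)))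
  have mb := hg b (mem_sup_right (mem_sup_right (mem_zpowers b)))
  have mc := hg c (mem_sup_left (mem_zpowers c))
  let φ : ↥(Q : Subgroup H) → DihedralGroup m := e
  have conj1 : ∀ x : H, g * x * g⁻¹ = 1 → x = 1 := fun x h => conj_eq_one_iff.1 h
  have cm : ∀ x y : H, g * x * g⁻¹ * (g * y * g⁻¹) = g * (x * y) * g⁻¹ := fun x y => by group
  have em : ∀ (x y : H) (hx : g * x * g⁻¹ ∈ (Q : Subgroup H)) (hy : g * y * g⁻¹ ∈ (Q : Subgroup H)),
      e ⟨_, hx⟩ * e ⟨_, hy⟩ = e ⟨g * (x * y) * g⁻¹, cm x y ▸ mul_mem hx hy⟩ := fun x y hx hy => by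
    rw [← map_mul]; exact congrArg e (Subtype.ext (cm x y))
  have ne : ∀ (x : H) (hx : g * x * g⁻¹ ∈ (Q : Subgroup H)), x ≠ 1 → e ⟨_, hx⟩ ≠ 1 := by
    intro x hx hx1 h
    exact hx1 (conj1 x (congrArg Subtype.val ((map_eq_one_iff e e.injective).1 h)))
  have sq1 : ∀ (x : H) (hx : g * x * g⁻¹ ∈ (Q : Subgroup H)), x * x = 1 → e ⟨_, hx⟩ * e ⟨_, hx⟩ = 1 := by
    intro x hx h
    rw [em, map_eq_one_iff e e.injective]
    exact Subtype.ext (show g * (x * x) * g⁻¹ = 1 by rw [h, mul_one, mul_inv_cancel])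
  refine dihedral_no_three (a := e ⟨_, ma⟩) (b := e ⟨_, mb⟩) (c := e ⟨_, mc⟩) (sq1 _ _ ha) (sq1 _ _ hb)
    (sq1 _ _ hc) ?_ ?_ ?_ (ne _ _ h1) (ne _ _ h2) (ne _ _ h3) ?_ ?_ ?_ ?_
  · simp only [em, hab]
  · simp only [em, hac]
  · simp only [em, hbc]
  · rw [em]; exact ne _ _ h4
  · rw [em]; exact ne _ _ h5
  · rw [em]; exact ne _ _ h6
  · rw [em, em]; exact ne _ _ h7

namespace Crit

variable [Finite G] [Fintype F]

theorem sigma_one_nine (hG : Crit G) (E : Emb G F) (h9 : Fintype.card F = 9)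
    (Q : Sylow 2 (G ⧸ center G)) {m : ℕ} (hm : 2 ≤ m)
    (e : ↥(Q : Subgroup (G ⧸ center G)) ≃* DihedralGroup m) {x : G ⧸ center G} {M : GL (Fin 2) F}
    {σ : F ≃+* F} (hx : E.Acts x M σ) : σ = 1 := by
  haveI : Fact (Nat.Prime 2) := ⟨Nat.prime_two⟩
  haveI : Fact (Nat.Prime 3) := ⟨Nat.prime_three⟩
  haveI : NeZero m := ⟨by omega⟩
  haveI := E.normal
  have hcard : Nat.card (F ≃+* F) = 2 := AutPSL.card_fieldAuts (p := 3) (f := 2) (by rw [h9]; norm_num)
  have hsig : ∀ τ : F ≃+* F, τ * τ = 1 := fun τ => by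
    rw [← sq, ← hcard]; exact pow_card_eq_one'
  have h2 : (2 : F) ≠ 0 := Ring.two_ne_zero fun h => by
    have := FiniteField.even_card_of_char_two h
    omega
  obtain ⟨i, hi⟩ := FiniteField.isSquare_neg_one_iff.2 (show Fintype.card F % 4 ≠ 3 by omega)
  have hi0 : i ≠ 0 := fun h => by rw [h, mul_zero] at hi; exact neg_ne_zero.2 one_ne_zero hi
  have hii : i⁻¹ = -i := inv_eq_of_mul_eq_one_right (by linear_combination hi)
  set w := E.ρ wW with hw
  set r := E.ρ (hT i hi0) with hr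
  have hw1 : w ≠ 1 := by
    rw [hw, Ne, E.eq_one_iff]
    rintro (h | h) <;> simpa [wW, coe_mk2] using congrFun (congrFun h 0) 1
  have hr1 : r ≠ 1 := by
    rw [hr, Ne, E.eq_one_iff]
    rintro (h | h)
    · have : i = 1 := by simpa [hT, coe_mk2] using congrFun (congrFun h 0) 0
      exact h2 (by linear_combination -(i + 1) * this - hi)
    · have : i = -1 := by simpa [hT, coe_mk2] using congrFun (congrFun h 0) 0
      exact h2 (by linear_combination -(i - 1) * this - hi)
  have hwr1 : w * r ≠ 1 := by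
    rw [hw, hr, ← map_mul, Ne, E.eq_one_iff]
    rintro (h | h) <;>
      simpa [wW, hT, coe_mk2, Matrix.mul_apply, Fin.sum_univ_two] using congrFun (congrFun h 0) 0
  have hww : w * w = 1 := by
    rw [hw, ← map_mul, E.eq_one_iff]
    right
    ext a b
    fin_cases a <;> fin_cases b <;> simp [wW, coe_mk2, Matrix.mul_apply, Fin.sum_univ_two]
  have hrr : r * r = 1 := by
    rw [hr, ← map_mul, E.eq_one_iff]
    right
    ext a b
    fin_cases a <;> fin_cases b <;>
      simp [hT, coe_mk2, Matrix.mul_apply, Fin.sum_univ_two, hii, ← hi]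
  have hwr : w * r = r * w := by
    rw [hw, hr, E.commute_iff]
    right
    ext a b
    fin_cases a <;> fin_cases b <;> simp [wW, hT, coe_mk2, Matrix.mul_apply, Fin.sum_univ_two, hii]
  -- square determinant
  have hsquare : ∀ (y : G ⧸ center G) (N : GL (Fin 2) F) (τ : F ≃+* F), E.Acts y N τ →
      IsSquare (N : M2).det → τ = 1 := by
    intro y N τ hy hsq
    by_contra hτ
    obtain ⟨b, hb⟩ := hsq
    obtain ⟨-, s, hs⟩ := Emb.exists_sl_of_det hb
    set a := (E.ρ s)⁻¹ * y
    have ha : ∀ t, a * E.ρ t * a⁻¹ = E.ρ (AutPSL.fieldSL τ t) := hy.adjust hs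
    have ha' : E.Acts a 1 τ := fun t => by rw [map_one, MulAut.one_apply]; exact ha t
    have hnr := E.notMem_range ha' hτ
    have haa : a * a = 1 := E.cent _ fun t => by
      refine mul_inv_eq_iff_eq_mul.1 ?_
      calc a * a * E.ρ t * (a * a)⁻¹ = a * (a * E.ρ t * a⁻¹) * a⁻¹ := by group
        _ = E.ρ (((AutPSL.fieldSL τ * AutPSL.fieldSL τ : MulAut SL2)) t) := by rw [ha, ha]; rfl
        _ = E.ρ t := by rw [← map_mul, hsig, map_one]; rfl
    have haw : a * w = w * a := mul_inv_eq_iff_eq_mul.1 (by rw [hw, ha, fieldSL_wW])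
    have har : a * r = r * a := mul_inv_eq_iff_eq_mul.1 (by
      rw [hr, ha, fieldSL_hT, E.eq_iff]
      have h := congrArg τ hi
      rw [map_neg, map_one, map_mul, hi] at h
      rcases mul_self_eq_mul_self_iff.1 h.symm with h | h
      · left
        simp [hT, coe_mk2, h]
      · right
        ext a b
        fin_cases a <;> fin_cases b <;> simp [hT, coe_mk2, h])
    have hrg : ∀ z ∈ E.ρ.range, a * z ≠ 1 := fun z hz h =>
      hnr (by rw [eq_inv_of_mul_eq_one_left h]; exact inv_mem hz)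
    refine sylow_no_three Q e haa hww hrr haw har hwr ?_ hw1 hr1 (hrg _ ⟨_, rfl⟩) (hrg _ ⟨_, rfl⟩) hwr1
      (hrg _ (mul_mem ⟨_, rfl⟩ ⟨_, rfl⟩))
    exact fun h => hnr (h ▸ one_mem _)
  by_contra hσ
  set d := (M : M2).det with hd
  have hns : ¬ IsSquare d := fun h => hσ (hsquare x M σ hx h)
  -- a two-element outside the range
  have hxx : x * x ∈ E.ρ.range := by
    obtain ⟨b, hb⟩ := isSquare_mul_of_not hns fun h => hns ((isSquare_apply_iff σ).1 h)
    have h := hx.mul hx
    rw [hsig] at h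
    obtain ⟨-, s, hs⟩ := Emb.exists_sl_of_det (M := M * GeneralLinearGroup.map σ.toRingHom M)
      (b := b) (by rw [Emb.det_mul_map, ← hd, hb])
    exact ⟨s, (E.eq_rho h hs).symm⟩
  obtain ⟨a, b, hxab, hax, -, hao, k, hbk⟩ := exists_split x
  have har : a ∈ E.ρ.range := by
    obtain ⟨n, rfl⟩ := mem_zpowers_iff.1 hax
    obtain ⟨l, hl⟩ := hao
    have h1 : (x ^ n) ^ (2 * l + 1) = 1 := hl ▸ pow_orderOf_eq_one _
    have h3 : x ^ n = ((x * x) ^ n) ^ (l + 1) := by
      rw [(Commute.refl x).mul_zpow, ← sq, ← pow_mul,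
        show 2 * (l + 1) = (2 * l + 1) + 1 by ring, pow_succ, h1, one_mul]
    rw [h3]
    exact pow_mem (zpow_mem hxx _) _
  have hbr : b ∉ E.ρ.range := fun h => E.notMem_range hx hσ (hxab ▸ mul_mem har h)
  obtain ⟨c, -, hc⟩ := exists_conj_into Q (C := ⊤) le_top le_top (isPGroup_zpowers hbk)
  have hu : c * b * c⁻¹ ∈ (Q : Subgroup (G ⧸ center G)) := hc b (mem_zpowers b)
  have hur : c * b * c⁻¹ ∉ E.ρ.range := fun h => hbr (by
    have := E.normal.conj_mem _ h c⁻¹
    rwa [show c⁻¹ * (c * b * c⁻¹) * c⁻¹⁻¹ = b by group] at this)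
  -- a reflection in the range
  obtain ⟨g, -, hg⟩ := exists_conj_into Q (C := ⊤) le_top le_top
    (IsPGroup.to_sup_of_normal_left' (isPGroup_of_invol hww) (isPGroup_of_invol hrr)
      (zpowers_le_normalizer hwr))
  obtain ⟨v, hv, hvr, j, hvj⟩ : ∃ v, ∃ hv : v ∈ (Q : Subgroup (G ⧸ center G)), v ∈ E.ρ.range ∧
      ∃ j, e ⟨v, hv⟩ = DihedralGroup.sr j := by
    have m1 := hg w (mem_sup_left (mem_zpowers w))
    have m2 := hg r (mem_sup_right (mem_zpowers r))
    have sq1 : ∀ (y : G ⧸ center G) (hy : g * y * g⁻¹ ∈ (Q : Subgroup (G ⧸ center G))), y * y = 1 →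
        e ⟨_, hy⟩ * e ⟨_, hy⟩ = 1 := by
      intro y hy h
      rw [← map_mul, map_eq_one_iff e e.injective]
      refine Subtype.ext ?_
      show g * y * g⁻¹ * (g * y * g⁻¹) = 1
      calc g * y * g⁻¹ * (g * y * g⁻¹) = g * (y * y) * g⁻¹ := by group
        _ = 1 := by rw [h, mul_one, mul_inv_cancel]
    have ne1 : ∀ (y : G ⧸ center G) (hy : g * y * g⁻¹ ∈ (Q : Subgroup (G ⧸ center G))), y ≠ 1 →
        e ⟨_, hy⟩ ≠ 1 := fun y hy h1 h =>
      h1 (conj_eq_one_iff.1 (congrArg Subtype.val ((map_eq_one_iff e e.injective).1 h)))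
    rcases hA : e ⟨_, m1⟩ with p | p
    · rcases hB : e ⟨_, m2⟩ with p' | p'
      · have h := dihedral_rot (sq1 _ m1 hww) (sq1 _ m2 hrr) (ne1 _ m1 hw1) (ne1 _ m2 hr1) ⟨p, hA⟩
          ⟨p', hB⟩
        rw [← map_mul, map_eq_one_iff e e.injective] at h
        have h' : g * (w * r) * g⁻¹ = 1 := by
          rw [show g * (w * r) * g⁻¹ = g * w * g⁻¹ * (g * r * g⁻¹) by group]
          exact congrArg Subtype.val h
        exact absurd (conj_eq_one_iff.1 h') hwr1
      · exact ⟨_, m2, E.normal.conj_mem _ ⟨_, rfl⟩ g, p', hB⟩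
    · exact ⟨_, m1, E.normal.conj_mem _ ⟨_, rfl⟩ g, p, hA⟩
  -- an involution outside the range
  obtain ⟨y, hyy, hyr⟩ : ∃ y, y * y = 1 ∧ y ∉ E.ρ.range := by
    have sr1 : ∀ (y : G ⧸ center G) (hy : y ∈ (Q : Subgroup (G ⧸ center G))) (l : ZMod m),
        e ⟨y, hy⟩ = DihedralGroup.sr l → y * y = 1 := fun y hy l h => by
      have h1 : e (⟨y, hy⟩ * ⟨y, hy⟩) = 1 := by
        rw [map_mul, h, DihedralGroup.sr_mul_sr, sub_self, DihedralGroup.r_zero]
      exact congrArg Subtype.val ((map_eq_one_iff e e.injective).1 h1)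
    rcases hA : e ⟨_, hu⟩ with p | p
    · refine ⟨c * b * c⁻¹ * v, sr1 _ (mul_mem hu hv) (j - p) ?_, fun h => hur ?_⟩
      · rw [← DihedralGroup.r_mul_sr, ← hA, ← hvj, ← map_mul]
        rfl
      · exact (Subgroup.mul_mem_cancel_right _ hvr).1 h
    · exact ⟨_, sr1 _ hu p hA, hur⟩
  obtain ⟨N, τ, hy⟩ := E.exists_acts y
  set δ := (N : M2).det with hδ
  have hδ0 : δ ≠ 0 := ((Matrix.isUnit_iff_isUnit_det _).1 N.isUnit).ne_zero
  have hτ : τ ≠ 1 := by
    rintro rfl
    by_cases h : IsSquare δ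
    · obtain ⟨b', hb'⟩ := h
      obtain ⟨-, s, hs⟩ := Emb.exists_sl_of_det hb'
      exact hyr ⟨s, (E.eq_rho hy hs).symm⟩
    · have h1 := hy.mul hx
      rw [one_mul] at h1
      exact hσ (hsquare _ _ _ h1 (by rw [Emb.det_mul_map, ← hδ, ← hd]; exact isSquare_mul_of_not h hns))
  have hnsδ : ¬ IsSquare δ := fun h => hτ (hsquare y N τ hy h)
  have h1 : E.Acts (1 : G ⧸ center G) 1 1 := fun t => by simp
  have h11 := hy.mul hy
  rw [hyy] at h11
  obtain ⟨-, l, hl⟩ := E.acts_unique h1 h11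
  rw [Units.val_one] at hl
  have hlN : (N : M2) * (N : M2).map τ = l • (1 : M2) := hl
  have hmm : ((N : M2).map τ).map τ = (N : M2) := by
    ext a b
    exact RingEquiv.congr_fun (hsig τ) _
  have hlN' : (N : M2).map τ * (N : M2) = τ l • (1 : M2) := by
    have h := congrArg (fun A : M2 => A.map τ.toRingHom) hlN
    simp only [Matrix.map_mul] at h
    rw [show ((N : M2).map τ).map τ.toRingHom = (N : M2) from hmm] at h
    rw [show (N : M2).map τ = (N : M2).map τ.toRingHom from rfl, h]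
    ext a b
    fin_cases a <;> fin_cases b <;> simp
  have hfix : τ l = l := by
    have h : (l - τ l) • (N : M2) = 0 := by
      have e1 : (N : M2) * (N : M2).map τ * (N : M2) = (N : M2) * ((N : M2).map τ * (N : M2)) :=
        Matrix.mul_assoc _ _ _
      rw [hlN, hlN', Matrix.smul_mul, Matrix.one_mul, Matrix.mul_smul, Matrix.mul_one] at e1
      rw [sub_smul, e1, sub_self]
    rcases smul_eq_zero.1 h with h | h
    · exact (sub_eq_zero.1 h).symm
    · rw [hδ, h, Matrix.det_zero] at hδ0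
      exact absurd rfl hδ0
  have hdet : δ * τ δ = l * l := by
    have h := congrArg Matrix.det hlN
    rw [det_mul, det_smul, det_one, mul_one, Fintype.card_fin, sq,
      show ((N : M2).map τ).det = τ δ from (τ.toRingHom.map_det _).symm] at h
    exact h
  have hl0 : l ≠ 0 := fun e => by
    rw [e, mul_zero, mul_eq_zero] at hdet
    exact hδ0 (hdet.elim id fun h => by simpa using h)
  have hl4 : l ^ 4 = 1 := by
    by_contra h4
    refine hτ (RingEquiv.ext fun t => ?_)
    show τ t = t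
    by_cases ht : t = 0
    · rw [ht, map_zero]
    have hcard8 : Nat.card Fˣ = 8 := by rw [Nat.card_units, Nat.card_eq_fintype_card, h9]
    have hord : orderOf (Units.mk0 l hl0) = 8 := by
      have hdvd := orderOf_dvd_natCard (Units.mk0 l hl0)
      rw [hcard8] at hdvd
      have h4' : ¬ orderOf (Units.mk0 l hl0) ∣ 4 := fun h => h4 (by
        simpa using congrArg Units.val (orderOf_dvd_iff_pow_eq_one.1 h))
      have := Nat.le_of_dvd (by norm_num) hdvd
      interval_cases orderOf (Units.mk0 l hl0) <;> simp_all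
    have htop : zpowers (Units.mk0 l hl0) = ⊤ :=
      eq_top_of_card_eq _ (by rw [Nat.card_zpowers, hord, hcard8])
    obtain ⟨n, hn⟩ := mem_zpowers_iff.1 (htop ▸ mem_top (Units.mk0 t ht))
    have ht' : t = l ^ n := by simpa using (congrArg Units.val hn).symm
    rw [ht', map_zpow₀, hfix]
  have hF := ringChar_ne_two h2
  have hlsq : IsSquare l := (FiniteField.isSquare_iff hF hl0).2 (by rw [h9]; exact hl4)
  set u := l / δ with hu'
  have hu0 : u ≠ 0 := div_ne_zero hl0 hδ0
  have husq : IsSquare u := by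
    by_cases h : u = -1
    · rw [h]; exact FiniteField.isSquare_neg_one_iff.2 (by omega)
    have hnorm : τ u * u = 1 := by
      rw [hu', map_div₀, hfix, div_mul_div_comm, mul_comm (τ δ), hdet, div_self (mul_ne_zero hl0 hl0)]
    have hττ : ∀ z, τ (τ z) = z := fun z => RingEquiv.congr_fun (hsig τ) z
    set w' := 1 + τ u with hw'
    have hw0 : w' ≠ 0 := fun e => h (by
      have h' := congrArg τ e
      rw [map_zero, hw', map_add, map_one, hττ] at h'
      linear_combination h')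
    have he : τ w' * w' = u * (w' * w') := by
      rw [hw', map_add, map_one, hττ]
      linear_combination (-(1 + τ u)) * hnorm
    have hsq : IsSquare (τ w' * w') := by
      by_cases hh : IsSquare w'
      · exact (hh.map τ).mul hh
      · exact isSquare_mul_of_not (fun h => hh ((isSquare_apply_iff τ).1 h)) hh
    obtain ⟨q, hq⟩ := hsq
    refine ⟨q / w', ?_⟩
    rw [div_mul_div_comm, ← hq, he, mul_div_assoc, div_self (mul_ne_zero hw0 hw0), mul_one]
  apply hnsδ
  obtain ⟨p, hp⟩ := hlsq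
  obtain ⟨q, hq⟩ := husq
  refine ⟨p / q, ?_⟩
  rw [div_mul_div_comm, ← hp, ← hq, hu']
  field_simp

/-- No field automorphisms occur. -/
theorem field_part (hG : Crit G) (E : Emb G F) (hq : 4 < Fintype.card F)
    (hnine : Fintype.card F = 9 → ∃ (P : Sylow 2 G) (m : ℕ), 2 ≤ m ∧
      Nonempty (↥((P : Subgroup G).map (qc G)) ≃* DihedralGroup m))
    (x : G ⧸ center G) : ∃ M : GL (Fin 2) F, E.Acts x M 1 := by
  obtain ⟨M, σ, hx⟩ := E.exists_acts x
  refine ⟨M, ?_⟩
  obtain rfl : σ = 1 := by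
    by_cases h9 : Fintype.card F = 9
    · obtain ⟨P, m, hm, ⟨e⟩⟩ := hnine h9
      exact hG.sigma_one_nine E h9 (P.mapSurjective qc_surjective) hm e hx
    · exact hG.sigma_one_of_ne_nine E hq h9 hx
  exact hx

end Crit

end Cfsg.Agent.Lib.MinNonCA23
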