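import Cfsg.Agent.Lib.MinNonCA23.Toral
import Cfsg.Agent.Lib.MinNonCA23.Fields
import Cfsg.Agent.Lib.Schur.LiftSL2

/-!
# Minimal non-CA-groups: no field automorphisms

Owner: helper23.
-/

set_option autoImplicit false
set_option linter.style.haveILetI false

open Subgroup Matrix

namespace Cfsg.Agent.Lib.MinNonCA23

universe u

variable {G : Type u} [Group G] {F : Type} [Field F]

local notation "SL2" => Matrix.SpecialLinearGroup (Fin 2) F
local notation "M2" => Matrix (Fin 2) (Fin 2) F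

namespace Emb

variable (E : Emb G F)

theorem acts_unique {x : G ⧸ center G} {M M' : GL (Fin 2) F} {σ σ' : F ≃+* F} (hx : E.Acts x M σ)
    (hy : E.Acts x M' σ') : σ = σ' ∧ ∃ c : F, (M' : M2) = c • (M : M2) := by
  have key : (AutPSL.conjAut M * AutPSL.fieldAut σ :
      MulAut (Matrix.ProjectiveSpecialLinearGroup (Fin 2) F)) = AutPSL.conjAut M' * AutPSL.fieldAut σ' := by
    refine MulEquiv.ext fun y => ?_
    induction y using QuotientGroup.induction_on with
    | _ s =>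
      rw [MulAut.mul_apply, MulAut.mul_apply, AutPSL.fieldAut_mk, AutPSL.fieldAut_mk, AutPSL.conjAut_mk,
        AutPSL.conjAut_mk]
      refine QuotientGroup.eq.2 ?_
      rw [← E.ker, MonoidHom.mem_ker, map_mul, map_inv, ← hx s, ← hy s, inv_mul_cancel]
  obtain ⟨h1, h2⟩ := AutPSL.conjAut_mul_fieldAut_injective le_rfl key
  obtain ⟨c, hc⟩ := Matrix.GeneralLinearGroup.mem_center_iff_val_mem_range_scalar.1 h1
  refine ⟨h2, c, ?_⟩
  have e : (M' : M2) = (M : M2) * ((M⁻¹ * M' : GL (Fin 2) F) : M2) := by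
    rw [← Units.val_mul, mul_inv_cancel_left]
  rw [e, ← hc, Matrix.scalar_apply, ← smul_one_eq_diagonal, Matrix.mul_smul, Matrix.mul_one]

/-- Elements with a field automorphism lie outside the range. -/
theorem notMem_range {x : G ⧸ center G} {M : GL (Fin 2) F} {σ : F ≃+* F} (hx : E.Acts x M σ)
    (hσ : σ ≠ 1) : x ∉ E.ρ.range := by
  rintro ⟨t, rfl⟩
  exact hσ (E.acts_unique hx (E.acts_rho t)).1

theorem exists_phi [Fintype F] (hq : 4 < Fintype.card F) (h9 : Fintype.card F ≠ 9) :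
    ∃ φ : SL2 →* G, ∀ s, qc G (φ s) = E.ρ s := by
  obtain ⟨φ, hφ⟩ := Schur.LiftSL2.exists_lift (π := qc G)
    (le_of_eq (QuotientGroup.ker_mk' _)) qc_surjective E.ρ
    (by rwa [Nat.card_eq_fintype_card]) (by rwa [Nat.card_eq_fintype_card])
  exact ⟨φ, fun s => DFunLike.congr_fun hφ s⟩

variable {E}

/-- Lifts of actions act exactly. -/
theorem conj_lift [Fintype F] (hq : 4 ≤ Fintype.card F) (φ : SL2 →* G) (hφ : ∀ s, qc G (φ s) = E.ρ s)
    {x : G ⧸ center G} {M : GL (Fin 2) F} {σ : F ≃+* F} (hx : E.Acts x M σ) {g : G} (hg : qc G g = x)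
    (s : SL2) : g * φ s * g⁻¹ = φ (AutPSL.conjSL M (AutPSL.fieldSL σ s)) := by
  have h := hom_ext_of_qc (commutator_sl hq) ((MulAut.conj g).toMonoidHom.comp φ)
    (φ.comp ((AutPSL.conjSL M).toMonoidHom.comp (AutPSL.fieldSL σ).toMonoidHom)) fun t => by
      refine qc_eq_iff.1 ?_
      show qc G (g * φ t * g⁻¹) = qc G (φ (AutPSL.conjSL M (AutPSL.fieldSL σ t)))
      rw [qc_conj, hg, hφ, hφ, hx t]
  exact DFunLike.congr_fun h s

/-- A matrix whose determinant is a square is a multiple of one of determinant `1`. -/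
theorem exists_sl_of_det {M : GL (Fin 2) F} {b : F} (hb : (M : M2).det = b * b) :
    b ≠ 0 ∧ ∃ s : SL2, (M : M2) = b • (s : M2) := by
  have hd : (M : M2).det ≠ 0 := ((Matrix.isUnit_iff_isUnit_det _).1 M.isUnit).ne_zero
  have hb0 : b ≠ 0 := fun e => hd (by rw [hb, e, mul_zero])
  refine ⟨hb0, ⟨b⁻¹ • (M : M2), ?_⟩, ?_⟩
  · rw [det_smul, hb, Fintype.card_fin]
    field_simp
  · show (M : M2) = b • (b⁻¹ • (M : M2))
    rw [smul_smul, mul_inv_cancel₀ hb0, one_smul]

/-- Elements of square determinant become pure field automorphisms. -/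
theorem Acts.adjust {x : G ⧸ center G} {M : GL (Fin 2) F} {σ : F ≃+* F} (hx : E.Acts x M σ) {b : F}
    {s : SL2} (h : (M : M2) = b • (s : M2)) (t : SL2) :
    (E.ρ s)⁻¹ * x * E.ρ t * ((E.ρ s)⁻¹ * x)⁻¹ = E.ρ (AutPSL.fieldSL σ t) := by
  have h1 : (E.ρ s)⁻¹ * x * E.ρ t * ((E.ρ s)⁻¹ * x)⁻¹ = (E.ρ s)⁻¹ * (x * E.ρ t * x⁻¹) * E.ρ s := by
    group
  rw [h1, hx t, conjSL_congr (M := Matrix.SpecialLinearGroup.toGL s) h, AutPSL.conjSL_toGL,
    MulAut.conj_apply, map_mul, map_mul, map_inv]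
  group

theorem det_mul_map {M N : GL (Fin 2) F} (σ : F ≃+* F) :
    ((M * GeneralLinearGroup.map σ.toRingHom N : GL (Fin 2) F) : M2).det =
      (M : M2).det * σ (N : M2).det := by
  rw [Units.val_mul, Matrix.det_mul]
  congr 1
  exact (σ.toRingHom.map_det _).symm

end Emb

theorem hT_conj_wW (c : F) (hc : c ≠ 0) :
    (wW : SL2) * hT c hc * wW⁻¹ = hT c⁻¹ (inv_ne_zero hc) := by
  rw [mul_inv_eq_iff_eq_mul]
  refine Subtype.ext ?_
  ext i j
  fin_cases i <;> fin_cases j <;> simp [hT, wW, coe_mk2, Matrix.mul_apply, Fin.sum_univ_two]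

namespace Crit

variable [Finite G] [Fintype F]

theorem sigma_one_of_square (hG : Crit G) (E : Emb G F) (hq : 4 < Fintype.card F)
    (h9 : Fintype.card F ≠ 9) {x : G ⧸ center G} {M : GL (Fin 2) F} {σ : F ≃+* F} (hx : E.Acts x M σ)
    (hsq : IsSquare (M : M2).det) : σ = 1 := by
  obtain ⟨b, hb⟩ := hsq
  obtain ⟨-, s, hs⟩ := Emb.exists_sl_of_det hb
  obtain ⟨φ, hφ⟩ := E.exists_phi hq h9
  set x' := (E.ρ s)⁻¹ * x
  have hx' : E.Acts x' 1 σ := fun t => by rw [map_one, MulAut.one_apply]; exact hx.adjust hs t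
  obtain ⟨g, hg⟩ := qc_surjective x'
  have hlift : ∀ t : F, g * φ (uU t) * g⁻¹ = φ (uU (σ t)) := fun t => by
    rw [Emb.conj_lift hq.le φ hφ hx' hg, fieldSL_uU, map_one, MulAut.one_apply]
  have h1 : g * φ (uU 1) = φ (uU 1) * g := by
    have := hlift 1
    rw [map_one] at this
    exact mul_inv_eq_iff_eq_mul.1 this
  refine RingEquiv.ext fun t => ?_
  have hcomm : φ (uU t) * φ (uU 1) = φ (uU 1) * φ (uU t) := by
    rw [← map_mul, ← map_mul]
    exact congrArg φ ((Commute.all (Multiplicative.ofAdd t) (Multiplicative.ofAdd (1 : F))).map uHom).eq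
  have h2 : g * φ (uU t) = φ (uU t) * g := hG.abelian_centralizer_uU E hq.le (hφ _) h1 hcomm
  have h3 : E.ρ (uU (σ t)) = E.ρ (uU t) := by
    rw [← hφ, ← hφ, ← hlift, h2, mul_inv_cancel_right]
  show σ t = t
  rcases E.eq_iff.1 h3 with h | h
  · simpa [uU, coe_mk2] using (congrFun (congrFun h 0) 1).symm
  · have e0 := congrFun (congrFun h 0) 0
    have e1 := congrFun (congrFun h 0) 1
    simp [uU, coe_mk2] at e0 e1
    linear_combination e1 - t * e0

theorem sigma_one_of_ne_nine (hG : Crit G) (E : Emb G F) (hq : 4 < Fintype.card F)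
    (h9 : Fintype.card F ≠ 9) {x : G ⧸ center G} {M : GL (Fin 2) F} {σ : F ≃+* F}
    (hx : E.Acts x M σ) : σ = 1 := by
  by_contra hσ
  set d := (M : M2).det with hd
  have hns : ¬ IsSquare d := fun h => hσ (hG.sigma_one_of_square E hq h9 hx h)
  have hd0 : d ≠ 0 := fun e => hns (e ▸ IsSquare.zero)
  have hσσ : σ * σ = 1 := hG.sigma_one_of_square E hq h9 (hx.mul hx) (by
    rw [Emb.det_mul_map, ← hd]
    exact isSquare_mul_of_not hns (fun h => hns ((isSquare_apply_iff σ).1 h)))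
  have hcard := card_fixedSub_mul hσ hσσ
  have h16 : 4 * 4 ≤ Fintype.card F := by
    by_contra h
    rcases Nat.lt_or_ge (Nat.card (fixedSub σ)) 4 with h' | h'
    · interval_cases Nat.card (fixedSub σ) <;> omega
    · exact h (hcard ▸ Nat.mul_le_mul h' h')
  obtain ⟨s, hs⟩ : ∃ s : SL2, (s : M2) = (M : M2) * !![d⁻¹, 0; 0, 1] :=
    ⟨⟨_, by rw [det_mul, ← hd, det_fin_two_of, mul_one, mul_zero, sub_zero, mul_inv_cancel₀ hd0]⟩, rfl⟩
  have hMs : M = Matrix.SpecialLinearGroup.toGL s * diagGL d hd0 := by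
    refine Units.ext ?_
    rw [Units.val_mul, coe_diagGL]
    show (M : M2) = (s : M2) * _
    rw [hs, Matrix.mul_assoc]
    have : (!![d⁻¹, 0; 0, 1] : M2) * !![d, 0; 0, 1] = 1 := by
      ext i j
      fin_cases i <;> fin_cases j <;> simp [Matrix.mul_apply, Fin.sum_univ_two, hd0]
    rw [this, Matrix.mul_one]
  set y := E.ρ wW * (E.ρ s)⁻¹ * x
  have hy : E.Acts y (Matrix.SpecialLinearGroup.toGL wW * diagGL d hd0) σ := by
    intro t
    have h1 : y * E.ρ t * y⁻¹ = E.ρ wW * ((E.ρ s)⁻¹ * (x * E.ρ t * x⁻¹) * E.ρ s) * (E.ρ wW)⁻¹ := by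
      simp only [y]; group
    rw [h1, hx t, hMs, map_mul, map_mul, MulAut.mul_apply, MulAut.mul_apply, AutPSL.conjSL_toGL,
      AutPSL.conjSL_toGL, MulAut.conj_apply, MulAut.conj_apply]
    simp only [map_mul, map_inv]
    group
  obtain ⟨φ, hφ⟩ := E.exists_phi hq h9
  obtain ⟨g, hg⟩ := qc_surjective y
  have hlift : ∀ (c : F) (hc : c ≠ 0),
      g * φ (hT c hc) * g⁻¹ = φ (hT (σ c)⁻¹ (inv_ne_zero (by simpa using hc))) := by
    intro c hc
    rw [Emb.conj_lift hq.le φ hφ hy hg, fieldSL_hT, map_mul, MulAut.mul_apply,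
      AutPSL.conjSL_toGL, MulAut.conj_apply]
    congr 1
    rw [(Emb.conjSL_eq_iff (t := hT (σ c) (by simpa using hc))).2 ?_, hT_conj_wW]
    rw [coe_diagGL]
    ext i j
    fin_cases i <;> fin_cases j <;> simp [hT, coe_mk2, Matrix.mul_apply, Fin.sum_univ_two, mul_comm]
  obtain ⟨a, ha, hna, ha4⟩ := exists_norm_one hσ hσσ h16
  have h1 : g * φ (hT a ha) = φ (hT a ha) * g := by
    refine mul_inv_eq_iff_eq_mul.1 ((hlift a ha).trans (congrArg φ (Subtype.ext ?_)))
    rw [hT, hT, coe_mk2, coe_mk2, inv_eq_of_mul_eq_one_right hna]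
  refine absurd (card_le_of_norm_sq σ (fun b => by rw [map_add, map_one]) fun c hc => ?_) (by omega)
  have hcomm : φ (hT c hc) * φ (hT a ha) = φ (hT a ha) * φ (hT c hc) := by
    rw [← map_mul, ← map_mul]
    exact congrArg φ ((Commute.all (Units.mk0 c hc) (Units.mk0 a ha)).map tHom).eq
  have h2 : g * φ (hT c hc) = φ (hT c hc) * g := hG.abelian_centralizer_hT E ha ha4 (hφ _) h1 hcomm
  have hσc : σ c ≠ 0 := by simpa using hc
  have h3 : E.ρ (hT (σ c)⁻¹ (inv_ne_zero hσc)) = E.ρ (hT c hc) := by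
    rw [← hφ, ← hφ, ← hlift c hc, h2, mul_inv_cancel_right]
  rcases E.eq_iff.1 h3 with h | h
  · have e : c = (σ c)⁻¹ := by simpa [hT, coe_mk2] using congrFun (congrFun h 0) 0
    have : σ c * c = 1 := by
      calc σ c * c = σ c * (σ c)⁻¹ := congrArg (σ c * ·) e
        _ = 1 := mul_inv_cancel₀ hσc
    linear_combination (σ c * c + 1) * this
  · have e : c = -(σ c)⁻¹ := by simpa [hT, coe_mk2] using congrFun (congrFun h 0) 0
    have : σ c * c = -1 := by
      calc σ c * c = σ c * (-(σ c)⁻¹) := congrArg (σ c * ·) e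
        _ = -1 := by rw [mul_neg, mul_inv_cancel₀ hσc]
    linear_combination (σ c * c - 1) * this

end Crit

end Cfsg.Agent.Lib.MinNonCA23
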