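import Cfsg.Agent.Lib.MinNonCA23.Witness

/-!
# Minimal non-CA-groups: no socle `A₇`

A three-cycle would be a witness whose centraliser is moved by an inverting element.  Owner: helper23.
-/

set_option autoImplicit false
set_option linter.style.haveILetI false

open Subgroup

namespace Cfsg.Agent.Lib.MinNonCA23

universe u

variable {G : Type u} [Group G] [Finite G]

/-- With dihedral data commuting distinct involutions modulo the centre have non-commuting preimages. -/
theorem Data.lifts_noncomm (hG : Crit G) {P : Sylow 2 G} {z : G} (d : Data P z) {v w : G}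
    (hv : qc G v * qc G v = 1) (hw : qc G w * qc G w = 1) (hvw : qc G v * qc G w = qc G w * qc G v)
    (hv1 : qc G v ≠ 1) (hw1 : qc G w ≠ 1) (hne : qc G v ≠ qc G w) : v * w ≠ w * v := by
  haveI : Fact (Nat.Prime 2) := ⟨Nat.prime_two⟩
  intro hcom
  obtain ⟨c, -, hc⟩ := exists_conj_into (P.mapSurjective (qc_surjective (G := G))) (C := ⊤) le_top le_top
    (IsPGroup.to_sup_of_normal_left' (isPGroup_of_invol hv) (isPGroup_of_invol hw)
      (zpowers_le_normalizer hvw))
  obtain ⟨g, rfl⟩ := qc_surjective c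
  obtain ⟨p, hp, hpe⟩ := mem_map.1 (hc _ (mem_sup_left (mem_zpowers (qc G v))))
  obtain ⟨r, hr, hre⟩ := mem_map.1 (hc _ (mem_sup_right (mem_zpowers (qc G w))))
  have sq : ∀ {p v : G}, qc G p = qc G g * qc G v * (qc G g)⁻¹ → qc G v * qc G v = 1 →
      p * p ∈ center G := fun {p v} h h' => qc_pow_two.1 (by
    rw [h, show qc G g * qc G v * (qc G g)⁻¹ * (qc G g * qc G v * (qc G g)⁻¹) =
      qc G g * (qc G v * qc G v) * (qc G g)⁻¹ by group, h', mul_one, mul_inv_cancel])
  have hpc : p ∉ center G := fun h => hv1 (conj_eq_one_iff.1 (hpe.symm.trans (qc_eq_one.2 h)))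
  have hrc : r ∉ center G := fun h => hw1 (conj_eq_one_iff.1 (hre.symm.trans (qc_eq_one.2 h)))
  have hpr : qc G p ≠ qc G r := fun h => hne (mul_left_cancel (mul_right_cancel (hpe.symm.trans (h.trans hre))))
  have hcomm : p * r = r * p := by
    have c1 : (g * v * g⁻¹)⁻¹ * p ∈ center G := qc_eq_iff.1 (by rw [qc_conj, hpe])
    have c2 : (g * w * g⁻¹)⁻¹ * r ∈ center G := qc_eq_iff.1 (by rw [qc_conj, hre])
    rw [show p = g * v * g⁻¹ * ((g * v * g⁻¹)⁻¹ * p) by group,
      show r = g * w * g⁻¹ * ((g * w * g⁻¹)⁻¹ * r) by group]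
    have h : Commute (g * v * g⁻¹) (g * w * g⁻¹) := conj_commute hcom
    exact ((Commute.mul_left (h.mul_right (comm_of_center c2 _))
      ((comm_of_center c1 _).symm.mul_right (comm_of_center c2 _)))).eq
  by_cases hpz : p * z = z * p
  · by_cases hrz : r * z = z * r
    · exact hpr ((hG.unique_invol d hp hpz (sq hpe hv) hpc).trans
        (hG.unique_invol d hr hrz (sq hre hw) hrc).symm)
    · exact d.not_commute hr hrz hp hpz hpc hcomm
  · rcases d.commute_out hp hpz hr hcomm.symm with h | h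
    · exact hrc h
    · exact hpr (qc_eq_iff.2 h)

omit [Finite G] in
/-- Elements of order three and involutions modulo the centre commuting there commute. -/
theorem commute_three_two {c v : G} (h3 : c * c * c ∈ center G) (h2 : v * v ∈ center G)
    (h : qc G c * qc G v = qc G v * qc G c) : c * v = v * c := by
  set e := c * v * c⁻¹ * v⁻¹ with he
  have hec : e ∈ center G := qc_eq_one.1 (by
    rw [he, map_mul, map_mul, map_mul, h, map_inv, map_inv]; group)
  have hv : c * v * c⁻¹ = e * v := by rw [he]; group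
  have hcom : ∀ y, Commute y e := comm_of_center hec
  clear_value e
  have e2 : e * e = 1 := by
    have h1 : c * (v * v) * c⁻¹ = v * v := by rw [mem_center_iff.1 h2 c]; group
    rw [show c * (v * v) * c⁻¹ = (c * v * c⁻¹) * (c * v * c⁻¹) by group, hv,
      (hcom v).mul_mul_mul_comm e v] at h1
    exact mul_eq_right.1 h1
  have e3 : e * e * e = 1 := by
    have h1 : c * c * c * v * (c * c * c)⁻¹ = v := by rw [← mem_center_iff.1 h3 v]; group
    have hce : c * e * c⁻¹ = e := by rw [(hcom c).eq]; group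
    have h4 : c * c * v * (c * c)⁻¹ = e * e * v := by
      calc c * c * v * (c * c)⁻¹ = c * (c * v * c⁻¹) * c⁻¹ := by group
        _ = c * (e * v) * c⁻¹ := by rw [hv]
        _ = (c * e * c⁻¹) * (c * v * c⁻¹) := by group
        _ = e * e * v := by rw [hce, hv, mul_assoc]
    have h5 : c * c * c * v * (c * c * c)⁻¹ = e * e * e * v := by
      calc c * c * c * v * (c * c * c)⁻¹ = c * (c * c * v * (c * c)⁻¹) * c⁻¹ := by group
        _ = c * (e * e * v) * c⁻¹ := by rw [h4]
        _ = (c * e * c⁻¹) * (c * e * c⁻¹) * (c * v * c⁻¹) := by group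
        _ = e * e * e * v := by rw [hce, hv, ← mul_assoc]
    rw [h5] at h1
    exact mul_eq_right.1 h1
  have e1 : e = 1 := by rw [e2, one_mul] at e3; exact e3
  rw [e1, one_mul] at hv
  exact mul_inv_eq_iff_eq_mul.1 hv

namespace Crit

theorem seven_absurd (hG : Crit G) {P : Sylow 2 G} {z : G} (d : Data P z)
    {N : Subgroup (G ⧸ center G)} (e : ↥N ≃* alternatingGroup (Fin 7)) : False := by
  let ι : alternatingGroup (Fin 7) →* G ⧸ center G := N.subtype.comp e.symm.toMonoidHom
  have hι : Function.Injective ι := Subtype.coe_injective.comp e.symm.injective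
  let c₀ : alternatingGroup (Fin 7) := ⟨Equiv.swap 0 1 * Equiv.swap 1 2, Equiv.Perm.mem_alternatingGroup.2 (by decide)⟩
  let t₀ : alternatingGroup (Fin 7) := ⟨Equiv.swap 0 1 * Equiv.swap 3 4, Equiv.Perm.mem_alternatingGroup.2 (by decide)⟩
  let v₀ : alternatingGroup (Fin 7) := ⟨Equiv.swap 3 4 * Equiv.swap 5 6, Equiv.Perm.mem_alternatingGroup.2 (by decide)⟩
  let w₀ : alternatingGroup (Fin 7) := ⟨Equiv.swap 3 5 * Equiv.swap 4 6, Equiv.Perm.mem_alternatingGroup.2 (by decide)⟩
  obtain ⟨c, hc⟩ := qc_surjective (ι c₀)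
  obtain ⟨v, hv⟩ := qc_surjective (ι v₀)
  obtain ⟨w, hw⟩ := qc_surjective (ι w₀)
  have eqv : ∀ {a b : alternatingGroup (Fin 7)}, a = b → ι a = ι b := fun h => congrArg ι h
  have hcv : qc G c * qc G v = qc G v * qc G c := by
    rw [hc, hv, ← map_mul, ← map_mul]; exact eqv (by decide)
  have hcw : qc G c * qc G w = qc G w * qc G c := by
    rw [hc, hw, ← map_mul, ← map_mul]; exact eqv (by decide)
  have hvv : qc G v * qc G v = 1 := by rw [hv, ← map_mul, ← map_one ι]; exact eqv (by decide)
  have hww : qc G w * qc G w = 1 := by rw [hw, ← map_mul, ← map_one ι]; exact eqv (by decide)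
  have hne : ∀ a : alternatingGroup (Fin 7), a ≠ 1 → ι a ≠ 1 := fun a h => by
    rw [← map_one ι]; exact hι.ne h
  have hvw : v * w ≠ w * v := d.lifts_noncomm hG hvv hww
    (by rw [hv, hw, ← map_mul, ← map_mul]; exact eqv (by decide)) (hv ▸ hne v₀ (by decide))
    (hw ▸ hne w₀ (by decide)) (by rw [hv, hw]; exact hι.ne (by decide))
  have hc3 : c * c * c ∈ center G := qc_eq_one.1 (by
    rw [map_mul, map_mul, hc, ← map_mul, ← map_mul, ← map_one ι]; exact eqv (by decide))
  have hcW : Witness c :=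
    ⟨fun h => hne c₀ (by decide) (hc ▸ qc_eq_one.2 h), v, w,
      (commute_three_two hc3 (qc_pow_two.1 hvv) hcv).symm,
      (commute_three_two hc3 (qc_pow_two.1 hww) hcw).symm, hvw⟩
  refine hG.not_moved hcW (n := ι t₀) ?_ ?_
  · have hinv : ι t₀ * qc G c * (ι t₀)⁻¹ = (qc G c)⁻¹ := by
      rw [hc, ← map_inv, ← map_mul, ← map_mul, ← map_inv]; exact eqv (by decide)
    rw [hinv]
    intro y hy
    rw [mem_centralizer_singleton_iff] at hy ⊢
    exact (Commute.inv_right (show Commute y (qc G c) from hy)).eq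
  · rw [hc, ← map_mul, ← map_mul]
    exact hι.ne (by decide)

end Crit

end Cfsg.Agent.Lib.MinNonCA23
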