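import Cfsg.Agent.Lib.MinNonCA23.Arith
import Cfsg.Agent.Lib.MinNonCA23.Seven
import Cfsg.Agent.Lib.CITSuzuki.Lists

/-!
# Minimal non-CA-groups: the classification, forward direction

Owner: helper23.
-/

set_option autoImplicit false
set_option linter.style.haveILetI false

open Subgroup

namespace Cfsg.Agent.Lib.MinNonCA23

universe u

variable {G : Type u} [Group G] [Finite G]

namespace Crit

theorem forward (hG : Crit G) :
    ∃ (F : Type) (_ : Field F) (_ : Fintype F),
      Nonempty (G ≃* Matrix.ProjectiveSpecialLinearGroup (Fin 2) F) ∧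
        (((Fintype.card F).Prime ∧ 5 < Fintype.card F ∧ ¬ 16 ∣ Fintype.card F ^ 2 - 1) ∨
          ∃ p : ℕ, p.Prime ∧ p ≠ 2 ∧ (Fintype.card F = 3 ^ p ∨ Fintype.card F = 5 ^ p)) := by
  obtain ⟨P⟩ : Nonempty (Sylow 2 G) := inferInstance
  rcases hG.cases_sylow P with ⟨hcomm, F, hF, hFf, hq, N, hN, ⟨e⟩⟩ | ⟨⟨z, d⟩, hdih, hcase⟩
  · rcases hq with ⟨h8, h5⟩ | ⟨n, hn, hcard⟩
    · exact ⟨F, hF, hFf, hG.forward_abelian P hcomm h8 h5 hN e⟩
    · rcases Nat.lt_or_ge n 3 with h | h
      · obtain rfl : n = 2 := by omega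
        obtain ⟨K, hK, hKf, hK5, ⟨e'⟩⟩ :=
          CITSuzuki.Lists.psl_two_four_to_five (by rw [hcard]; norm_num) e
        exact ⟨K, hK, hKf, hG.forward_abelian P hcomm (Or.inr (by rw [hK5])) hK5.ge hN e'⟩
      · exfalso
        obtain ⟨E, -⟩ := exists_emb hN e
        have hq8 : 8 ≤ Fintype.card F := by
          rw [hcard]
          calc 8 = 2 ^ 3 := by norm_num
            _ ≤ 2 ^ n := Nat.pow_le_pow_right (by norm_num) h
        have heven : Even (Fintype.card F) := hcard ▸ Nat.even_pow.2 ⟨even_two, by omega⟩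
        have hfp := hG.field_part E (by omega) fun h9 => absurd (h9 ▸ heven) (by decide)
        obtain ⟨x, hx⟩ := hG.exists_witness
        obtain ⟨h2, -⟩ := hG.witness_invol E (by omega) hfp hx
        have h := FiniteField.odd_card_of_char_ne_two (ringChar_ne_two h2)
        rw [Nat.even_iff] at heven
        omega
  · exfalso
    rcases hcase with ⟨F, hF, hFf, hodd, h3, N, hN, ⟨e⟩⟩ | ⟨N, hN, ⟨e⟩⟩
    · obtain ⟨E, -⟩ := exists_emb hN e
      rw [Nat.odd_iff] at hodd
      have hfp := hG.field_part E (by omega) fun _ => ⟨P, hdih⟩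
      obtain ⟨x, hx⟩ := hG.exists_witness
      exact hG.data_absurd d hx (hG.witness_invol E (by omega) hfp hx).2
    · exact hG.seven_absurd d e

end Crit

end Cfsg.Agent.Lib.MinNonCA23
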