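import Cfsg.Agent.Lib.MinNonCA23.SylowCenter

/-!
# Minimal non-CA-groups: the Sylow `2`-subgroup modulo the centre, non-commutative case

An abelian subgroup `A` of index two of `P`, inverted modulo the centre by the other elements.
Owner: helper23.
-/

set_option autoImplicit false
set_option linter.style.haveILetI false

open Subgroup

namespace Cfsg.Agent.Lib.MinNonCA23

universe u

variable {G : Type u} [Group G]

/-- The data: `z` is an involution modulo the centre, central in `P` modulo the centre, with abelian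
centraliser `A` of index two in `P`, not elementary modulo the centre. -/
structure Data (P : Sylow 2 G) (z : G) : Prop where
  mem : z ∈ P
  sq : z * z ∈ center G
  not_center : z ∉ center G
  central : ∀ p ∈ P, qc G p * qc G z = qc G z * qc G p
  comp : ∀ u ∈ P, ∀ v ∈ P, ∀ w ∈ P, u ∉ center G → v * u = u * v → w * u = u * w → v * w = w * v
  sq_out : ∀ p ∈ P, p * z ≠ z * p → p * p ∈ center G
  invert : ∀ p ∈ P, p * z ≠ z * p → ∀ x ∈ P, x * z = z * x → qc G (p * x * p⁻¹) = (qc G x)⁻¹
  two : ∀ p ∈ P, ∀ r ∈ P, p * z ≠ z * p → r * z ≠ z * r → (p * r) * z = z * (p * r)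
  big : ∃ a ∈ P, a * z = z * a ∧ a * a ∉ center G
  out : ∃ s ∈ P, s * z ≠ z * s

theorem qc_pow_two {x : G} : qc G x * qc G x = 1 ↔ x * x ∈ center G := by
  rw [← map_mul]; exact qc_eq_one

namespace Crit

variable [Finite G]

theorem exists_data (hG : Crit G) (P : Sylow 2 G)
    (hnc : ∃ p ∈ P, ∃ r ∈ P, qc G p * qc G r ≠ qc G r * qc G p) : ∃ z : G, Data P z := by
  haveI : Fact (Nat.Prime 2) := ⟨Nat.prime_two⟩
  obtain ⟨p₀, hp₀, r₀, hr₀, hpr⟩ := hnc
  have hna : ∃ a ∈ P, ∃ b ∈ P, a * b ≠ b * a :=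
    ⟨p₀, hp₀, r₀, hr₀, fun e => hpr (by rw [← map_mul, ← map_mul, e])⟩
  have hPtop := hG.sylow_ne_top P
  have hcomp : ∀ u ∈ P, ∀ v ∈ P, ∀ w ∈ P, u ∉ center G → v * u = u * v → w * u = u * w →
      v * w = w * v := by
    intro u hu v hv w hw huc hvu hwu
    obtain ⟨y, hy, hyu⟩ : ∃ y ∈ P, y * u ≠ u * y := by
      by_contra h
      push Not at h
      exact huc (hG.center_le P hna hu h)
    exact hG.commute_of_moved hPtop hu hv hw hy hvu hwu hyu
  obtain ⟨a, ha, ha2⟩ : ∃ a ∈ P, a * a ∉ center G := by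
    by_contra h
    push Not at h
    apply hpr
    have hinv : ∀ p ∈ P, (qc G p)⁻¹ = qc G p := fun p hp =>
      inv_eq_of_mul_eq_one_right (qc_pow_two.2 (h p hp))
    calc qc G p₀ * qc G r₀ = (qc G (p₀ * r₀))⁻¹ := by
          rw [hinv _ (mul_mem hp₀ hr₀), map_mul]
      _ = qc G r₀ * qc G p₀ := by rw [map_mul, mul_inv_rev, hinv _ hp₀, hinv _ hr₀]
  obtain ⟨z, hz, hz2, hzc, hzcen⟩ : ∃ z ∈ P, z * z ∈ center G ∧ z ∉ center G ∧
      ∀ p ∈ P, qc G p * qc G z = qc G z * qc G p := by
    set Pb := (P : Subgroup G).map (qc G)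
    haveI : Nontrivial Pb := by
      refine (nontrivial_iff_ne_bot _).2 fun e => ha2 ?_
      have : qc G a ∈ Pb := mem_map_of_mem _ ha
      rw [e, mem_bot, qc_eq_one] at this
      exact mul_mem this this
    have hp : IsPGroup 2 Pb := P.isPGroup'.map _
    haveI := hp.center_nontrivial
    obtain ⟨k, hk0, hk⟩ := (hp.to_subgroup (center Pb)).nontrivial_iff_card.1 inferInstance
    obtain ⟨w, hw⟩ := exists_prime_orderOf_dvd_card' (G := center Pb) 2
      (by rw [hk]; exact dvd_pow_self 2 (by omega))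
    obtain ⟨z, hz, hzw⟩ := mem_map.1 (w : Pb).2
    have hord : orderOf (qc G z) = 2 := by rw [hzw, Subgroup.orderOf_coe, Subgroup.orderOf_coe, hw]
    refine ⟨z, hz, ?_, ?_, fun p hp => ?_⟩
    · rw [← qc_pow_two, ← sq, ← hord, pow_orderOf_eq_one]
    · intro h
      rw [qc_eq_one.2 h, orderOf_one] at hord
      omega
    · rw [hzw]
      exact congrArg Subtype.val (mem_center_iff.1 w.2 (⟨qc G p, mem_map_of_mem _ hp⟩ : Pb))
  have hsqout : ∀ p ∈ P, p * z ≠ z * p → p * p ∈ center G := by
    intro p hp hpz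
    by_contra hpc
    apply hpz
    -- `z` commutes with `p * p`
    have hc : p⁻¹ * z⁻¹ * p * z ∈ center G := by
      rw [← qc_eq_one]
      simp only [map_mul, map_inv]
      rw [mul_assoc _ (qc G p), hzcen p hp]; group
    set c := p⁻¹ * z⁻¹ * p * z with hcdef
    have h1 : z⁻¹ * p * z = p * c := by rw [hcdef]; group
    have h2 : z⁻¹ * (p * p) * z = p * p * (c * c) := by
      calc z⁻¹ * (p * p) * z = (z⁻¹ * p * z) * (z⁻¹ * p * z) := by group
        _ = p * (c * p) * c := by rw [h1]; group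
        _ = p * p * (c * c) := by rw [← mem_center_iff.1 hc p]; group
    have h3 : c * c = 1 := by
      have h4 : (z * z)⁻¹ * p * (z * z) = p := by
        rw [mul_assoc _ p, mem_center_iff.1 hz2 p, inv_mul_cancel_left]
      have h5 : (z * z)⁻¹ * p * (z * z) = p * (c * c) := by
        calc (z * z)⁻¹ * p * (z * z) = z⁻¹ * (z⁻¹ * p * z) * z := by group
          _ = z⁻¹ * (p * c) * z := by rw [h1]
          _ = z⁻¹ * p * z * (z⁻¹ * c * z) := by group
          _ = p * c * (z⁻¹ * (c * z)) := by rw [h1]; group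
          _ = p * (c * c) := by rw [← mem_center_iff.1 hc z, inv_mul_cancel_left]; group
      rw [h4] at h5
      exact mul_eq_left.1 h5.symm
    have h6 : z * (p * p) = (p * p) * z := by
      rw [h3, mul_one] at h2
      calc z * (p * p) = z * (z⁻¹ * (p * p) * z) := by rw [h2]
        _ = p * p * z := by group
    exact hcomp (p * p) (mul_mem hp hp) p hp z hz hpc (by group) h6
  have hout : ∃ s ∈ P, s * z ≠ z * s := by
    by_contra h
    push Not at h
    exact hzc (hG.center_le P hna hz h)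
  have hbig : ∃ a ∈ P, a * z = z * a ∧ a * a ∉ center G := by
    refine ⟨a, ha, ?_, ha2⟩
    by_contra haz
    exact ha2 (hsqout a ha haz)
  have hinvert : ∀ p ∈ P, p * z ≠ z * p → ∀ x ∈ P, x * z = z * x →
      qc G (p * x * p⁻¹) = (qc G x)⁻¹ := by
    intro p hp hpz x hx hxz
    have h2 : (p * x) * z ≠ z * (p * x) := fun e => hpz (by
      calc p * z = p * (x * z) * x⁻¹ * 1 := by rw [hxz]; group
           _ = p * x * z * x⁻¹ := by group
           _ = z * (p * x) * x⁻¹ := by rw [e]
           _ = z * p := by group)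
    have h3 := qc_pow_two.2 (hsqout _ (mul_mem hp hx) h2)
    have h4 := qc_pow_two.2 (hsqout p hp hpz)
    rw [map_mul] at h3
    rw [qc_conj]
    calc qc G p * qc G x * (qc G p)⁻¹ = qc G p * qc G x * qc G p := by
          rw [inv_eq_of_mul_eq_one_right h4]
      _ = (qc G p * qc G x * (qc G p * qc G x)) * (qc G x)⁻¹ := by group
      _ = (qc G x)⁻¹ := by rw [h3, one_mul]
  refine ⟨z, hz, hz2, hzc, hzcen, hcomp, hsqout, hinvert, ?_, hbig, hout⟩
  intro p hp r hr hpz hrz
  by_contra h
  obtain ⟨a, ha, haz, ha2⟩ := hbig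
  apply ha2
  have h1 := hinvert (p * r) (mul_mem hp hr) h a ha haz
  have hra : (r * a * r⁻¹) * z = z * (r * a * r⁻¹) := by
    by_contra hne
    have h5 := qc_pow_two.2 (hsqout _ (mul_mem (mul_mem hr ha) (inv_mem hr)) hne)
    rw [qc_conj] at h5
    apply ha2
    rw [← qc_pow_two]
    calc qc G a * qc G a = (qc G r)⁻¹ * (qc G r * qc G a * (qc G r)⁻¹ *
          (qc G r * qc G a * (qc G r)⁻¹)) * qc G r := by group
      _ = 1 := by rw [h5]; group
  have h2 := hinvert p hp hpz _ (mul_mem (mul_mem hr ha) (inv_mem hr)) hra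
  rw [hinvert r hr hrz a ha haz, inv_inv] at h2
  rw [show p * r * a * (p * r)⁻¹ = p * (r * a * r⁻¹) * p⁻¹ by group, h2] at h1
  rw [← qc_pow_two]
  nth_rw 1 [h1]
  exact inv_mul_cancel _

end Crit

namespace Data

variable {P : Sylow 2 G} {z : G} (d : Data P z)
include d

theorem commA {x y : G} (hx : x ∈ P) (hy : y ∈ P) (hxz : x * z = z * x) (hyz : y * z = z * y) :
    x * y = y * x := d.comp z d.mem x hx y hy d.not_center hxz hyz

/-- Elements outside `A` commute only with `Z ∪ rZ`. -/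
theorem commute_out {r x : G} (hr : r ∈ P) (hrz : r * z ≠ z * r) (hx : x ∈ P) (hxr : x * r = r * x) :
    x ∈ center G ∨ r⁻¹ * x ∈ center G := by
  have key : ∀ y ∈ P, y * z = z * y → y * r = r * y → y ∈ center G := by
    intro y hy hyz hyr
    by_contra hyc
    exact hrz (d.comp y hy r hr z d.mem hyc hyr.symm hyz.symm)
  by_cases hxz : x * z = z * x
  · exact Or.inl (key x hx hxz hxr)
  right
  have h1 : r * x ∈ center G := key _ (mul_mem hr hx) (d.two r hr x hx hrz hxz)
    (by rw [mul_assoc, hxr])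
  have h2 : (r * r)⁻¹ * (r * x) ∈ center G := mul_mem (inv_mem (d.sq_out r hr hrz)) h1
  rwa [show (r * r)⁻¹ * (r * x) = r⁻¹ * x by group] at h2

/-- Elements of `A` outside the centre do not commute with elements outside `A`. -/
theorem not_commute {r x : G} (hr : r ∈ P) (hrz : r * z ≠ z * r) (hx : x ∈ P) (hxz : x * z = z * x)
    (hxc : x ∉ center G) : x * r ≠ r * x := fun h => hrz (d.comp x hx r hr z d.mem hxc h.symm hxz.symm)

end Data

end Cfsg.Agent.Lib.MinNonCA23
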