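import Cfsg.Agent.Lib.MinNonCA23.Radical
import Cfsg.Agent.Lib.ZStar.UniqueCase

/-!
# Minimal non-CA-groups: the quotient by the centre

`G ⧸ Z(G)` has no non-trivial solvable normal subgroup; a `2`-element which is isolated modulo the centre
is central (`Z*`).  Owner: helper23.
-/

set_option autoImplicit false
set_option linter.style.haveILetI false

open Subgroup

namespace Cfsg.Agent.Lib.MinNonCA23

universe u

variable {G : Type u} [Group G]

/-- The projection modulo the centre. -/
abbrev qc (G : Type u) [Group G] : G →* G ⧸ center G := QuotientGroup.mk' (center G)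

theorem qc_surjective : Function.Surjective (qc G) := QuotientGroup.mk'_surjective _

theorem qc_eq_one {x : G} : qc G x = 1 ↔ x ∈ center G := QuotientGroup.eq_one_iff x

theorem qc_eq_iff {x y : G} : qc G x = qc G y ↔ x⁻¹ * y ∈ center G := QuotientGroup.eq

theorem comm_of_center {z : G} (hz : z ∈ center G) (g : G) : Commute g z := mem_center_iff.1 hz g

/-- Conjugation commutes with the projection. -/
theorem qc_conj (g x : G) : qc G (g * x * g⁻¹) = qc G g * qc G x * (qc G g)⁻¹ := by
  rw [map_mul, map_mul, map_inv]

namespace Crit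

variable [Finite G]

theorem eq_bot_of_normal_solvable (hG : Crit G) (N : Subgroup (G ⧸ center G)) [N.Normal]
    (hN : Group.IsSolvable N) : N = ⊥ := by
  haveI := hN
  have hle : center G ≤ N.comap (qc G) := fun z hz => by
    rw [mem_comap, qc_eq_one.2 hz]; exact one_mem N
  have hsol : Group.IsSolvable (N.comap (qc G)) := by
    haveI : Group.IsSolvable (center G) := Group.isSolvable_of_comm fun a b => mul_comm' a b
    refine Group.isSolvable_of_ker_le_range (Subgroup.inclusion hle) ((qc G).subgroupComap N) ?_
    intro y hy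
    exact ⟨⟨y, qc_eq_one.1 (congrArg Subtype.val (MonoidHom.mem_ker.1 hy))⟩, Subtype.ext rfl⟩
  rw [eq_bot_iff]
  intro z hz
  obtain ⟨g, rfl⟩ := qc_surjective z
  exact mem_bot.2 (qc_eq_one.2 (hG.le_center _ hsol hz))

theorem eq_bot_of_odd (hG : Crit G) (N : Subgroup (G ⧸ center G)) [N.Normal]
    (hN : Odd (Nat.card N)) : N = ⊥ :=
  hG.eq_bot_of_normal_solvable N (Lib.OddOrder.FeitThompson.isSolvable_of_odd_card hN)

theorem center_quotient (hG : Crit G) : center (G ⧸ center G) = ⊥ :=
  hG.eq_bot_of_normal_solvable _ (Group.isSolvable_of_comm fun a b => mul_comm' a b)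

theorem not_solvable_quotient (hG : Crit G) : ¬ Group.IsSolvable (G ⧸ center G) := fun h =>
  hG.nonsolvable (isSolvable_of_normal _ (Group.isSolvable_of_comm fun a b => mul_comm' a b) h)

theorem comap_centralizer_ne_top (hG : Crit G) {x : G} (hx : x ∉ center G) :
    (centralizer ({qc G x} : Set (G ⧸ center G))).comap (qc G) ≠ ⊤ := by
  intro htop
  have : qc G x ∈ center (G ⧸ center G) := by
    rw [mem_center_iff]
    intro y
    obtain ⟨g, rfl⟩ := qc_surjective y
    exact mem_centralizer_singleton_iff.1 (mem_comap.1 (htop ▸ mem_top g))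
  rw [hG.center_quotient, mem_bot] at this
  exact hx (qc_eq_one.1 this)

/-- For a witness the centraliser modulo the centre is the centraliser. -/
theorem commute_of_qc (hG : Crit G) {x : G} (hx : Witness x) {g : G}
    (hg : qc G g * qc G x = qc G x * qc G g) : g * x = x * g := by
  have hle : centralizer ({x} : Set G) ≤ (centralizer ({qc G x} : Set (G ⧸ center G))).comap (qc G) :=
    fun y hy => mem_comap.2 (mem_centralizer_singleton_iff.2 (by
      rw [← map_mul, ← map_mul, mem_centralizer_singleton_iff.1 hy]))
  exact mem_centralizer_singleton_iff.1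
    (hG.le_centralizer_of_le hx (hG.comap_centralizer_ne_top hx.1) hle
      (mem_comap.2 (mem_centralizer_singleton_iff.2 hg)))

/-- For a witness the centraliser in the quotient is maximal. -/
theorem eq_centralizer_of_le (hG : Crit G) {x : G} (hx : Witness x) {H : Subgroup (G ⧸ center G)}
    (hH : H ≠ ⊤) (hle : centralizer ({qc G x} : Set (G ⧸ center G)) ≤ H) :
    H = centralizer ({qc G x} : Set (G ⧸ center G)) := by
  refine le_antisymm (fun y hy => ?_) hle
  obtain ⟨g, rfl⟩ := qc_surjective y
  have hne : H.comap (qc G) ≠ ⊤ := fun e => hH (by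
    rw [← map_comap_eq_self_of_surjective qc_surjective H, e, map_top_of_surjective _ qc_surjective])
  have hle' : centralizer ({x} : Set G) ≤ H.comap (qc G) := fun z hz =>
    hle (mem_centralizer_singleton_iff.2 (by
      rw [← map_mul, ← map_mul, mem_centralizer_singleton_iff.1 hz]))
  rw [mem_centralizer_singleton_iff, ← map_mul, ← map_mul,
    mem_centralizer_singleton_iff.1 (hG.le_centralizer_of_le hx hne hle' hy)]

/-- A `2`-element of a Sylow `2`-subgroup which is isolated modulo the centre is central. -/
theorem not_isolated (hG : Crit G) (P : Sylow 2 G) {t : G} (htP : t ∈ P) (ht2 : t * t ∈ center G)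
    (htc : t ∉ center G)
    (hiso : ∀ g : G, qc G (g * t * g⁻¹) ∈ (P : Subgroup G).map (qc G) →
      qc G (g * t * g⁻¹) = qc G t) : False := by
  haveI : Fact (Nat.Prime 2) := ⟨Nat.prime_two⟩
  have hord : orderOf (qc G t) = 2 :=
    orderOf_eq_prime (by rw [sq, ← map_mul]; exact qc_eq_one.2 ht2) fun e => htc (qc_eq_one.1 e)
  obtain ⟨N, hNn, hNo, hN⟩ := Lib.ZStar.UniqueCase.zstar (P.mapSurjective qc_surjective) (qc G t) hord
    (show qc G t ∈ (P : Subgroup G).map (qc G) from mem_map_of_mem _ htP)
    (fun y hy => by
      obtain ⟨g, rfl⟩ := qc_surjective y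
      rw [← qc_conj] at hy ⊢
      exact hiso g hy)
  haveI := hNn
  have hc : qc G t ∈ center (G ⧸ center G) := by
    rw [mem_center_iff]
    intro y
    have h := hN y
    rw [hG.eq_bot_of_odd N hNo, mem_bot, mul_inv_eq_one, mul_inv_eq_iff_eq_mul] at h
    exact h.symm
  rw [hG.center_quotient, mem_bot] at hc
  exact htc (qc_eq_one.1 hc)

end Crit

end Cfsg.Agent.Lib.MinNonCA23
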