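import Cfsg.Agent.Lib.MinNonCA23.Basic
import Cfsg.Agent.S0034
import Cfsg.Agent.S0042

/-!
# Minimal non-CA-groups: the solvable radical is the centre

A witness centralises every solvable normal subgroup; if it lay in the radical `R`, its centraliser would
be a Frobenius complement modulo `R`.  Owner: helper23.
-/

set_option autoImplicit false
set_option linter.style.haveILetI false

open Subgroup
open scoped Pointwise

namespace Cfsg.Agent.Lib.MinNonCA23

universe u

variable {G : Type u} [Group G] [Finite G]

omit [Finite G] in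
/-- The join with a normal solvable subgroup is solvable. -/
theorem isSolvable_sup (L N : Subgroup G) [N.Normal] (hL : Group.IsSolvable L)
    (hN : Group.IsSolvable N) : Group.IsSolvable (L ⊔ N : Subgroup G) := by
  haveI := hL
  haveI := hN
  set q := QuotientGroup.mk' N
  haveI : Group.IsSolvable (L.map q) :=
    Group.isSolvable_of_surjective (f := q.subgroupMap L) (q.subgroupMap_surjective L)
  have hmem : ∀ y : (L ⊔ N : Subgroup G), q y ∈ L.map q := by
    intro y
    obtain ⟨l, hl, n, hn, hy⟩ := mem_sup_of_normal_right.1 y.2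
    refine ⟨l, hl, ?_⟩
    rw [← hy, map_mul, show q n = 1 from (QuotientGroup.eq_one_iff n).2 hn, mul_one]
  refine Group.isSolvable_of_ker_le_range (Subgroup.inclusion (le_sup_right : N ≤ L ⊔ N))
    ((q.comp (L ⊔ N).subtype).codRestrict (L.map q) hmem) ?_
  intro y hy
  have h1 : q (y : G) = 1 := congrArg Subtype.val (MonoidHom.mem_ker.1 hy)
  exact ⟨⟨y, (QuotientGroup.eq_one_iff (y : G)).1 h1⟩, Subtype.ext rfl⟩

/-- The normaliser of a Sylow `2`-subgroup is solvable. -/
theorem isSolvable_normalizer (P : Sylow 2 G) :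
    Group.IsSolvable (normalizer ((P : Subgroup G) : Set G)) := by
  refine isSolvable_of_normal_sylow (P.subtype le_normalizer) ?_
  rw [Sylow.coe_subtype]
  infer_instance

namespace Crit

theorem centralizer_ne_top {x : G} (hx : x ∉ center G) : centralizer ({x} : Set G) ≠ ⊤ := fun h =>
  hx (mem_center_iff.2 fun g => mem_centralizer_singleton_iff.1 (h ▸ mem_top g))

/-- A proper subgroup containing the centraliser of a witness equals it. -/
theorem le_centralizer_of_le (hG : Crit G) {x : G} (hx : Witness x) {H : Subgroup G} (hH : H ≠ ⊤)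
    (hle : centralizer ({x} : Set G) ≤ H) : H ≤ centralizer ({x} : Set G) := by
  obtain ⟨-, a, b, ha, hb, hab⟩ := hx
  intro y hy
  exact mem_centralizer_singleton_iff.2 (hG.central hH (hle (mem_centralizer_singleton_iff.2 rfl))
    (hle (mem_centralizer_singleton_iff.2 ha)) (hle (mem_centralizer_singleton_iff.2 hb)) ha hb hab hy)

/-- The centraliser of a witness is maximal. -/
theorem isCoatom_centralizer (hG : Crit G) {x : G} (hx : Witness x) :
    IsCoatom (centralizer ({x} : Set G)) := by
  refine ⟨centralizer_ne_top hx.1, fun H hlt => ?_⟩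
  by_contra hH
  exact hlt.not_ge (hG.le_centralizer_of_le hx hH hlt.le)

/-- **B1**: a witness centralises every solvable normal subgroup. -/
theorem commute_normal (hG : Crit G) {x : G} (hx : Witness x) (Q : Subgroup G) [Q.Normal]
    (hQ : Group.IsSolvable Q) {q : G} (hq : q ∈ Q) : q * x = x * q := by
  haveI : Fact (Nat.Prime 2) := ⟨Nat.prime_two⟩
  by_contra hqx
  set M := centralizer ({x} : Set G) with hM
  have hab : ∀ L : Subgroup G, L ≤ M → Group.IsSolvable L → ∀ a ∈ L, ∀ b ∈ L, a * b = b * a := by
    intro L hLM hL a ha b hb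
    haveI := hL
    haveI : Group.IsSolvable (zpowers x) := inferInstance
    have hc : ∀ (l : L) (z : zpowers x), Commute (l : G) (z : G) := by
      rintro ⟨l, hl⟩ ⟨z, hz⟩
      obtain ⟨n, rfl⟩ := mem_zpowers_iff.1 hz
      exact Commute.zpow_right (show Commute l x from mem_centralizer_singleton_iff.1 (hLM hl)) n
    set f : L × zpowers x →* G := MonoidHom.noncommCoprod L.subtype (zpowers x).subtype hc with hf
    haveI : Group.IsSolvable f.range :=
      Group.isSolvable_of_surjective (f := f.rangeRestrict) f.rangeRestrict_surjective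
    have hH := hG.ne_top_of_isSolvable (isSolvable_sup f.range Q inferInstance hQ)
    have hl : ∀ c ∈ L, c ∈ f.range ⊔ Q := fun c hc' =>
      mem_sup_left ⟨(⟨c, hc'⟩, 1), by simp [hf, MonoidHom.noncommCoprod]⟩
    refine hG.commute_of_moved hH (x := x) ?_ (hl a ha) (hl b hb) (mem_sup_right hq)
      (mem_centralizer_singleton_iff.1 (hLM ha)) (mem_centralizer_singleton_iff.1 (hLM hb)) hqx
    exact mem_sup_left ⟨(1, ⟨x, mem_zpowers x⟩), by simp [hf, MonoidHom.noncommCoprod]⟩
  have hsol : Group.IsSolvable M := by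
    by_contra hns
    obtain ⟨P⟩ : Nonempty (Sylow 2 M) := inferInstance
    obtain ⟨a, ha, b, hb, hne⟩ := exists_noncomm_normalizer hns P
    haveI := isSolvable_normalizer P
    have hsl : Group.IsSolvable ((normalizer ((P : Subgroup M) : Set M)).map M.subtype) :=
      Group.isSolvable_of_surjective (f := M.subtype.subgroupMap _) (M.subtype.subgroupMap_surjective _)
    exact hne (Subtype.ext (hab _ (map_subtype_le _) hsl a (mem_map_of_mem _ ha) b (mem_map_of_mem _ hb)))
  obtain ⟨-, a, b, ha, hb, hne⟩ := hx
  exact hne (hab M le_rfl hsol a (mem_centralizer_singleton_iff.2 ha) b (mem_centralizer_singleton_iff.2 hb))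

/-- There is a largest solvable normal subgroup. -/
theorem exists_radical : ∃ R : Subgroup G, R.Normal ∧ Group.IsSolvable R ∧
    ∀ N : Subgroup G, N.Normal → Group.IsSolvable N → N ≤ R := by
  classical
  let S : Set (Subgroup G) := {N | N.Normal ∧ Group.IsSolvable N}
  have hne : S.Nonempty := ⟨⊥, inferInstance, inferInstance⟩
  obtain ⟨R, hR⟩ := S.toFinite.exists_maximal hne
  obtain ⟨hRn, hRs⟩ := hR.1
  refine ⟨R, hRn, hRs, fun N hN hNs => ?_⟩
  haveI := hRn
  haveI := hN
  have hmem : N ⊔ R ∈ S := ⟨inferInstance, isSolvable_sup N R hNs hRs⟩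
  exact le_sup_left.trans (hR.2 hmem le_sup_right)

/-- **B**: a solvable normal subgroup is central. -/
theorem le_center (hG : Crit G) (Q : Subgroup G) [hQn : Q.Normal] (hQ : Group.IsSolvable Q) :
    Q ≤ center G := by
  obtain ⟨R, hRn, hRs, hRmax⟩ := exists_radical (G := G)
  suffices hR : R ≤ center G from (hRmax Q hQn hQ).trans hR
  haveI := hRn
  by_cases hC : Group.IsSolvable (centralizer (R : Set G))
  case neg =>
    exact le_trans (fun r hr => mem_centralizer_iff.2 fun c hc =>
      ((mem_centralizer_iff.1 hc) r hr).symm) (hG.centralizer_le_center (centralizer (R : Set G)) hC)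
  exfalso
  obtain ⟨x, hx⟩ := hG.exists_witness
  have hCR : centralizer (R : Set G) ≤ R := hRmax _ inferInstance hC
  have hxC : x ∈ centralizer (R : Set G) :=
    mem_centralizer_iff.2 fun r hr => hG.commute_normal hx R hRs hr
  set M := centralizer ({x} : Set G) with hM
  have hco := hG.isCoatom_centralizer hx
  have hxM : x ∈ M := mem_centralizer_singleton_iff.2 rfl
  have hRM : R ≤ M := fun r hr => mem_centralizer_singleton_iff.2 (mem_centralizer_iff.1 hxC r hr)
  have hnn : ¬ M.Normal := by
    intro hn
    by_cases hMs : Group.IsSolvable M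
    · obtain ⟨g, -, hg⟩ := SetLike.exists_of_lt hco.1.lt_top
      have htop : zpowers g ⊔ M = ⊤ := by
        refine hco.2 _ (lt_of_le_of_ne le_sup_right fun e => hg ?_)
        rw [e]; exact mem_sup_left (mem_zpowers g)
      exact hG.ne_top_of_isSolvable (isSolvable_sup (zpowers g) M inferInstance hMs) htop
    · exact hx.1 (hG.centralizer_le_center M hMs
        (mem_centralizer_iff.2 fun m hm => mem_centralizer_singleton_iff.1 hm))
  have hNM : normalizer (M : Set G) = M := by
    by_contra h
    exact hnn (normalizer_eq_top_iff.1 (hco.2 _ (lt_of_le_of_ne le_normalizer (Ne.symm h))))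
  have hmal : ∀ g : G, g ∉ M → ∀ h ∈ M, g⁻¹ * h * g ∈ M → h ∈ R := by
    intro g hg h hh hh'
    by_contra hhR
    have hyC : g * x * g⁻¹ ∈ centralizer (R : Set G) :=
      (inferInstance : (centralizer (R : Set G)).Normal).conj_mem x hxC g
    obtain ⟨r, hr, hrh⟩ : ∃ r ∈ R, r * h ≠ h * r := by
      by_contra hall
      push Not at hall
      exact hhR (hCR (mem_centralizer_iff.2 hall))
    have hhy : h * (g * x * g⁻¹) = g * x * g⁻¹ * h := by
      have := mem_centralizer_singleton_iff.1 hh'
      calc h * (g * x * g⁻¹) = g * (g⁻¹ * h * g * x) * g⁻¹ := by group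
        _ = g * (x * (g⁻¹ * h * g)) * g⁻¹ := by rw [this]
        _ = g * x * g⁻¹ * h := by group
    have hall : ∀ m ∈ M, m * (g * x * g⁻¹) = g * x * g⁻¹ * m := fun m hm =>
      hG.central hco.1 (hRM (hCR hyC)) (hRM hr) hh (mem_centralizer_iff.1 hyC r hr) hhy hrh hm
    apply hg
    have hle : M ≤ M.map (MulAut.conj g).toMonoidHom := by
      intro m hm
      refine ⟨g⁻¹ * m * g, mem_centralizer_singleton_iff.2 ?_, by simp [mul_assoc]⟩
      calc g⁻¹ * m * g * x = g⁻¹ * (m * (g * x * g⁻¹)) * g := by group
        _ = g⁻¹ * (g * x * g⁻¹ * m) * g := by rw [hall m hm]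
        _ = x * (g⁻¹ * m * g) := by group
    have heq := eq_of_le_of_card_ge hle
      (le_of_eq (Subgroup.card_map_of_injective (MulAut.conj g).injective))
    rw [← hNM, mem_normalizer_iff]
    intro m
    constructor
    · intro hm
      rw [heq]
      exact ⟨m, hm, rfl⟩
    · intro hm
      rw [heq] at hm
      obtain ⟨m', hm', hmm⟩ := hm
      rwa [show m = m' from ((MulAut.conj g).injective hmm).symm]
  set q := QuotientGroup.mk' R with hq
  have hqsurj : Function.Surjective q := QuotientGroup.mk'_surjective R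
  have hcomap : (M.map q).comap q = M := by
    rw [comap_map_eq, QuotientGroup.ker_mk', sup_eq_left.2 hRM]
  have hFr : Cfsg.IsFrobeniusComplement (M.map q) := by
    refine ⟨fun e => hnn ?_, fun e => hco.1 ?_, fun g hg => ?_⟩
    · have : M = R := le_antisymm (fun m hm => (QuotientGroup.eq_one_iff m).1
        (mem_bot.1 (e ▸ mem_map_of_mem q hm))) hRM
      rw [this]; exact hRn
    · exact hcomap.symm.trans (by rw [e, comap_top])
    · obtain ⟨g, rfl⟩ := hqsurj g
      rw [eq_bot_iff]
      intro z hz
      obtain ⟨h1, h2⟩ := mem_inf.1 hz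
      obtain ⟨h, hh, rfl⟩ := mem_map.1 h1
      rw [mem_pointwise_smul_iff_inv_smul_mem, MulAut.smul_def, MulAut.conj_inv_apply] at h2
      have h3 : g⁻¹ * h * g ∈ M := by
        rw [← hcomap, mem_comap, map_mul, map_mul, map_inv]
        exact h2
      exact mem_bot.2 ((QuotientGroup.eq_one_iff h).2
        (hmal g (fun hgM => hg (mem_map_of_mem q hgM)) h hh h3))
  obtain ⟨N, hNe, hNn, hNnil⟩ := Cfsg.Agent.S0042.result (M.map q) hFr
  haveI := hNn
  haveI := hNnil
  have hsol : Group.IsSolvable (N.comap q) := by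
    haveI : Group.IsSolvable R := hRs
    have hle : R ≤ N.comap q := fun r hr => by
      rw [mem_comap, show q r = 1 from (QuotientGroup.eq_one_iff r).2 hr]
      exact one_mem N
    refine Group.isSolvable_of_ker_le_range (Subgroup.inclusion hle) (q.subgroupComap N) ?_
    intro y hy
    exact ⟨⟨y, (QuotientGroup.eq_one_iff (y : G)).1 (congrArg Subtype.val (MonoidHom.mem_ker.1 hy))⟩,
      Subtype.ext rfl⟩
  have hN : N = ⊥ := by
    rw [eq_bot_iff]
    intro z hz
    obtain ⟨g, rfl⟩ := hqsurj z
    exact mem_bot.2 ((QuotientGroup.eq_one_iff g).2 (hRmax _ inferInstance hsol hz))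
  have hcard := (Cfsg.Agent.S0034.result (M.map q) hFr).1
  have h1 : Nat.card (Cfsg.frobeniusKernel (M.map q)) = 1 := by
    rw [← hNe, hN]
    exact Subgroup.card_bot
  exact hFr.2.1 (index_eq_one.1 (hcard.symm.trans h1))

end Crit

end Cfsg.Agent.Lib.MinNonCA23
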