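import Cfsg.Agent.Lib.MinNonCA23.Partition
import Cfsg.Agent.Lib.Fusion.Thompson

/-!
# Minimal non-CA-groups: `A` cannot have two involutions modulo the centre

No element outside `A` is conjugate into `A`, so transfer puts `P ∩ G'` into `A`; then an involution of
`P ∩ G'` modulo the centre is isolated, against `Z*`.  Owner: helper23.
-/

set_option autoImplicit false
set_option linter.style.haveILetI false

open Subgroup

namespace Cfsg.Agent.Lib.MinNonCA23

universe u

variable {G : Type u} [Group G] [Finite G] {P : Sylow 2 G} {z w : G}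

omit [Finite G] in
theorem conj_commute {g x y : G} (h : x * y = y * x) :
    g * x * g⁻¹ * (g * y * g⁻¹) = g * y * g⁻¹ * (g * x * g⁻¹) := by
  calc g * x * g⁻¹ * (g * y * g⁻¹) = g * (x * y) * g⁻¹ := by group
    _ = g * (y * x) * g⁻¹ := by rw [h]
    _ = g * y * g⁻¹ * (g * x * g⁻¹) := by group

omit [Finite G] in
theorem of_conj_commute {g x y : G}
    (h : g * x * g⁻¹ * (g * y * g⁻¹) = g * y * g⁻¹ * (g * x * g⁻¹)) : x * y = y * x := by
  have h2 := conj_commute (g := g⁻¹) h
  simpa [mul_assoc] using h2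

omit [Finite G] in
theorem of_conj_center {g x : G} (h : g * x * g⁻¹ ∈ center G) : x ∈ center G := by
  have h2 := (inferInstance : (center G).Normal).conj_mem' _ h g
  rwa [show g⁻¹ * (g * x * g⁻¹) * g = x by group] at h2

namespace Crit

/-- An element outside `A` has no conjugate in `A`. -/
theorem no_conj_mem (hG : Crit G) (d : Data P z) (hw : w ∈ P) (hwz : w * z = z * w)
    (hw2 : w * w ∈ center G) (hwc : w ∉ center G) (hne : qc G w ≠ qc G z) {s : G} (hs : s ∈ P)
    (hsz : s * z ≠ z * s) (g : G) (hgP : g * s * g⁻¹ ∈ P) :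
    (g * s * g⁻¹) * z ≠ z * (g * s * g⁻¹) := by
  haveI : Fact (Nat.Prime 2) := ⟨Nat.prime_two⟩
  intro hgz
  have hsc : s ∉ center G := fun h => hsz (mem_center_iff.1 h z).symm
  set T := (P : Subgroup G) ⊓ centralizer ({s} : Set G) with hTdef
  have hTC : T ≤ centralizer ({s} : Set G) := inf_le_right
  -- the conjugate of `A` in the centraliser of `s`
  set g₁ := g⁻¹ with hg1
  have hX : ∀ x ∈ P, x * z = z * x → g₁ * x * g₁⁻¹ * s = s * (g₁ * x * g₁⁻¹) := by
    intro x hx hxz
    have h := conj_commute (g := g₁) (d.commA hx hgP hxz hgz)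
    rwa [show g₁ * (g * s * g⁻¹) * g₁⁻¹ = s by rw [hg1]; group] at h
  obtain ⟨Q, hQp, hTQ, hQs, hQlt⟩ : ∃ Q : Subgroup G, IsPGroup 2 Q ∧ T ≤ Q ∧
      Q ≤ centralizer ({s} : Set G) ∧ T < Q := by
    set C := centralizer ({s} : Set G)
    have hTp : IsPGroup 2 (T.subgroupOf C) :=
      (P.isPGroup'.to_le inf_le_left).comap_of_injective C.subtype Subtype.coe_injective
    obtain ⟨R, hR⟩ := hTp.exists_le_sylow
    refine ⟨(R : Subgroup C).map C.subtype, R.isPGroup'.map _, fun t ht =>
      ⟨⟨t, hTC ht⟩, hR (mem_subgroupOf.2 ht), rfl⟩, map_subtype_le _, ?_⟩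
    refine lt_of_le_of_ne (fun t ht => ⟨⟨t, hTC ht⟩, hR (mem_subgroupOf.2 ht), rfl⟩) fun hTR => ?_
    let K : Subgroup G := (P : Subgroup G) ⊓ centralizer ({z} : Set G)
    have hK : K.map (MulAut.conj g₁).toMonoidHom ≤ C := by
      rintro _ ⟨x, hx, rfl⟩
      exact mem_centralizer_sing.2 (hX x hx.1 (mem_centralizer_sing.1 hx.2))
    have hKp : IsPGroup 2 ((K.map (MulAut.conj g₁).toMonoidHom).subgroupOf C) :=
      ((P.isPGroup'.to_le inf_le_left).map _).comap_of_injective C.subtype Subtype.coe_injective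
    obtain ⟨R₂, hR₂⟩ := hKp.exists_le_sylow
    obtain ⟨c, hc⟩ := MulAction.exists_smul_eq C R₂ R
    have hmem : ∀ x ∈ P, x * z = z * x → x ∉ center G →
        qc G ((c : G) * (g₁ * x * g₁⁻¹) * (c : G)⁻¹) = qc G s := by
      intro x hx hxz hxc
      have hxK : g₁ * x * g₁⁻¹ ∈ K.map (MulAut.conj g₁).toMonoidHom :=
        ⟨x, ⟨hx, mem_centralizer_sing.2 hxz⟩, rfl⟩
      have h1 : MulAut.conj c ⟨_, hK hxK⟩ ∈ ((c • R₂ : Sylow 2 C) : Subgroup C) :=
        Subgroup.smul_mem_pointwise_smul _ _ _ (hR₂ (mem_subgroupOf.2 hxK))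
      rw [hc] at h1
      have h2 : (c : G) * (g₁ * x * g₁⁻¹) * (c : G)⁻¹ ∈ T := by
        rw [hTR]
        exact ⟨_, h1, rfl⟩
      rcases d.commute_out hs hsz h2.1 (mem_centralizer_sing.1 h2.2) with h | h
      · exact absurd (of_conj_center (of_conj_center h)) hxc
      · exact (qc_eq_iff.2 h).symm
    apply hne
    have h1 := (hmem w hw hwz hwc).trans (hmem z d.mem rfl d.not_center).symm
    rw [qc_conj, qc_conj, qc_conj, qc_conj] at h1
    exact mul_left_cancel (mul_right_cancel (mul_left_cancel (mul_right_cancel h1)))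
  obtain ⟨y, hyQ, hyT, hyN⟩ := exists_normalizing hQp hQlt
  set H := normalizer (T : Set G) with hHdef
  have hsT : s ∈ T := ⟨hs, mem_centralizer_sing.2 rfl⟩
  have hHtop : H ≠ ⊤ := by
    intro htop
    haveI := normalizer_eq_top_iff.1 htop
    haveI : Group.IsNilpotent T := (P.isPGroup'.to_le inf_le_left).isNilpotent
    exact hsc (hG.le_center T inferInstance hsT)
  -- elements of `P` commuting with `s` modulo the centre normalise `T`
  set B := (P : Subgroup G) ⊓ (centralizer ({qc G s} : Set (G ⧸ center G))).comap (qc G) with hBdef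
  have hBs : ∀ b ∈ B, ∀ x : G, x * s = s * x → b * x * b⁻¹ * s = s * (b * x * b⁻¹) := by
    intro b hb x hx
    have hc : (b⁻¹ * s * b) * s⁻¹ ∈ center G := by
      rw [← qc_eq_one]
      simp only [map_mul, map_inv]
      rw [mul_assoc _ (qc G s) (qc G b), ← mem_centralizer_singleton_iff.1 (mem_comap.1 hb.2)]
      group
    have h1 : x * (b⁻¹ * s * b) = (b⁻¹ * s * b) * x := by
      have h3 : b⁻¹ * s * b = (b⁻¹ * s * b * s⁻¹) * s := by group
      rw [h3]
      exact ((comm_of_center hc x).mul_right hx).eq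
    calc b * x * b⁻¹ * s = b * (x * (b⁻¹ * s * b)) * b⁻¹ := by group
      _ = b * ((b⁻¹ * s * b) * x) * b⁻¹ := by rw [h1]
      _ = s * (b * x * b⁻¹) := by group
  have hBH : ∀ b ∈ B, b ∈ H := by
    intro b hb
    rw [hHdef, mem_normalizer_iff]
    intro x
    constructor
    · intro hx
      exact ⟨mul_mem (mul_mem hb.1 hx.1) ((P : Subgroup G).inv_mem hb.1),
        mem_centralizer_sing.2 (hBs b hb x (mem_centralizer_sing.1 hx.2))⟩
    · intro hx
      have h1 : b⁻¹ * (b * x * b⁻¹) * b⁻¹⁻¹ ∈ P := mul_mem (mul_mem ((P : Subgroup G).inv_mem hb.1) hx.1) (inv_mem ((P : Subgroup G).inv_mem hb.1))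
      have h2 := hBs b⁻¹ (inv_mem hb) _ (mem_centralizer_sing.1 hx.2)
      rw [show b⁻¹ * (b * x * b⁻¹) * b⁻¹⁻¹ = x by group] at h1 h2
      exact ⟨h1, mem_centralizer_sing.2 h2⟩
  have hzB : z ∈ B := ⟨d.mem, mem_comap.2 (mem_centralizer_singleton_iff.2 (d.central s hs).symm)⟩
  have hwB : w ∈ B := by
    refine ⟨hw, mem_comap.2 (mem_centralizer_singleton_iff.2 ?_)⟩
    have h := d.invert s hs hsz w hw hwz
    rw [qc_conj, inv_eq_of_mul_eq_one_right (qc_pow_two.2 hw2), mul_inv_eq_iff_eq_mul] at h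
    exact h.symm
  -- the abelian group `C_H(s)` and its `2`-elements
  have hcomm : ∀ x ∈ H, ∀ x' ∈ H, x * s = s * x → x' * s = s * x' → x * x' = x' * x :=
    fun x hx x' hx' h h' =>
      hG.commute_of_moved hHtop (le_normalizer hsT) hx hx' (hBH z hzB) h h' hsz.symm
  let U : Subgroup G :=
    { carrier := {x | x ∈ H ∧ x * s = s * x ∧ ∃ k, x ^ 2 ^ k = 1}
      one_mem' := ⟨one_mem H, by group, 0, one_pow _⟩
      mul_mem' := by
        rintro x x' ⟨hx, hxs, i, hi⟩ ⟨hx', hxs', j, hj⟩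
        refine ⟨mul_mem hx hx', ((show Commute x s from hxs).mul_left hxs').eq, i + j, ?_⟩
        rw [(show Commute x x' from hcomm x hx x' hx' hxs hxs').mul_pow, pow_add, pow_mul, hi, one_pow,
          one_mul, mul_comm, pow_mul, hj, one_pow]
      inv_mem' := by
        rintro x ⟨hx, hxs, i, hi⟩
        exact ⟨inv_mem hx, ((show Commute x s from hxs).inv_left).eq, i, by rw [inv_pow, hi, inv_one]⟩ }
  have hUp : IsPGroup 2 U := fun x => by
    obtain ⟨k, hk⟩ := x.2.2.2
    exact ⟨k, Subtype.ext (by simpa using hk)⟩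
  have hBN : B ≤ normalizer (U : Set G) := by
    intro b hb
    have hmem : ∀ b ∈ B, ∀ x ∈ U, b * x * b⁻¹ ∈ U := by
      rintro b hb x ⟨hx, hxs, i, hi⟩
      exact ⟨mul_mem (mul_mem (hBH b hb) hx) (inv_mem (hBH b hb)), hBs b hb x hxs, i,
        by rw [conj_pow, hi, mul_one, mul_inv_cancel]⟩
    rw [mem_normalizer_iff]
    intro x
    refine ⟨fun hx => hmem b hb x hx, fun hx => ?_⟩
    have := hmem b⁻¹ (inv_mem hb) _ hx
    rwa [show b⁻¹ * (b * x * b⁻¹) * b⁻¹⁻¹ = x by group] at this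
  have hVp : IsPGroup 2 (B ⊔ U : Subgroup G) :=
    IsPGroup.to_sup_of_normal_right' (P.isPGroup'.to_le inf_le_left) hUp hBN
  obtain ⟨e, -, he⟩ := exists_conj_into P (C := ⊤) le_top le_top hVp
  have hys : y * s = s * y := mem_centralizer_sing.1 (hQs hyQ)
  obtain ⟨j, hj⟩ := hQp ⟨y, hyQ⟩
  have hj' : y ^ 2 ^ j = 1 := congrArg Subtype.val hj
  have hyU : y ∈ U := ⟨hyN, hys, j, hj'⟩
  have hsU : s ∈ U := ⟨le_normalizer hsT, rfl, exists_two_pow P hs⟩
  set s' := e * s * e⁻¹ with hs'
  have hs'P : s' ∈ P := he s (mem_sup_right hsU)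
  have hs'A : s' * z = z * s' := by
    by_contra hout
    apply hyT
    rcases d.commute_out hs'P hout (he y (mem_sup_right hyU)) (conj_commute hys) with h | h
    · exact ⟨mem_of_central (of_conj_center h) hj' P, hTC ⟨mem_of_central (of_conj_center h) hj' P,
        mem_centralizer_sing.2 hys⟩⟩
    · rw [show s'⁻¹ * (e * y * e⁻¹) = e * (s⁻¹ * y) * e⁻¹ by rw [hs']; group] at h
      obtain ⟨i, hi⟩ := exists_two_pow P hs
      have hP : s⁻¹ * y ∈ P := mem_of_central (of_conj_center h)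
        (exists_two_pow_div hi hj' hys.symm) P
      have hyP : y ∈ P := by
        have := mul_mem hs hP
        rwa [mul_inv_cancel_left] at this
      exact ⟨hyP, mem_centralizer_sing.2 hys⟩
  have hs'c : s' ∉ center G := fun h => hsc (of_conj_center h)
  have key : ∀ x ∈ B, x * s ≠ s * x → (e * x * e⁻¹) * z ≠ z * (e * x * e⁻¹) := fun x hx hxs h =>
    hxs (of_conj_commute (d.commA (he x (mem_sup_left hx)) hs'P h hs'A))
  have h1 := key z hzB hsz.symm
  have h2 := key w hwB (d.not_commute hs hsz hw hwz hwc)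
  have h3 : (e * (z * w) * e⁻¹) * z = z * (e * (z * w) * e⁻¹) := by
    rw [show e * (z * w) * e⁻¹ = e * z * e⁻¹ * (e * w * e⁻¹) by group]
    exact d.two _ (he z (mem_sup_left hzB)) _ (he w (mem_sup_left hwB)) h1 h2
  have h4 : (z * w) * s = s * (z * w) :=
    of_conj_commute (d.commA (he _ (mem_sup_left (mul_mem hzB hwB))) hs'P h3 hs'A)
  have h5 : (z * w) * z = z * (z * w) := by rw [mul_assoc, hwz]
  have h6 : z * w ∈ center G := by
    by_contra hc
    exact d.not_commute hs hsz (mul_mem d.mem hw) h5 hc h4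
  apply hne
  have h7 : (z * z)⁻¹ * (z * w) ∈ center G := mul_mem (inv_mem d.sq) h6
  rw [show (z * z)⁻¹ * (z * w) = z⁻¹ * w by group] at h7
  exact (qc_eq_iff.2 h7).symm

/-- Every element outside `A` avoids some normal subgroup of index two. -/
theorem exists_index_two (hG : Crit G) (d : Data P z) (hw : w ∈ P) (hwz : w * z = z * w)
    (hw2 : w * w ∈ center G) (hwc : w ∉ center G) (hne : qc G w ≠ qc G z) {s : G} (hs : s ∈ P)
    (hsz : s * z ≠ z * s) : ∃ N : Subgroup G, N.index = 2 ∧ s ∉ N := by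
  haveI : Fact (Nat.Prime 2) := ⟨Nat.prime_two⟩
  set Pb := P.mapSurjective (qc_surjective (G := G)) with hPb
  set K := ((P : Subgroup G) ⊓ centralizer ({z} : Set G)).map (qc G) with hK
  have hKP : K ≤ (Pb : Subgroup (G ⧸ center G)) := map_mono inf_le_left
  have hout : ∀ r ∈ P, r * z ≠ z * r → qc G r ∉ K := by
    intro r hr hrz h
    obtain ⟨a, ha, hae⟩ := mem_map.1 h
    apply hrz
    have hc : a⁻¹ * r ∈ center G := qc_eq_iff.1 hae
    have h1 : Commute z (a⁻¹ * r) := comm_of_center hc z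
    have h2 : Commute z a := (mem_centralizer_sing.1 ha.2).symm
    have h3 := h2.mul_right h1
    rw [mul_inv_cancel_left] at h3
    exact h3.eq.symm
  have h2K : K.relIndex (Pb : Subgroup (G ⧸ center G)) = 2 := by
    rw [relIndex, index_eq_two_iff]
    refine ⟨⟨qc G s, mem_map_of_mem _ hs⟩, ?_⟩
    rintro ⟨b, hb⟩
    obtain ⟨r, hr, rfl⟩ := mem_map.1 hb
    simp only [mem_subgroupOf, Subgroup.coe_mul]
    rw [← map_mul]
    by_cases hrz : r * z = z * r
    · right
      refine ⟨mem_map_of_mem _ ⟨hr, mem_centralizer_sing.2 hrz⟩, hout _ (mul_mem hr hs) fun e => hsz ?_⟩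
      exact mul_left_cancel (a := r) (by
        calc r * (s * z) = r * s * z := by group
          _ = z * (r * s) := e
          _ = r * (z * s) := by rw [← mul_assoc, ← hrz, mul_assoc])
    · left
      exact ⟨mem_map_of_mem _ ⟨mul_mem hr hs, mem_centralizer_sing.2 (d.two r hr s hs hrz hsz)⟩,
        hout r hr hrz⟩
  have hidx : K.index % 4 = 2 := by
    rw [← relIndex_mul_index hKP, h2K]
    have := Pb.not_dvd_index
    omega
  have hord : orderOf (qc G s) = 2 := orderOf_eq_prime
    (by rw [sq]; exact qc_pow_two.2 (d.sq_out s hs hsz))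
    (fun e => hsz (mem_center_iff.1 (qc_eq_one.1 e) z).symm)
  obtain ⟨N, hN, hsN⟩ := Lib.Fusion.Thompson.exists_index_two_of_fixedPointFree
    (α := (G ⧸ center G) ⧸ K) (by rw [← Subgroup.index]; exact hidx) (qc G s) hord (by
      intro x hx
      induction x using QuotientGroup.induction_on with
      | _ y =>
        have hy : (qc G s * y)⁻¹ * y ∈ K := QuotientGroup.eq.1 hx
        obtain ⟨g, rfl⟩ := qc_surjective y
        have h1 : qc G (g⁻¹ * s * g) ∈ K := by
          have h2 := inv_mem hy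
          simp only [map_mul, map_inv]
          rwa [mul_inv_rev, inv_inv, ← mul_assoc] at h2
        have h1' : qc G (g⁻¹ * s * g⁻¹⁻¹) ∈ K := by rwa [inv_inv]
        have hP := conj_mem_of_qc hs (map_mono inf_le_left h1' : qc G (g⁻¹ * s * g⁻¹⁻¹) ∈ _)
        exact hout _ hP (hG.no_conj_mem d hw hwz hw2 hwc hne hs hsz g⁻¹ hP) h1')
  refine ⟨N.comap (qc G), ?_, hsN⟩
  rw [index_comap_of_surjective _ qc_surjective, hN]

/-- **No two involutions in `A` modulo the centre.** -/
theorem unique_invol (hG : Crit G) (d : Data P z) (hw : w ∈ P) (hwz : w * z = z * w)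
    (hw2 : w * w ∈ center G) (hwc : w ∉ center G) : qc G w = qc G z := by
  haveI : Fact (Nat.Prime 2) := ⟨Nat.prime_two⟩
  by_contra hne
  classical
  set X := commutator G with hXdef
  have hXA : ∀ r ∈ P, r ∈ X → r * z = z * r := by
    intro r hr hrX
    by_contra hrz
    obtain ⟨N, hN, hrN⟩ := hG.exists_index_two d hw hwz hw2 hwc hne hr hrz
    apply hrN
    have : X ≤ N := by
      rw [hXdef, _root_.commutator_def, commutator_le]
      intro g _ h _
      simp only [commutatorElement_def, mul_mem_iff_of_index_two hN, inv_mem_iff]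
      tauto
    exact this hrX
  have hXns : ¬ Group.IsSolvable X := fun h => hG.nonsolvable
    (isSolvable_of_normal X h (Group.isSolvable_of_comm fun a b => mul_comm (G := Abelianization G) a b))
  -- `A₀ = P ∩ X` is a Sylow subgroup of `X`
  set A₀ := (P : Subgroup G) ⊓ X with hA0def
  obtain ⟨P₀, hP₀⟩ : ∃ P₀ : Sylow 2 X, (P₀ : Subgroup X) = A₀.subgroupOf X := by
    have hp : IsPGroup 2 (A₀.subgroupOf X) :=
      (P.isPGroup'.to_le inf_le_left).comap_of_injective X.subtype Subtype.coe_injective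
    obtain ⟨R, hR⟩ := hp.exists_le_sylow
    refine ⟨R, (eq_of_le_of_card_ge hR ?_).symm⟩
    obtain ⟨c, -, hc⟩ := exists_conj_into P (C := ⊤) (X := (R : Subgroup X).map X.subtype) le_top
      le_top (R.isPGroup'.map _)
    let f : ↥(R : Subgroup X) → ↥(A₀.subgroupOf X) := fun r =>
      ⟨⟨c * ((r : X) : G) * c⁻¹, (inferInstance : X.Normal).conj_mem _ (r : X).2 c⟩,
        mem_subgroupOf.2 ⟨hc _ (mem_map_of_mem _ r.2), (inferInstance : X.Normal).conj_mem _ (r : X).2 c⟩⟩
    refine Nat.card_le_card_of_injective f fun a b hab => ?_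
    have : c * ((a : X) : G) * c⁻¹ = c * ((b : X) : G) * c⁻¹ :=
      congrArg (fun v : ↥(A₀.subgroupOf X) => ((v : X) : G)) hab
    exact Subtype.ext (Subtype.ext ((MulAut.conj c).injective this))
  have hA0c : ∀ a ∈ A₀, ∀ b ∈ A₀, a * b = b * a := fun a ha b hb =>
    d.commA ha.1 hb.1 (hXA a ha.1 ha.2) (hXA b hb.1 hb.2)
  haveI : IsMulCommutative (P₀ : Subgroup X) := by
    constructor
    constructor
    rintro ⟨a, ha⟩ ⟨b, hb⟩
    rw [hP₀, mem_subgroupOf] at ha hb
    exact Subtype.ext (Subtype.ext (hA0c _ ha _ hb))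
  have hex : ∃ x ∈ A₀, x ∉ center G := by
    by_contra h
    push Not at h
    refine hXns (isSolvable_of_normalizer_le P₀ fun n _ => mem_centralizer_iff.2 fun a ha => ?_)
    rw [hP₀, SetLike.mem_coe, mem_subgroupOf] at ha
    exact Subtype.ext (mem_center_iff.1 (h _ ha) n).symm
  obtain ⟨x, hxA, hxc⟩ := hex
  have hk : ∃ k : ℕ, x ^ 2 ^ k ∈ center G := by
    obtain ⟨k, hk⟩ := exists_two_pow P hxA.1
    exact ⟨k, hk ▸ one_mem _⟩
  obtain ⟨k, hk'⟩ : ∃ k, Nat.find hk = k + 1 :=
    Nat.exists_eq_succ_of_ne_zero fun h => hxc (by simpa [h] using Nat.find_spec hk)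
  set t := x ^ 2 ^ k with htdef
  have htA : t ∈ A₀ := pow_mem hxA _
  have ht2 : t * t ∈ center G := by
    have := Nat.find_spec hk
    rwa [hk', pow_succ, pow_mul, sq] at this
  have htc : t ∉ center G := Nat.find_min hk (by omega)
  have htz : t * z = z * t := hXA t htA.1 htA.2
  obtain ⟨s, hs, hsz⟩ := d.out
  set H := normalizer (A₀ : Set G) with hHdef
  have hPH : ∀ p ∈ P, p ∈ H := by
    intro p hp
    rw [hHdef, mem_normalizer_iff]
    intro u
    constructor
    · exact fun hu => ⟨mul_mem (mul_mem hp hu.1) ((P : Subgroup G).inv_mem hp), (inferInstance : X.Normal).conj_mem _ hu.2 p⟩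
    · intro hu
      have h1 : p⁻¹ * (p * u * p⁻¹) * p ∈ (P : Subgroup G) :=
        mul_mem (mul_mem ((P : Subgroup G).inv_mem hp) hu.1) hp
      have h2 := (inferInstance : X.Normal).conj_mem' _ hu.2 p
      rw [show p⁻¹ * (p * u * p⁻¹) * p = u by group] at h1 h2
      exact ⟨h1, h2⟩
  -- every element of `H` fixes `t` modulo the centre
  have hfix : ∀ a ∈ H, qc G (a * t * a⁻¹) = qc G t := by
    intro a ha
    set e := s * a * s⁻¹ * a⁻¹ with hedef
    have heX : e ∈ X := by
      have := commutator_mem_commutator (mem_top s) (mem_top a)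
      rwa [commutatorElement_def, ← _root_.commutator_def] at this
    have heH : e ∈ H := mul_mem (mul_mem (mul_mem (hPH s hs) ha) (inv_mem (hPH s hs))) (inv_mem ha)
    have hconj : ∀ g ∈ H, ∀ v ∈ A₀, g * v * g⁻¹ ∈ A₀ := fun g hg v hv => (mem_normalizer_iff.1 hg v).1 hv
    have hmod : ∀ v ∈ A₀, qc G e * qc G v = qc G v * qc G e := by
      intro v hv
      set β := a⁻¹ * (v⁻¹) * a⁻¹⁻¹ with hβ
      have hβA : β ∈ A₀ := hconj a⁻¹ (inv_mem ha) _ (inv_mem hv)
      have i1 := d.invert s hs hsz v hv.1 (hXA v hv.1 hv.2)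
      have i2 := d.invert s hs hsz β hβA.1 (hXA β hβA.1 hβA.2)
      simp only [hβ, qc_conj, inv_inv] at i1 i2
      rw [← mul_inv_eq_iff_eq_mul]
      have hsq := qc_pow_two.2 (d.sq_out s hs hsz)
      have hsi : (qc G s)⁻¹ = qc G s := inv_eq_of_mul_eq_one_right hsq
      calc qc G e * qc G v * (qc G e)⁻¹
          = qc G s * (qc G a * (qc G s * ((qc G a)⁻¹ * qc G v * qc G a) * qc G s) * (qc G a)⁻¹) *
            qc G s := by rw [hedef]; simp only [map_mul, map_inv, mul_inv_rev, inv_inv, hsi]; group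
        _ = qc G v := by
          have i3 : qc G s * ((qc G a)⁻¹ * qc G v * qc G a) * qc G s =
              (qc G a)⁻¹ * (qc G v)⁻¹ * qc G a := by
            rw [hsi] at i2
            have := congrArg (·⁻¹) i2
            simp only [mul_inv_rev, inv_inv, hsi] at this
            simpa [mul_assoc] using this
          rw [i3]
          have i4 : qc G s * (qc G v)⁻¹ * qc G s = qc G v := by
            rw [hsi] at i1
            rw [← i1]
            calc qc G s * (qc G s * qc G v * qc G s) * qc G s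
                = (qc G s * qc G s) * qc G v * (qc G s * qc G s) := by group
              _ = qc G v := by rw [hsq]; group
          calc qc G s * (qc G a * ((qc G a)⁻¹ * (qc G v)⁻¹ * qc G a) * (qc G a)⁻¹) * qc G s
              = qc G s * (qc G v)⁻¹ * qc G s := by group
            _ = qc G v := i4
    have hefix : ∀ v ∈ A₀, e * v = v * e := by
      intro v hv
      obtain ⟨e1, e2, he12, he1, he2, hodd, i, hi⟩ := exists_split e
      have he2A : e2 ∈ A₀ := by
        have he2' : e2 ∈ zpowers e := he2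
        have hX2 : e2 ∈ X := (zpowers_le.2 heX) he2'
        have hN2 : (⟨e2, hX2⟩ : X) ∈ normalizer ((P₀ : Subgroup X) : Set X) := by
          rw [mem_normalizer_iff]
          intro u
          simp only [hP₀, mem_subgroupOf, Subgroup.coe_mul, Subgroup.coe_inv]
          exact mem_normalizer_iff.1 ((zpowers_le.2 heH) he2') u
        have : (⟨e2, hX2⟩ : X) ∈ (P₀ : Subgroup X) := mem_of_normalizes hN2 (k := i) (Subtype.ext hi)
        rw [hP₀, mem_subgroupOf] at this
        exact this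
      have h1 : e1 * v = v * e1 := by
        have hz' : zpowers e ≤ (centralizer ({qc G v} : Set (G ⧸ center G))).comap (qc G) :=
          zpowers_le.2 (mem_comap.2 (mem_centralizer_singleton_iff.2 (hmod v hv)))
        have h2 := mem_centralizer_singleton_iff.1 (mem_comap.1 (hz' he1))
        have hc : v⁻¹ * (e1 * v * e1⁻¹) ∈ center G := by
          rw [← qc_eq_iff, qc_conj, h2, mul_inv_cancel_right]
        have hu := hconj e1 ((zpowers_le.2 heH) he1) v hv
        obtain ⟨j, hj⟩ := exists_two_pow P (mul_mem ((P : Subgroup G).inv_mem hv.1) hu.1)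
        exact odd_fix hodd (comm_of_center hc e1) hj (by rw [mul_inv_cancel_left])
      rw [he12]
      exact ((show Commute e1 v from h1).mul_left (hA0c e2 he2A v hv)).eq
    set u := a * t * a⁻¹ with hudef
    have huA : u ∈ A₀ := hconj a ha t htA
    set f := t⁻¹ * (s * t * s⁻¹) with hfdef
    have hfc : f ∈ center G := by
      rw [hfdef, ← qc_eq_iff, d.invert s hs hsz t htA.1 htz]
      exact (inv_eq_of_mul_eq_one_right (qc_pow_two.2 ht2)).symm
    have hsu : s * u * s⁻¹ = u * f := by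
      calc s * u * s⁻¹ = e * (a * (s * t * s⁻¹) * a⁻¹) * e⁻¹ := by rw [hudef, hedef]; group
        _ = e * (a * (t * f) * a⁻¹) * e⁻¹ := by rw [hfdef]; group
        _ = e * (u * f) * e⁻¹ := by
          rw [hudef, show a * (t * f) * a⁻¹ = a * t * (f * a⁻¹) by group,
            ← mem_center_iff.1 hfc a⁻¹]; group
        _ = u * f := by
          rw [← mul_assoc, hefix u huA, mul_assoc u, mem_center_iff.1 hfc e]; group
    have hcomm : s * (t⁻¹ * u) * s⁻¹ = t⁻¹ * u := by
      calc s * (t⁻¹ * u) * s⁻¹ = (s * t * s⁻¹)⁻¹ * (s * u * s⁻¹) := by group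
        _ = (t * f)⁻¹ * (u * f) := by rw [hsu, hfdef]; group
        _ = f⁻¹ * ((t⁻¹ * u) * f) := by group
        _ = t⁻¹ * u := by rw [mem_center_iff.1 hfc, inv_mul_cancel_left]
    refine (qc_eq_iff.2 ?_).symm
    by_contra hnc
    exact d.not_commute hs hsz (mul_mem ((P : Subgroup G).inv_mem htA.1) huA.1)
      (hXA _ (mul_mem ((P : Subgroup G).inv_mem htA.1) huA.1) (mul_mem (inv_mem htA.2) huA.2)) hnc
      (mul_inv_eq_iff_eq_mul.1 hcomm).symm
  refine hG.not_isolated P htA.1 ht2 htc fun g hg => ?_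
  have hgP := conj_mem_of_qc htA.1 hg
  have hsup : H ⊔ X = ⊤ := by
    have h := Sylow.normalizer_sup_eq_top P₀
    rwa [hP₀, subgroupOf_map_subtype, inf_eq_left.2 (inf_le_right : A₀ ≤ X)] at h
  obtain ⟨h, hh, y, hy, rfl⟩ := mem_sup_of_normal_right.1 (hsup ▸ mem_top g : g ∈ H ⊔ X)
  have hgA : h * y * t * (h * y)⁻¹ ∈ A₀ := ⟨hgP, (inferInstance : X.Normal).conj_mem t htA.2 _⟩
  have hyA : y * t * y⁻¹ ∈ A₀ := by
    have := (mem_normalizer_iff.1 (inv_mem hh) _).1 hgA
    rwa [show h⁻¹ * (h * y * t * (h * y)⁻¹) * h⁻¹⁻¹ = y * t * y⁻¹ by group] at this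
  obtain ⟨n, hn, hne'⟩ := P₀.conj_eq_normalizer_conj_of_mem ⟨t, htA.2⟩ ⟨y, hy⟩⁻¹
    (show (⟨t, htA.2⟩ : X) ∈ (P₀ : Subgroup X) by rw [hP₀]; exact htA)
    (show _ ∈ (P₀ : Subgroup X) by rw [inv_inv, hP₀]; exact hyA)
  have hne2 : y * t * y⁻¹ = (n : G)⁻¹ * t * n := by
    have := congrArg Subtype.val hne'
    simpa using this
  have hnH : (n : G) ∈ H := by
    rw [hHdef, mem_normalizer_iff]
    intro u
    constructor
    · intro hu
      have := (mem_normalizer_iff.1 hn ⟨u, hu.2⟩).1 (by rw [hP₀, mem_subgroupOf]; exact hu)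
      rw [hP₀, mem_subgroupOf] at this
      exact this
    · intro hu
      have hu' : u ∈ X := by
        have := (inferInstance : X.Normal).conj_mem' _ hu.2 (n : G)
        rwa [show (n : G)⁻¹ * (↑n * u * (↑n)⁻¹) * ↑n = u by group] at this
      have := (mem_normalizer_iff.1 hn ⟨u, hu'⟩).2 (by rw [hP₀, mem_subgroupOf]; exact hu)
      rw [hP₀, mem_subgroupOf] at this
      exact this
  have h8 := hfix (h * (n : G)⁻¹) (mul_mem hh (inv_mem hnH))
  rwa [show h * y * t * (h * y)⁻¹ = h * (n : G)⁻¹ * t * (h * (n : G)⁻¹)⁻¹ by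
    calc h * y * t * (h * y)⁻¹ = h * (y * t * y⁻¹) * h⁻¹ := by group
      _ = _ := by rw [hne2]; group]

end Crit

end Cfsg.Agent.Lib.MinNonCA23
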