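import Cfsg.Agent.Lib.MinNonCA23.RankTwo
import Cfsg.Agent.Lib.GorensteinWalter.Sylow
import Cfsg.Agent.Lib.CyclicSylows69.Top
import Cfsg.Agent.Lib.PGroups.UniqueInvolution
import Cfsg.Agent.S3188
import Cfsg.Agent.S0483

/-!
# Minimal non-CA-groups: the socle of the quotient by the centre

`PSL(2,q)` or `A₇`.  Owner: helper23.
-/

set_option autoImplicit false
set_option linter.style.haveILetI false

open Subgroup
open scoped Pointwise commutatorElement

namespace Cfsg.Agent.Lib.MinNonCA23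

universe u

variable {G : Type u} [Group G] [Finite G]

open GorensteinWalter (CycDih)

/-- The normal subgroup `N` of `G ⧸ Z(G)` with trivial centraliser. -/
structure Socle (G : Type u) [Group G] (N : Subgroup (G ⧸ center G)) : Prop where
  normal : N.Normal
  cent : centralizer (N : Set (G ⧸ center G)) = ⊥

omit [Finite G] in
/-- A dihedral group of order at least eight has at most one cyclic subgroup of index two. -/
theorem cycDih_sylow {P : Sylow 2 G} {z : G} (d : Data P z) [Finite G]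
    (huniq : ∀ w ∈ P, w * z = z * w → w * w ∈ center G → w ∉ center G → qc G w = qc G z) :
    CycDih ↥((P : Subgroup G).map (qc G)) := by
  haveI : Fact (Nat.Prime 2) := ⟨Nat.prime_two⟩
  set A := (P : Subgroup G) ⊓ centralizer ({z} : Set G) with hA
  set Ab := A.map (qc G) with hAb
  have hAP : Ab ≤ (P : Subgroup G).map (qc G) := map_mono inf_le_left
  have hmem : ∀ x ∈ A, x ∈ P ∧ x * z = z * x := fun x hx => ⟨hx.1, mem_centralizer_sing.1 hx.2⟩
  have hc : IsMulCommutative Ab := by
    constructor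
    constructor
    rintro ⟨x, x', hx', rfl⟩ ⟨y, y', hy', rfl⟩
    refine Subtype.ext ?_
    show qc G x' * qc G y' = qc G y' * qc G x'
    rw [← map_mul, ← map_mul,
      d.commA (hmem _ hx').1 (hmem _ hy').1 (hmem _ hx').2 (hmem _ hy').2]
  have hom : Nat.card (Cfsg.omegaOne 2 Ab) ≤ 2 := by
    have hle : Cfsg.omegaOne 2 Ab ≤ zpowers (qc G z) := by
      rw [Cfsg.omegaOne, closure_le]
      rintro _ ⟨⟨x, hx, rfl⟩, hx2⟩
      by_cases hxc : x ∈ center G
      · rw [qc_eq_one.2 hxc]; exact one_mem _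
      · rw [sq, qc_pow_two] at hx2
        rw [huniq x (hmem x hx).1 (hmem x hx).2 hx2 hxc]
        exact mem_zpowers _
    refine (card_le_of_le hle).trans (le_of_eq ?_)
    rw [Nat.card_zpowers]
    exact orderOf_eq_prime (by rw [sq]; exact qc_pow_two.2 d.sq) fun e => d.not_center (qc_eq_one.1 e)
  have hcyc := PGroups.isCyclic_of_comm_omega hc ((P.isPGroup'.map _).to_le hAP) hom
  obtain ⟨⟨a, haA⟩, ha⟩ := hcyc.exists_generator
  obtain ⟨s, hs, hsz⟩ := d.out
  obtain ⟨g, hg, hga⟩ := mem_map.1 haA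
  have hzp : ∀ x ∈ A, qc G x ∈ zpowers (qc G g) := by
    intro x hx
    obtain ⟨i, hi⟩ := ha ⟨qc G x, mem_map_of_mem _ hx⟩
    refine ⟨i, ?_⟩
    rw [hga]
    exact congrArg Subtype.val hi
  refine GorensteinWalter.cycDih_of_pair
    (⟨qc G g, mem_map_of_mem _ (hmem g hg).1⟩ : ↥((P : Subgroup G).map (qc G)))
    ⟨qc G s, mem_map_of_mem _ hs⟩ (Subtype.ext (qc_pow_two.2 (d.sq_out s hs hsz)))
    (Subtype.ext (by
      show qc G s * qc G g * (qc G s)⁻¹ = (qc G g)⁻¹
      rw [← qc_conj]; exact d.invert s hs hsz g (hmem g hg).1 (hmem g hg).2)) ?_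
  rintro ⟨_, x, hx, rfl⟩
  by_cases hxz : x * z = z * x
  · left
    obtain ⟨i, hi⟩ := hzp x ⟨hx, mem_centralizer_sing.2 hxz⟩
    exact ⟨i, Subtype.ext hi⟩
  · right
    obtain ⟨i, hi⟩ := hzp (s * x) ⟨mul_mem hs hx, mem_centralizer_sing.2 (d.two s hs x hx hsz hxz)⟩
    exact ⟨i, Subtype.ext (hi.trans (map_mul _ _ _))⟩

namespace Crit

theorem centralizer_normal (hG : Crit G) (N : Subgroup (G ⧸ center G)) [N.Normal] (hN : N ≠ ⊥) :
    centralizer (N : Set (G ⧸ center G)) = ⊥ := by
  set K := N.comap (qc G) with hK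
  have hKns : ¬ Group.IsSolvable K := fun h => hN (by
    rw [eq_bot_iff]
    intro x hx
    obtain ⟨g, rfl⟩ := qc_surjective x
    exact mem_bot.2 (qc_eq_one.2 (hG.le_center K h hx)))
  have hC : ¬ Group.IsSolvable (⁅K, K⁆ : Subgroup G) := by
    intro h
    apply hKns
    haveI := h
    haveI : Group.IsSolvable (commutator K) := by
      refine Group.isSolvable_of_isSolvable_injective
        (f := (K.subtype.comp (commutator K).subtype).codRestrict ⁅K, K⁆ fun x => ?_) ?_
      · rw [← map_subtype_commutator]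
        exact mem_map_of_mem _ x.2
      · intro x y hxy
        exact Subtype.ext (Subtype.ext (congrArg Subtype.val hxy :))
    exact isSolvable_of_normal (commutator K) inferInstance
      (Group.isSolvable_of_comm fun a b => mul_comm (G := Abelianization K) a b)
  rw [eq_bot_iff]
  intro c hc
  obtain ⟨c, rfl⟩ := qc_surjective c
  refine mem_bot.2 (qc_eq_one.2 (hG.centralizer_le_center _ hC ?_))
  have hk : ∀ k ∈ K, k⁻¹ * c * k * c⁻¹ ∈ center G := by
    intro k hk
    rw [← qc_eq_one]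
    simp only [map_mul, map_inv]
    rw [mul_assoc _ (qc G c), ← mem_centralizer_iff.1 hc (qc G k) hk]
    group
  have hle : (⁅K, K⁆ : Subgroup G) ≤ centralizer ({c} : Set G) := by
    rw [commutator_le]
    intro x hx y hy
    refine mem_centralizer_sing.2 ?_
    -- conjugation by `c` moves `x`, `y` only by central elements
    have hkey : ∀ k ∈ K, ∃ e ∈ center G, c * k * c⁻¹ = k * e := fun k hk' =>
      ⟨k⁻¹ * (c * k * c⁻¹), by
        have := hk k hk'
        rwa [show k⁻¹ * c * k * c⁻¹ = k⁻¹ * (c * k * c⁻¹) by group] at this, by group⟩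
    obtain ⟨e, he, hex⟩ := hkey x hx
    obtain ⟨f, hf, hfy⟩ := hkey y hy
    have h : MulAut.conj c ⁅x, y⁆ = ⁅x, y⁆ := by
      rw [map_commutatorElement, MulAut.conj_apply, MulAut.conj_apply, hex, hfy]
      simp only [commutatorElement_def, mul_inv_rev]
      calc x * e * (y * f) * (e⁻¹ * x⁻¹) * (f⁻¹ * y⁻¹)
          = x * ((e * (y * f)) * e⁻¹) * x⁻¹ * (f⁻¹ * y⁻¹) := by group
        _ = x * y * (f * (x⁻¹ * f⁻¹)) * y⁻¹ := by rw [← mem_center_iff.1 he (y * f)]; group
        _ = x * y * x⁻¹ * y⁻¹ := by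
          rw [← mem_center_iff.1 hf (x⁻¹ * f⁻¹)]; group
    rw [MulAut.conj_apply] at h
    calc ⁅x, y⁆ * c = c * ⁅x, y⁆ * c⁻¹ * c := by rw [h]
      _ = c * ⁅x, y⁆ := by group
  exact mem_centralizer_iff.2 fun x hx => mem_centralizer_sing.1 (hle hx)

/-- The socle is `PSL(2,q)` (with the arithmetic of the abelian case) or we have dihedral Sylow groups. -/
theorem cases_sylow (hG : Crit G) (P : Sylow 2 G) :
    ((∀ p ∈ P, ∀ r ∈ P, qc G p * qc G r = qc G r * qc G p) ∧
      ∃ (F : Type) (_ : Field F) (_ : Fintype F),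
        (((Fintype.card F % 8 = 3 ∨ Fintype.card F % 8 = 5) ∧ 5 ≤ Fintype.card F) ∨
          (∃ n : ℕ, 2 ≤ n ∧ Fintype.card F = 2 ^ n)) ∧
        ∃ N : Subgroup (G ⧸ center G), Socle G N ∧
          Nonempty (↥N ≃* Matrix.ProjectiveSpecialLinearGroup (Fin 2) F)) ∨
    (∃ z, Data P z) ∧ (∃ m, 2 ≤ m ∧ Nonempty (↥((P : Subgroup G).map (qc G)) ≃* DihedralGroup m)) ∧
      ((∃ (F : Type) (_ : Field F) (_ : Fintype F), Odd (Fintype.card F) ∧ 3 < Fintype.card F ∧
        ∃ N : Subgroup (G ⧸ center G), Socle G N ∧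
          Nonempty (↥N ≃* Matrix.ProjectiveSpecialLinearGroup (Fin 2) F)) ∨
       ∃ N : Subgroup (G ⧸ center G), Socle G N ∧ Nonempty (↥N ≃* alternatingGroup (Fin 7))) := by
  haveI : Fact (Nat.Prime 2) := ⟨Nat.prime_two⟩
  have hOC : Cfsg.oddCore (G ⧸ center G) = ⊥ := by
    rw [Cfsg.oddCore, Cfsg.pPrimeCore, sSup_eq_bot]
    rintro N ⟨hN, hNo⟩
    haveI := hN
    exact hG.eq_bot_of_odd N (Nat.coprime_two_right.1 hNo)
  set Pb := P.mapSurjective (qc_surjective (G := G))
  by_cases hcomm : ∀ p ∈ P, ∀ r ∈ P, qc G p * qc G r = qc G r * qc G p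
  · left
    refine ⟨hcomm, ?_⟩
    have hS : IsMulCommutative (Pb : Subgroup (G ⧸ center G)) := by
      constructor
      constructor
      rintro ⟨_, p, hp, rfl⟩ ⟨_, r, hr, rfl⟩
      exact Subtype.ext (hcomm p hp r hr)
    have hC : ∀ t : G ⧸ center G, orderOf t = 2 →
        Group.IsSolvable ↥(centralizer ({t} : Set (G ⧸ center G))) := by
      intro t ht
      obtain ⟨c, -, hc⟩ := exists_conj_into Pb (C := ⊤) (X := zpowers t) le_top le_top
        (isPGroup_zpowers (k := 1) (by rw [pow_one, ← ht]; exact pow_orderOf_eq_one t))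
      obtain ⟨p, hp, hpe⟩ := mem_map.1 (hc t (mem_zpowers t))
      have hp1 : qc G p * qc G p = 1 := by
        rw [hpe, ← sq, conj_pow, ← ht, pow_orderOf_eq_one, mul_one, mul_inv_cancel]
      have hp2 : p ∉ center G := fun h => by
        rw [qc_eq_one.2 h, eq_comm, conj_eq_one_iff] at hpe
        rw [hpe, orderOf_one] at ht
        omega
      haveI := hG.isSolvable_centralizer P hcomm hp (qc_pow_two.1 hp1) hp2
      refine Group.isSolvable_of_isSolvable_injective
        (f := ((MulAut.conj c).toMonoidHom.comp (centralizer ({t} : Set _)).subtype).codRestrict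
          (centralizer ({qc G p} : Set (G ⧸ center G))) fun x => ?_) ?_
      · refine mem_centralizer_singleton_iff.2 ?_
        rw [hpe]
        show c * x * c⁻¹ * (c * t * c⁻¹) = c * t * c⁻¹ * (c * x * c⁻¹)
        exact conj_commute (mem_centralizer_singleton_iff.1 x.2)
      · intro x y hxy
        exact Subtype.ext ((MulAut.conj c).injective (congrArg Subtype.val hxy :))
    rcases Cfsg.Agent.S3188.result Pb hS hC with h | ⟨F, hF, hFf, hq, N, hNn, ⟨eN⟩, hNc⟩
    · exact absurd h hG.not_solvable_quotient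
    haveI : (Cfsg.oddCore (G ⧸ center G)).Normal := by rw [hOC]; infer_instance
    let ι : (G ⧸ center G) ≃* (G ⧸ center G) ⧸ Cfsg.oddCore (G ⧸ center G) :=
      MulEquiv.ofBijective (QuotientGroup.mk' _)
        ⟨(MonoidHom.ker_eq_bot_iff _).1 (by rw [QuotientGroup.ker_mk', hOC]),
          QuotientGroup.mk'_surjective _⟩
    haveI := hNn
    refine ⟨F, hF, hFf, hq, N.comap ι.toMonoidHom, ⟨inferInstance, ?_⟩, ⟨?_⟩⟩
    · refine hG.centralizer_normal _ fun hb => ?_
      have : N = ⊥ := by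
        rw [← map_comap_eq_self_of_surjective (f := ι.toMonoidHom) ι.surjective N, hb, Subgroup.map_bot]
      rw [this] at hNc
      have htop : centralizer
          ((⊥ : Subgroup ((G ⧸ center G) ⧸ Cfsg.oddCore (G ⧸ center G))) :
            Set ((G ⧸ center G) ⧸ Cfsg.oddCore (G ⧸ center G))) =
          ⊤ := eq_top_iff.2 fun x _ => mem_centralizer_iff.2 fun y hy => by
            rw [SetLike.mem_coe, mem_bot] at hy; simp [hy]
      rw [htop] at hNc
      apply hG.not_solvable_quotient
      refine Group.isSolvable_of_comm fun a b => ι.injective ?_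
      have h1 : ι a = 1 := mem_bot.1 (hNc ▸ mem_top _)
      rw [map_mul, map_mul, h1, one_mul, mul_one]
    · exact (((ι.subgroupMap (N.comap ι.toMonoidHom)).trans (MulEquiv.subgroupCongr
        (map_comap_eq_self_of_surjective (f := ι.toMonoidHom) ι.surjective N))).trans eN)
  right
  push Not at hcomm
  obtain ⟨z, d⟩ := hG.exists_data P hcomm
  have huniq : ∀ w ∈ P, w * z = z * w → w * w ∈ center G → w ∉ center G → qc G w = qc G z :=
    fun w hw h1 h2 h3 => hG.unique_invol d hw h1 h2 h3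
  have hcd := cycDih_sylow d huniq
  have hdih : ∃ m, 2 ≤ m ∧ Nonempty (↥((P : Subgroup G).map (qc G)) ≃* DihedralGroup m) := by
    rcases hcd with h | h
    · obtain ⟨p, hp, r, hr, hne⟩ := hcomm
      haveI := h
      exact absurd (congrArg Subtype.val (mul_comm'
        (⟨qc G p, mem_map_of_mem _ hp⟩ : ↥((P : Subgroup G).map (qc G)))
        ⟨qc G r, mem_map_of_mem _ hr⟩)) hne
    · exact h
  refine ⟨⟨z, d⟩, hdih, ?_⟩
  obtain ⟨X, hXn, hXp, hXnt⟩ := CyclicSylows69.exists_perfect_residual hG.not_solvable_quotient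
  haveI := hXn
  haveI := hXp
  have hXns : ¬ Group.IsSolvable X := fun h => (nontrivial_iff_ne_bot _).1 hXnt
    (hG.eq_bot_of_normal_solvable X h)
  have hsoc : Socle G X := ⟨hXn, hG.centralizer_normal X ((nontrivial_iff_ne_bot _).1 hXnt)⟩
  obtain ⟨S⟩ : Nonempty (Sylow 2 X) := inferInstance
  obtain ⟨m, hm, hSd⟩ : ∃ m, 2 ≤ m ∧ Nonempty (↥(S : Subgroup X) ≃* DihedralGroup m) := by
    obtain ⟨Q, hQ⟩ := S.exists_comap_subtype_eq
    have hQd : CycDih ↥(Q : Subgroup (G ⧸ center G)) :=
      hcd.of_injective (Sylow.equiv Q Pb).toMonoidHom (Sylow.equiv Q Pb).injective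
    rcases hQd.of_injective
        ((X.subtype.comp (S : Subgroup X).subtype).codRestrict (Q : Subgroup (G ⧸ center G)) fun x => by
          have h : (x : X) ∈ (Q : Subgroup (G ⧸ center G)).comap X.subtype := by rw [hQ]; exact x.2
          exact h)
        (fun x y hxy => Subtype.ext (Subtype.ext (congrArg Subtype.val hxy :))) with h | h
    · exfalso
      have heven : 2 ∣ Nat.card X := by
        by_contra hodd
        exact hXns (Lib.OddOrder.FeitThompson.isSolvable_of_odd_card (Nat.odd_iff.2 (by omega)))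
      exact hXns (isSolvable_of_normalizer_le S (h.normalizer_le_centralizer
        (le_antisymm (Nat.minFac_le_of_dvd le_rfl heven)
          (Nat.minFac_prime fun h1 => by rw [h1] at heven; omega).two_le)))
    · exact h
  have hXO : Cfsg.oddCore X = ⊥ := by
    have hO : Group.IsSolvable (Cfsg.oddCore X) :=
      Lib.OddOrder.FeitThompson.isSolvable_of_odd_card Cores.oddCore_odd
    haveI : (Cfsg.oddCore X).Characteristic := Cores.pPrimeCore_characteristic 2
    haveI : ((Cfsg.oddCore X).map X.subtype).Normal := ConjAct.normal_of_characteristic_of_normal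
    haveI := hO
    have h := hG.eq_bot_of_normal_solvable ((Cfsg.oddCore X).map X.subtype)
      (Group.isSolvable_of_surjective (f := X.subtype.subgroupMap _) (X.subtype.subgroupMap_surjective _))
    exact (map_eq_bot_iff_of_injective _ Subtype.coe_injective).1 h
  haveI : (Cfsg.oddCore X).Normal := by rw [hXO]; infer_instance
  let ι : X ≃* X ⧸ Cfsg.oddCore X :=
    MulEquiv.ofBijective (QuotientGroup.mk' _)
      ⟨(MonoidHom.ker_eq_bot_iff _).1 (by rw [QuotientGroup.ker_mk', hXO]),
        QuotientGroup.mk'_surjective _⟩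
  rcases Cfsg.Agent.S0483.result S m hm hSd with ⟨F, hF, hFf, hodd, h3, ⟨e⟩⟩ | e
  · exact Or.inl ⟨F, hF, hFf, hodd, h3, X, hsoc, ⟨ι.trans e⟩⟩
  · exact Or.inr ⟨X, hsoc, ⟨ι.trans e.some⟩⟩

end Crit

end Cfsg.Agent.Lib.MinNonCA23
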