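import Cfsg.Agent.Lib.MinNonCA23.Tools

/-!
# Minimal non-CA-groups: the centre of a non-abelian Sylow `2`-subgroup is central

Also: when the Sylow `2`-subgroup is commutative modulo the centre, involutions of the quotient have
solvable centralisers.  Owner: helper23.
-/

set_option autoImplicit false
set_option linter.style.haveILetI false

open Subgroup
open scoped Pointwise

namespace Cfsg.Agent.Lib.MinNonCA23

universe u

variable {G : Type u} [Group G] [Finite G] {P : Sylow 2 G}

omit [Finite G] in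
theorem mem_centralizer_sing {x y : G} : y ∈ centralizer ({x} : Set G) ↔ y * x = x * y :=
  mem_centralizer_singleton_iff

/-- If `T` is properly contained in a `2`-group `Q`, some element of `Q` outside `T` normalises `T`. -/
theorem exists_normalizing {T Q : Subgroup G} (hQ : IsPGroup 2 Q) (hlt : T < Q) :
    ∃ y ∈ Q, y ∉ T ∧ y ∈ normalizer (T : Set G) := by
  haveI : Fact (Nat.Prime 2) := ⟨Nat.prime_two⟩
  haveI := hQ.isNilpotent
  have hlt' : T.subgroupOf Q < ⊤ := by
    rw [lt_top_iff_ne_top, Ne, subgroupOf_eq_top]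
    exact hlt.not_ge
  obtain ⟨y, hy, hyT⟩ := SetLike.exists_of_lt (Group.normalizerCondition_of_isNilpotent _ hlt')
  refine ⟨y, y.2, fun h => hyT (mem_subgroupOf.2 h), ?_⟩
  rw [mem_normalizer_iff] at hy ⊢
  intro x
  constructor
  · intro hx
    exact mem_subgroupOf.1 ((hy ⟨x, hlt.le hx⟩).1 (mem_subgroupOf.2 hx))
  · intro hx
    have hxQ : x ∈ Q := by
      have h := mul_mem (mul_mem (inv_mem y.2) (hlt.le hx)) y.2
      rwa [show (y : G)⁻¹ * (↑y * x * (↑y)⁻¹) * ↑y = x by group] at h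
    exact mem_subgroupOf.1 ((hy ⟨x, hxQ⟩).2 (mem_subgroupOf.2 hx))

/-- Sylow's theorem inside a subgroup `C` containing `P`. -/
theorem exists_conj_into (P : Sylow 2 G) {C X : Subgroup G} (hPC : (P : Subgroup G) ≤ C) (hXC : X ≤ C)
    (hX : IsPGroup 2 X) : ∃ c ∈ C, ∀ u ∈ X, c * u * c⁻¹ ∈ P := by
  haveI : Fact (Nat.Prime 2) := ⟨Nat.prime_two⟩
  have hXp : IsPGroup 2 (X.subgroupOf C) := hX.comap_of_injective C.subtype Subtype.coe_injective
  obtain ⟨R, hR⟩ := hXp.exists_le_sylow
  obtain ⟨c, hc⟩ := MulAction.exists_smul_eq C R (P.subtype hPC)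
  refine ⟨c, c.2, fun u hu => ?_⟩
  have h1 : (MulAut.conj c) ⟨u, hXC hu⟩ ∈ ((c • R : Sylow 2 C) : Subgroup C) :=
    Subgroup.smul_mem_pointwise_smul _ _ _ (hR (mem_subgroupOf.2 hu))
  rw [hc, Sylow.coe_subtype, mem_subgroupOf] at h1
  simp only [MulAut.conj_apply, Subgroup.coe_mul, Subgroup.coe_inv] at h1
  exact h1

namespace Crit

/-- A non-central element of a proper subgroup is moved in a non-abelian Sylow normaliser. -/
theorem normalizer_sylow_ne_top (hG : Crit G) (P : Sylow 2 G) :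
    normalizer ((P : Subgroup G) : Set G) ≠ ⊤ := fun htop =>
  hG.nonsolvable (isSolvable_of_normal_sylow P (normalizer_eq_top_iff.1 htop))

theorem sylow_ne_top (hG : Crit G) (P : Sylow 2 G) : (P : Subgroup G) ≠ ⊤ := fun h =>
  hG.normalizer_sylow_ne_top P (top_le_iff.1 (h ▸ le_normalizer))

/-- An element of the centre of a non-abelian `P` which is not in `Z(G)` is isolated in `P`. -/
theorem eq_of_conj_mem (hG : Crit G) (P : Sylow 2 G) (hna : ∃ a ∈ P, ∃ b ∈ P, a * b ≠ b * a) {z : G}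
    (hzP : z ∈ P) (hzc : ∀ p ∈ P, p * z = z * p) (hz : z ∉ center G) :
    ∀ g : G, g * z * g⁻¹ ∈ P → g * z * g⁻¹ = z := by
  haveI : Fact (Nat.Prime 2) := ⟨Nat.prime_two⟩
  classical
  intro g₀ hg₀
  by_contra hne₀
  obtain ⟨a, ha, b, hb, hab⟩ := hna
  let S : Set G := {y | y ∈ P ∧ y ≠ z ∧ ∃ g : G, y = g * z * g⁻¹}
  obtain ⟨y, hyS, hmax⟩ := S.toFinite.exists_maximalFor
    (fun y => Nat.card ((P : Subgroup G) ⊓ centralizer ({y} : Set G) : Subgroup G)) S
    ⟨_, hg₀, hne₀, g₀, rfl⟩
  obtain ⟨hyP, hyz, g, hg⟩ := hyS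
  set T := (P : Subgroup G) ⊓ centralizer ({y} : Set G) with hTdef
  have hzT : z ∈ T := ⟨hzP, mem_centralizer_sing.2 (hzc y hyP).symm⟩
  have hyT : y ∈ T := ⟨hyP, mem_centralizer_sing.2 rfl⟩
  by_cases hTP : (P : Subgroup G) ≤ T
  · -- `y` is central in `P`: Burnside
    have hcy : y ∈ centralizer ((P : Subgroup G) : Set G) :=
      mem_centralizer_iff.2 fun p hp => mem_centralizer_sing.1 (hTP hp).2
    have hcz : z ∈ centralizer ((P : Subgroup G) : Set G) := mem_centralizer_iff.2 hzc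
    obtain ⟨n, hn, hne⟩ := P.conj_eq_normalizer_conj_of_mem_centralizer z g⁻¹ hcz
      (by rw [inv_inv, ← hg]; exact hcy)
    rw [inv_inv, ← hg] at hne
    have h := hG.central (hG.normalizer_sylow_ne_top P) (le_normalizer hzP) (le_normalizer ha)
      (le_normalizer hb) (hzc a ha) (hzc b hb) hab hn
    exact hyz (by rw [hne, mul_assoc, ← h, ← mul_assoc, inv_mul_cancel, one_mul])
  have hTlt : T < (P : Subgroup G) := lt_of_le_not_ge inf_le_left hTP
  set N := normalizer (T : Set G) with hN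
  have hNtop : N ≠ ⊤ := by
    intro htop
    haveI := normalizer_eq_top_iff.1 htop
    haveI : Group.IsNilpotent T := (P.isPGroup'.to_le inf_le_left).isNilpotent
    have hyc := hG.le_center T inferInstance hyT
    exact hTP fun p hp => ⟨hp, mem_centralizer_sing.2 (mem_center_iff.1 hyc p)⟩
  obtain ⟨s, hsP, hsT, hsN⟩ := exists_normalizing P.isPGroup' hTlt
  have hall : ∀ h ∈ N, h * z = z * h := fun h hh =>
    hG.central hNtop (le_normalizer hzT) hsN (le_normalizer hyT) (hzc s hsP)
      (hzc y hyP) (fun e => hsT ⟨hsP, mem_centralizer_sing.2 e⟩) hh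
  -- a Sylow subgroup centralising `y` and containing `T`
  have hTy : T ≤ centralizer ({y} : Set G) := inf_le_right
  let P' : Sylow 2 G := MulAut.conj g • P
  have hP'mem : ∀ u : G, u ∈ P' ↔ g⁻¹ * u * g ∈ P := by
    intro u
    show u ∈ MulAut.conj g • (P : Subgroup G) ↔ _
    rw [mem_pointwise_smul_iff_inv_smul_mem, MulAut.smul_def, MulAut.conj_inv_apply]
    rfl
  have hP'y : (P' : Subgroup G) ≤ centralizer ({y} : Set G) := by
    intro u hu
    have h := hzc _ ((hP'mem u).1 hu)
    rw [mem_centralizer_sing, hg]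
    calc u * (g * z * g⁻¹) = g * (g⁻¹ * u * g * z) * g⁻¹ := by group
      _ = g * (z * (g⁻¹ * u * g)) * g⁻¹ := by rw [h]
      _ = g * z * g⁻¹ * u := by group
  obtain ⟨c, hc, hcT⟩ := exists_conj_into P' hP'y hTy (P.isPGroup'.to_le inf_le_left)
  rw [mem_centralizer_sing] at hc
  -- `d = g⁻¹ c` moves `T` into `P` and `y` to `z`
  set d := g⁻¹ * c with hd
  have hdT : ∀ u ∈ T, d * u * d⁻¹ ∈ P := fun u hu => by
    have := (hP'mem _).1 (hcT u hu)
    rwa [show g⁻¹ * (c * u * c⁻¹) * g = d * u * d⁻¹ by rw [hd]; group] at this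
  have hdy : d * y * d⁻¹ = z := by
    calc d * y * d⁻¹ = g⁻¹ * (c * y) * c⁻¹ * g := by rw [hd]; group
      _ = g⁻¹ * y * g := by rw [hc]; group
      _ = z := by rw [hg]; group
  set T₂ := T.map (MulAut.conj d).toMonoidHom with hT2
  have hT2P : T₂ < (P : Subgroup G) := by
    refine lt_of_le_of_ne ?_ fun e => hTlt.ne ?_
    · rintro _ ⟨u, hu, rfl⟩
      exact hdT u hu
    · refine eq_of_le_of_card_ge hTlt.le (le_of_eq ?_)
      rw [← e, hT2, card_map_of_injective (MulAut.conj d).injective]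
  obtain ⟨s₂, hs₂P, hs₂T, hs₂N⟩ := exists_normalizing P.isPGroup' hT2P
  set s' := d⁻¹ * s₂ * d with hs'
  have hds' : d * s' * d⁻¹ = s₂ := by rw [hs']; group
  have hs'y : s' * y = y * s' := by
    apply (MulAut.conj d).injective
    simp only [MulAut.conj_apply]
    calc d * (s' * y) * d⁻¹ = (d * s' * d⁻¹) * (d * y * d⁻¹) := by group
      _ = (d * y * d⁻¹) * (d * s' * d⁻¹) := by rw [hds', hdy]; exact hzc s₂ hs₂P
      _ = d * (y * s') * d⁻¹ := by group
  have hs'T : s' ∉ T := fun h => hs₂T ⟨s', h, by simp [hds']⟩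
  have hs'N : s' ∈ N := by
    rw [hN, mem_normalizer_iff]
    intro u
    have h := mem_normalizer_iff.1 hs₂N (d * u * d⁻¹)
    have hmem : ∀ w : G, d * w * d⁻¹ ∈ T₂ ↔ w ∈ T := fun w => by
      constructor
      · rintro ⟨v, hv, he⟩
        rwa [← (MulAut.conj d).injective (he : MulAut.conj d v = MulAut.conj d w)]
      · intro hw
        exact ⟨w, hw, by simp⟩
    rw [hmem, show s₂ * (d * u * d⁻¹) * s₂⁻¹ = d * (s' * u * s'⁻¹) * d⁻¹ by rw [hs']; group,
      hmem] at h
    exact h
  set U := T ⊔ zpowers s' with hU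
  have hUd : ∀ u ∈ U, d * u * d⁻¹ ∈ P := by
    have hle : U ≤ (P : Subgroup G).comap (MulAut.conj d).toMonoidHom := by
      refine sup_le (fun u hu => hdT u hu) (zpowers_le.2 ?_)
      show d * s' * d⁻¹ ∈ (P : Subgroup G)
      rw [hds']; exact hs₂P
    intro u hu
    exact hle hu
  have hUp : IsPGroup 2 U := by
    refine (P.isPGroup'.comap_of_injective (MulAut.conj d).toMonoidHom (MulAut.conj d).injective).to_le ?_
    intro u hu
    exact hUd u hu
  have hUz : U ≤ centralizer ({z} : Set G) :=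
    sup_le (fun u hu => mem_centralizer_sing.2 (hzc u hu.1))
      (zpowers_le.2 (mem_centralizer_sing.2 (hall s' hs'N)))
  have hUy : ∀ u ∈ U, u * y = y * u := by
    have hle : U ≤ centralizer ({y} : Set G) := sup_le hTy (zpowers_le.2 (mem_centralizer_sing.2 hs'y))
    exact fun u hu => mem_centralizer_sing.1 (hle hu)
  obtain ⟨e, he, heU⟩ := exists_conj_into P (fun p hp => mem_centralizer_sing.2 (hzc p hp)) hUz hUp
  rw [mem_centralizer_sing] at he
  have hy' : e * y * e⁻¹ ∈ S := by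
    refine ⟨heU y (mem_sup_left hyT), fun h => hyz ?_, e * g, by rw [hg]; group⟩
    calc y = e⁻¹ * (e * y * e⁻¹) * e := by group
      _ = e⁻¹ * (z * e) := by rw [h]; group
      _ = z := by rw [← he]; group
  have hle : U.map (MulAut.conj e).toMonoidHom ≤
      (P : Subgroup G) ⊓ centralizer ({e * y * e⁻¹} : Set G) := by
    rintro _ ⟨u, hu, rfl⟩
    refine ⟨heU u hu, mem_centralizer_sing.2 ?_⟩
    show e * u * e⁻¹ * (e * y * e⁻¹) = e * y * e⁻¹ * (e * u * e⁻¹)
    calc e * u * e⁻¹ * (e * y * e⁻¹) = e * (u * y) * e⁻¹ := by group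
      _ = e * (y * u) * e⁻¹ := by rw [hUy u hu]
      _ = e * y * e⁻¹ * (e * u * e⁻¹) := by group
  have hlt : T < U := lt_of_le_of_ne le_sup_left fun h =>
    hs'T (by rw [h]; exact mem_sup_right (mem_zpowers s'))
  have hcT' : Nat.card T < Nat.card U := by
    refine lt_of_le_of_ne (Nat.card_le_card_of_injective _ (inclusion_injective hlt.le)) fun h => ?_
    exact hlt.ne (eq_of_le_of_card_ge hlt.le h.ge)
  have h1 := card_le_of_le hle
  rw [card_map_of_injective (MulAut.conj e).injective] at h1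
  have hTy' : Nat.card T = Nat.card ((P : Subgroup G) ⊓ centralizer ({y} : Set G) : Subgroup G) := rfl
  have h2 := hmax hy' (by simp only; omega)
  simp only at h2
  omega

/-- **D**: the centre of a non-abelian Sylow `2`-subgroup is central. -/
theorem center_le (hG : Crit G) (P : Sylow 2 G) (hna : ∃ a ∈ P, ∃ b ∈ P, a * b ≠ b * a) {z : G}
    (hzP : z ∈ P) (hzc : ∀ p ∈ P, p * z = z * p) : z ∈ center G := by
  classical
  by_contra hz
  have hex : ∃ k : ℕ, z ^ 2 ^ k ∈ center G := by
    obtain ⟨k, hk⟩ := exists_two_pow P hzP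
    exact ⟨k, hk ▸ one_mem _⟩
  obtain ⟨k, hk⟩ : ∃ k, Nat.find hex = k + 1 :=
    Nat.exists_eq_succ_of_ne_zero fun h => hz (by simpa [h] using Nat.find_spec hex)
  set t := z ^ 2 ^ k with ht
  have htP : t ∈ P := (P : Subgroup G).pow_mem hzP _
  have htc : ∀ p ∈ P, p * t = t * p := fun p hp => ((show Commute p z from hzc p hp).pow_right _).eq
  have htz : t ∉ center G := Nat.find_min hex (by omega)
  have ht2 : t * t ∈ center G := by
    have := Nat.find_spec hex
    rwa [hk, pow_succ, pow_mul, sq] at this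
  refine hG.not_isolated P htP ht2 htz fun g hg => ?_
  rw [hG.eq_of_conj_mem P hna htP htc htz g (conj_mem_of_qc htP hg)]

/-- A non-central element of `P` is moved by the normaliser of `P`, unless it is isolated. -/
theorem exists_moving (hG : Crit G) (P : Sylow 2 G) {t : G} (htP : t ∈ P) (ht2 : t * t ∈ center G)
    (htc : t ∉ center G) : ∃ p ∈ normalizer ((P : Subgroup G) : Set G), p * t ≠ t * p := by
  haveI : Fact (Nat.Prime 2) := ⟨Nat.prime_two⟩
  by_contra h
  push Not at h
  by_cases hna : ∃ a ∈ P, ∃ b ∈ P, a * b ≠ b * a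
  · exact htc (hG.center_le P hna htP fun p hp => h p (le_normalizer hp))
  push Not at hna
  haveI : IsMulCommutative (P : Subgroup G) :=
    ⟨⟨fun a b => Subtype.ext (hna a a.2 b b.2)⟩⟩
  refine hG.not_isolated P htP ht2 htc fun g hg => ?_
  obtain ⟨n, hn, hne⟩ := P.conj_eq_normalizer_conj_of_mem t g⁻¹ htP
    (by rw [inv_inv]; exact conj_mem_of_qc htP hg)
  rw [inv_inv] at hne
  rw [hne, mul_assoc, ← h n hn, ← mul_assoc, inv_mul_cancel, one_mul]

/-- When `P` is commutative modulo the centre, involutions of the quotient have solvable centralisers. -/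
theorem isSolvable_centralizer (hG : Crit G) (P : Sylow 2 G)
    (hcomm : ∀ p ∈ P, ∀ r ∈ P, qc G p * qc G r = qc G r * qc G p) {t : G} (htP : t ∈ P)
    (ht2 : t * t ∈ center G) (htc : t ∉ center G) :
    Group.IsSolvable (centralizer ({qc G t} : Set (G ⧸ center G))) := by
  haveI : Fact (Nat.Prime 2) := ⟨Nat.prime_two⟩
  obtain ⟨m, hmN, hmt⟩ := hG.exists_moving P htP ht2 htc
  set D := centralizer ({qc G t} : Set (G ⧸ center G))
  set Pb := P.mapSurjective (qc_surjective (G := G))
  have hPD : (Pb : Subgroup (G ⧸ center G)) ≤ D := by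
    rintro _ ⟨p, hp, rfl⟩
    exact mem_centralizer_singleton_iff.2 (hcomm p hp t htP)
  refine isSolvable_of_normalizer_le (Pb.subtype hPD) ?_
  intro n hn
  rw [mem_centralizer_iff]
  rintro ⟨x, hxD⟩ hx
  rw [Sylow.coe_subtype, SetLike.mem_coe, mem_subgroupOf] at hx
  obtain ⟨p, hp, hpx⟩ := (mem_map.1 hx)
  obtain ⟨g, hg⟩ := qc_surjective (n : G ⧸ center G)
  have hgN : g ∈ normalizer ((P : Subgroup G) : Set G) := by
    have h : ∀ u ∈ P, g * u * g⁻¹ ∈ P ∧ g⁻¹ * u * g⁻¹⁻¹ ∈ P := by
      intro u hu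
      have huD : qc G u ∈ D := hPD (mem_map_of_mem _ hu)
      have h1 := (mem_normalizer_iff.1 hn ⟨qc G u, huD⟩).1 (by
        rw [Sylow.coe_subtype, mem_subgroupOf]; exact mem_map_of_mem _ hu)
      have h2 := (mem_normalizer_iff.1 (inv_mem hn) ⟨qc G u, huD⟩).1 (by
        rw [Sylow.coe_subtype, mem_subgroupOf]; exact mem_map_of_mem _ hu)
      rw [Sylow.coe_subtype, mem_subgroupOf] at h1 h2
      refine ⟨conj_mem_of_qc hu ?_, conj_mem_of_qc hu ?_⟩
      · rw [qc_conj, hg]; exact h1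
      · rw [qc_conj, map_inv, hg]
        simp only [Subgroup.coe_mul, Subgroup.coe_inv, inv_inv] at h2 ⊢
        exact h2
    rw [mem_normalizer_iff]
    intro u
    refine ⟨fun hu => (h u hu).1, fun hu => ?_⟩
    have := (h _ hu).2
    rwa [show g⁻¹ * (g * u * g⁻¹) * g⁻¹⁻¹ = u by group] at this
  obtain ⟨a, b, hab, haz, hbz, haodd, k, hbk⟩ := exists_split g
  have haN : a ∈ normalizer ((P : Subgroup G) : Set G) := (zpowers_le.2 hgN) haz
  have hbP : b ∈ P := mem_of_normalizes ((zpowers_le.2 hgN) hbz) hbk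
  have hat : a * t = t * a := by
    have hgD : zpowers g ≤ D.comap (qc G) := zpowers_le.2 (by rw [mem_comap, hg]; exact n.2)
    have h1 := mem_centralizer_singleton_iff.1 (mem_comap.1 (hgD haz))
    have hc : t⁻¹ * (a * t * a⁻¹) ∈ center G := by
      rw [← qc_eq_iff, qc_conj, h1, mul_inv_cancel_right]
    have hu : a * t * a⁻¹ ∈ P := (mem_normalizer_iff.1 haN t).1 htP
    have hcP : t⁻¹ * (a * t * a⁻¹) ∈ P := mul_mem (inv_mem htP) hu
    obtain ⟨j, hj⟩ := exists_two_pow P hcP
    exact odd_fix haodd (comm_of_center hc a) hj (by rw [mul_inv_cancel_left])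
  -- `a` centralises `C_P(t)`, hence `P`
  have hA : ∀ u ∈ P, u * t = t * u → a * u = u * a := fun u hu hut =>
    hG.commute_of_moved (hG.normalizer_sylow_ne_top P) (le_normalizer htP) haN (le_normalizer hu) hmN
      hat hut hmt
  have hap : a * p = p * a := by
    set p' := a * p * a⁻¹ with hp'
    set e := p⁻¹ * t⁻¹ * p * t with he
    have he' : t⁻¹ * p * t = p * e := by rw [he]; group
    have hec : e ∈ center G := by
      rw [← qc_eq_one, he]
      simp only [map_mul, map_inv]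
      rw [mul_assoc _ (qc G p), hcomm p hp t htP]; group
    have h' : t⁻¹ * p' * t = p' * e := by
      calc t⁻¹ * p' * t = a * (t⁻¹ * p * t) * a⁻¹ := by
            rw [hp']
            calc t⁻¹ * (a * p * a⁻¹) * t = (t⁻¹ * a) * p * (a⁻¹ * t) := by group
              _ = (a * t⁻¹) * p * (t * a⁻¹) := by
                rw [(show Commute a t from hat).inv_right.eq, (show Commute a t from hat).inv_left.eq]
              _ = a * (t⁻¹ * p * t) * a⁻¹ := by group
        _ = a * p * (e * a⁻¹) := by rw [he']; group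
        _ = p' * e := by rw [hp', ← mem_center_iff.1 hec a⁻¹]; group
    set β := p⁻¹ * p' with hβ
    have hβP : β ∈ P := mul_mem (inv_mem hp) ((mem_normalizer_iff.1 haN p).1 hp)
    have hβt : β * t = t * β := by
      calc β * t = t * ((t⁻¹ * p * t)⁻¹ * (t⁻¹ * p' * t)) := by rw [hβ]; group
        _ = t * ((p * e)⁻¹ * (p' * e)) := by rw [he', h']
        _ = t * (e⁻¹ * (β * e)) := by rw [hβ]; group
        _ = t * β := by rw [mem_center_iff.1 hec β]; group
    have hc := hA β hβP hβt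
    obtain ⟨j, hj⟩ := exists_two_pow P hβP
    exact odd_fix haodd hc hj (show a * p * a⁻¹ = p * β by rw [hβ, mul_inv_cancel_left])
  apply Subtype.ext
  show x * (n : G ⧸ center G) = (n : G ⧸ center G) * x
  have h1 : qc G b * qc G p = qc G p * qc G b := hcomm b hbP p hp
  have h2 : qc G a * qc G p = qc G p * qc G a := by rw [← map_mul, ← map_mul, hap]
  have hpx' : qc G p = x := hpx
  rw [← hpx', ← hg, hab, map_mul, ← mul_assoc, ← h2, mul_assoc, ← h1, ← mul_assoc]

end Crit

end Cfsg.Agent.Lib.MinNonCA23
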