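import Cfsg.Agent.Lib.MinNonCA23.Quotient

/-!
# Minimal non-CA-groups: tools around a Sylow `2`-subgroup

Owner: helper23.
-/

set_option autoImplicit false
set_option linter.style.haveILetI false

open Subgroup

namespace Cfsg.Agent.Lib.MinNonCA23

universe u

variable {G : Type u} [Group G] [Finite G] {P : Sylow 2 G}

omit [Finite G] in
theorem exists_two_pow (P : Sylow 2 G) {p : G} (hp : p ∈ P) : ∃ k : ℕ, p ^ 2 ^ k = 1 := by
  obtain ⟨k, hk⟩ := P.isPGroup' ⟨p, hp⟩
  exact ⟨k, congrArg Subtype.val hk⟩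

omit [Finite G] in
theorem isPGroup_zpowers {c : G} {k : ℕ} (hk : c ^ 2 ^ k = 1) : IsPGroup 2 (zpowers c) := by
  rintro ⟨x, hx⟩
  obtain ⟨n, rfl⟩ := mem_zpowers_iff.1 hx
  exact ⟨k, Subtype.ext (by
    show (c ^ n) ^ 2 ^ k = 1
    rw [← zpow_natCast, ← zpow_mul, mul_comm, zpow_mul, zpow_natCast, hk, one_zpow])⟩

theorem mem_of_central {c : G} {k : ℕ} (hc : c ∈ center G) (hk : c ^ 2 ^ k = 1) (P : Sylow 2 G) :
    c ∈ P := by
  haveI : Fact (Nat.Prime 2) := ⟨Nat.prime_two⟩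
  haveI : (zpowers c).Normal := ⟨fun x hx g => by
    have : x ∈ center G := (zpowers_le.2 hc) hx
    rwa [mem_center_iff.1 this g, mul_inv_cancel_right]⟩
  exact (isPGroup_zpowers hk).le_sylow_of_normal P (mem_zpowers c)

omit [Finite G] in
/-- `p⁻¹ y` is a `2`-element for commuting `2`-elements. -/
theorem exists_two_pow_div {p y : G} {i j : ℕ} (hp : p ^ 2 ^ i = 1) (hy : y ^ 2 ^ j = 1)
    (hpy : Commute p y) : (p⁻¹ * y) ^ 2 ^ (i + j) = 1 := by
  rw [hpy.inv_left.mul_pow, inv_pow]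
  have h1 : p ^ 2 ^ (i + j) = 1 := by rw [pow_add, pow_mul, hp, one_pow]
  have h2 : y ^ 2 ^ (i + j) = 1 := by rw [add_comm, pow_add, pow_mul, hy, one_pow]
  rw [h1, h2, inv_one, one_mul]

/-- A conjugate of an element of `P` which lies in `P` modulo the centre lies in `P`. -/
theorem conj_mem_of_qc {z g : G} (hz : z ∈ P)
    (h : qc G (g * z * g⁻¹) ∈ (P : Subgroup G).map (qc G)) : g * z * g⁻¹ ∈ P := by
  obtain ⟨p, hp, hpe⟩ := mem_map.1 h
  have hc : p⁻¹ * (g * z * g⁻¹) ∈ center G := qc_eq_iff.1 hpe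
  obtain ⟨i, hi⟩ := exists_two_pow P hp
  obtain ⟨j, hj⟩ := exists_two_pow P hz
  have hj' : (g * z * g⁻¹) ^ 2 ^ j = 1 := by rw [conj_pow, hj, mul_one, mul_inv_cancel]
  have hcomm : Commute p (g * z * g⁻¹) := by
    have h1 : Commute p (p * (p⁻¹ * (g * z * g⁻¹))) := (Commute.refl p).mul_right (comm_of_center hc p)
    rwa [mul_inv_cancel_left] at h1
  have := mem_of_central hc (exists_two_pow_div hi hj' hcomm) P
  have h2 : p * (p⁻¹ * (g * z * g⁻¹)) ∈ P := mul_mem hp this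
  rwa [mul_inv_cancel_left] at h2

/-- An element of odd order moving `t` by a `2`-element it commutes with fixes `t`. -/
theorem odd_fix {a t c : G} {k : ℕ} (ha : Odd (orderOf a)) (hc : Commute a c) (hk : c ^ 2 ^ k = 1)
    (h : a * t * a⁻¹ = t * c) : a * t = t * a := by
  have hpow : ∀ m : ℕ, a ^ m * t * (a ^ m)⁻¹ = t * c ^ m := by
    intro m
    induction m with
    | zero => simp
    | succ m ih =>
      calc a ^ (m + 1) * t * (a ^ (m + 1))⁻¹ = a * (a ^ m * t * (a ^ m)⁻¹) * a⁻¹ := by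
            rw [pow_succ']; group
        _ = a * t * c ^ m * a⁻¹ := by rw [ih]; group
        _ = a * t * a⁻¹ * c ^ m := by
            rw [mul_assoc _ (c ^ m), ← (hc.inv_left.pow_right m).eq, ← mul_assoc]
        _ = t * c ^ (m + 1) := by rw [h, pow_succ', mul_assoc]
  have h1 := hpow (orderOf a)
  rw [pow_orderOf_eq_one, one_mul, inv_one, mul_one] at h1
  have hca : c ^ orderOf a = 1 := by simpa using h1
  have hcop : Nat.Coprime (orderOf a) (2 ^ k) :=
    Nat.Coprime.pow_right k (Nat.coprime_two_right.2 ha)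
  have hc1 : c = 1 := by
    rw [← orderOf_eq_one_iff, ← Nat.dvd_one, ← hcop.gcd_eq_one]
    exact Nat.dvd_gcd (orderOf_dvd_of_pow_eq_one hca) (orderOf_dvd_of_pow_eq_one hk)
  rw [hc1, mul_one, mul_inv_eq_iff_eq_mul] at h
  exact h

/-- An element of a subgroup `H` normalising a Sylow `2`-subgroup `P ≤ H` of it: odd times `2`. -/
theorem exists_split (n : G) :
    ∃ a b : G, n = a * b ∧ a ∈ zpowers n ∧ b ∈ zpowers n ∧ Odd (orderOf a) ∧
      ∃ k : ℕ, b ^ 2 ^ k = 1 := by
  obtain ⟨k, m, hm, hkm⟩ := Nat.exists_eq_two_pow_mul_odd (n := orderOf n) (orderOf_pos n).ne'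
  have hcop : (2 ^ k).Coprime m := Nat.Coprime.pow_left k (Nat.coprime_two_left.2 hm)
  have hg := Nat.gcd_eq_gcd_ab (2 ^ k) m
  rw [hcop.gcd_eq_one] at hg
  refine ⟨(n ^ 2 ^ k) ^ Nat.gcdA (2 ^ k) m, (n ^ m) ^ Nat.gcdB (2 ^ k) m, ?_,
    zpow_mem (pow_mem (mem_zpowers n) _) _, zpow_mem (pow_mem (mem_zpowers n) _) _, ?_, k, ?_⟩
  · rw [← zpow_natCast n (2 ^ k), ← zpow_natCast n m, ← zpow_mul, ← zpow_mul, ← zpow_add]
    rw [← hg, Nat.cast_one, zpow_one]
  · refine Odd.of_dvd_nat hm (orderOf_dvd_of_pow_eq_one ?_)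
    rw [← zpow_natCast, ← zpow_mul, mul_comm, zpow_mul, zpow_natCast, ← pow_mul, ← hkm,
      pow_orderOf_eq_one, one_zpow]
  · rw [← zpow_natCast, ← zpow_mul, mul_comm, zpow_mul, zpow_natCast, ← pow_mul, mul_comm, ← hkm,
      pow_orderOf_eq_one, one_zpow]

/-- A `2`-element normalising a Sylow `2`-subgroup lies in it. -/
theorem mem_of_normalizes {b : G} {k : ℕ} (hb : b ∈ normalizer ((P : Subgroup G) : Set G))
    (hk : b ^ 2 ^ k = 1) : b ∈ P := by
  haveI : Fact (Nat.Prime 2) := ⟨Nat.prime_two⟩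
  have hp : IsPGroup 2 ((zpowers b) ⊔ (P : Subgroup G) : Subgroup G) :=
    IsPGroup.to_sup_of_normal_right' (isPGroup_zpowers hk) P.isPGroup' (zpowers_le.2 hb)
  have h := P.is_maximal' hp le_sup_right
  have hb2 : b ∈ zpowers b ⊔ (P : Subgroup G) := mem_sup_left (mem_zpowers b)
  rwa [h] at hb2

/-- A finite group with a Sylow `2`-subgroup central in its normaliser is solvable. -/
theorem isSolvable_of_normalizer_le {K : Type*} [Group K] [Finite K] (Q : Sylow 2 K)
    (hle : normalizer ((Q : Subgroup K) : Set K) ≤ centralizer ((Q : Subgroup K) : Set K)) :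
    Group.IsSolvable K := by
  haveI : Fact (Nat.Prime 2) := ⟨Nat.prime_two⟩
  haveI : IsMulCommutative (Q : Subgroup K) :=
    ⟨⟨fun a b => Subtype.ext ((mem_centralizer_iff.1 (hle (le_normalizer b.2))) a a.2)⟩⟩
  set N := (MonoidHom.transferSylow Q hle).ker with hN
  have hNs : Group.IsSolvable N := by
    refine Lib.OddOrder.FeitThompson.isSolvable_of_odd_card ?_
    have := MonoidHom.not_dvd_card_ker_transferSylow Q hle
    rw [← hN] at this
    rw [Nat.odd_iff]
    omega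
  refine isSolvable_of_normal N hNs ?_
  have e := QuotientGroup.quotientKerEquivRange (MonoidHom.transferSylow Q hle)
  haveI : Group.IsSolvable (Q : Subgroup K) := Group.isSolvable_of_comm fun a b => mul_comm' a b
  exact Group.isSolvable_of_isSolvable_injective (f := (Subgroup.subtype _).comp e.toMonoidHom)
    (Subtype.coe_injective.comp e.injective)

end Cfsg.Agent.Lib.MinNonCA23
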