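import Cfsg.Agent.Lib.MinNonCA23.Embed

/-!
# Minimal non-CA-groups: root and torus elements, fixed fields

Centralisers of lifts of unipotent and toral elements are abelian.  Owner: helper23.
-/

set_option autoImplicit false
set_option linter.style.haveILetI false

open Subgroup Matrix
open scoped commutatorElement

namespace Cfsg.Agent.Lib.MinNonCA23

universe u

variable {G : Type u} [Group G] {F : Type} [Field F]

local notation "SL2" => Matrix.SpecialLinearGroup (Fin 2) F
local notation "M2" => Matrix (Fin 2) (Fin 2) F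

/-- The root group, as a homomorphism. -/
def uHom : Multiplicative F →* Matrix.SpecialLinearGroup (Fin 2) F where
  toFun t := uU t.toAdd
  map_one' := Subtype.ext (by ext i j; fin_cases i <;> fin_cases j <;> simp [uU, coe_mk2])
  map_mul' s t := Subtype.ext (by
    ext i j
    fin_cases i <;> fin_cases j <;> simp [uU, coe_mk2, Matrix.mul_apply, Fin.sum_univ_two, add_comm])

/-- The torus, as a homomorphism. -/
def tHom : Fˣ →* Matrix.SpecialLinearGroup (Fin 2) F where
  toFun a := hT (a : F) a.ne_zero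
  map_one' := Subtype.ext (by ext i j; fin_cases i <;> fin_cases j <;> simp [hT, coe_mk2])
  map_mul' s t := Subtype.ext (by
    ext i j
    fin_cases i <;> fin_cases j <;>
      simp [hT, coe_mk2, Matrix.mul_apply, Fin.sum_univ_two, mul_comm])

/-- The diagonal matrix `diag(d, 1)`. -/
noncomputable def diagGL (d : F) (hd : d ≠ 0) : GL (Fin 2) F :=
  Matrix.GeneralLinearGroup.mkOfDetNeZero !![d, 0; 0, 1] (by simpa [Matrix.det_fin_two] using hd)

theorem coe_diagGL (d : F) (hd : d ≠ 0) : ((diagGL d hd : GL (Fin 2) F) : M2) = !![d, 0; 0, 1] := rfl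

theorem fieldSL_uU (σ : F ≃+* F) (t : F) : AutPSL.fieldSL σ (uU t : SL2) = uU (σ t) :=
  Subtype.ext (by ext i j; fin_cases i <;> fin_cases j <;> simp [uU, coe_mk2, AutPSL.coe_fieldSL])

theorem fieldSL_hT (σ : F ≃+* F) (a : F) (ha : a ≠ 0) :
    AutPSL.fieldSL σ (hT a ha : SL2) = hT (σ a) (by simpa using ha) :=
  Subtype.ext (by ext i j; fin_cases i <;> fin_cases j <;> simp [hT, coe_mk2, AutPSL.coe_fieldSL])

theorem fieldSL_wW (σ : F ≃+* F) : AutPSL.fieldSL σ (wW : SL2) = wW :=
  Subtype.ext (by ext i j; fin_cases i <;> fin_cases j <;> simp [wW, coe_mk2, AutPSL.coe_fieldSL])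

/-- Homomorphisms out of a perfect group which agree modulo the centre agree. -/
theorem hom_ext_of_qc {S : Type*} [Group S] (hS : commutator S = ⊤) {H : Type*} [Group H]
    (f f' : S →* H) (h : ∀ s, (f s)⁻¹ * f' s ∈ center H) : f = f' := by
  have hle : commutator S ≤ f.eqLocus f' := by
    rw [_root_.commutator_def, commutator_le]
    intro a _ b _
    show f ⁅a, b⁆ = f' ⁅a, b⁆
    have key : ∀ c, ∃ e ∈ center H, f' c = f c * e := fun c => ⟨_, h c, (mul_inv_cancel_left _ _).symm⟩
    obtain ⟨e, he, hea⟩ := key a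
    obtain ⟨e', he', heb⟩ := key b
    rw [map_commutatorElement, map_commutatorElement, hea, heb]
    simp only [commutatorElement_def, _root_.mul_inv_rev]
    symm
    calc f a * e * (f b * e') * (e⁻¹ * (f a)⁻¹) * (e'⁻¹ * (f b)⁻¹)
        = f a * ((e * (f b * e')) * e⁻¹) * (f a)⁻¹ * (e'⁻¹ * (f b)⁻¹) := by group
      _ = f a * f b * (e' * ((f a)⁻¹ * e'⁻¹)) * (f b)⁻¹ := by
          rw [← mem_center_iff.1 he (f b * e')]; group
      _ = f a * f b * (f a)⁻¹ * (f b)⁻¹ := by
          rw [← mem_center_iff.1 he' ((f a)⁻¹ * e'⁻¹)]; group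
  rw [hS] at hle
  exact MonoidHom.ext fun s => hle (mem_top s)

theorem commutator_sl [Fintype F] (hq : 4 ≤ Fintype.card F) : commutator SL2 = ⊤ :=
  Lib.Linear.commutator_SL_eq_top le_rfl fun _ => by rwa [Nat.card_eq_fintype_card]

/-- The fixed elements of a field automorphism. -/
def fixedSub (σ : F ≃+* F) : AddSubgroup F where
  carrier := {x | σ x = x}
  zero_mem' := map_zero σ
  add_mem' {a b} ha hb := by
    show σ (a + b) = a + b
    rw [map_add, ha, hb]
  neg_mem' {a} ha := by
    show σ (-a) = -a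
    rw [map_neg, ha]

theorem card_fixedSub_mul [Fintype F] {σ : F ≃+* F} (hne : σ ≠ 1) (h2 : σ * σ = 1) :
    Nat.card (fixedSub σ) * Nat.card (fixedSub σ) = Fintype.card F := by
  obtain ⟨β, hβ⟩ : ∃ β, σ β ≠ β := by
    by_contra h
    push Not at h
    exact hne (RingEquiv.ext h)
  have hss : ∀ x, σ (σ x) = x := fun x => by
    have := RingEquiv.congr_fun h2 x
    exact this
  let f : fixedSub σ × fixedSub σ → F := fun p => (p.1 : F) + (p.2 : F) * β
  have hinj : Function.Injective f := by
    rintro ⟨⟨u, hu⟩, ⟨v, hv⟩⟩ ⟨⟨u', hu'⟩, ⟨v', hv'⟩⟩ h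
    simp only [f] at h
    have hu0 : σ u = u := hu
    have hv0 : σ v = v := hv
    have hu0' : σ u' = u' := hu'
    have hv0' : σ v' = v' := hv'
    have h' := congrArg σ h
    rw [map_add, map_add, map_mul, map_mul, hu0, hv0, hu0', hv0'] at h'
    have hv1 : v = v' := by
      have : (v - v') * (σ β - β) = 0 := by linear_combination h' - h
      exact sub_eq_zero.1 ((mul_eq_zero.1 this).resolve_right (sub_ne_zero.2 hβ))
    subst hv1
    exact Prod.ext (Subtype.ext (add_right_cancel h)) rfl
  have hsurj : Function.Surjective f := by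
    intro b
    set v := (σ b - b) / (σ β - β) with hv
    have hd : σ β - β ≠ 0 := sub_ne_zero.2 hβ
    have hvf : σ v = v := by
      rw [hv, map_div₀, map_sub, map_sub, hss, hss, ← neg_sub (σ b), ← neg_sub (σ β), neg_div_neg_eq]
    have hvm : v * (σ β - β) = σ b - b := div_mul_cancel₀ _ hd
    have huf : σ (b - v * β) = b - v * β := by
      rw [map_sub, map_mul, hvf]
      linear_combination -hvm
    exact ⟨(⟨b - v * β, huf⟩, ⟨v, hvf⟩), by simp [f]⟩
  rw [← Nat.card_prod, Nat.card_eq_of_bijective f ⟨hinj, hsurj⟩, Nat.card_eq_fintype_card]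

/-- An automorphism of order two has an element of norm one with fourth power different from `1`. -/
theorem exists_norm_one [Fintype F] {σ : F ≃+* F} (hne : σ ≠ 1) (h2 : σ * σ = 1)
    (hq : 4 * 4 ≤ Fintype.card F) : ∃ a : F, a ≠ 0 ∧ σ a * a = 1 ∧ a ^ 4 ≠ 1 := by
  classical
  have hss : ∀ x, σ (σ x) = x := fun x => RingEquiv.congr_fun h2 x
  by_contra hcon
  push Not at hcon
  have hfix : ∀ b : F, b ≠ 0 → σ (b ^ 4) = b ^ 4 := by
    intro b hb
    have hσb : σ b ≠ 0 := by simpa using hb
    have h := hcon (σ b / b) (div_ne_zero hσb hb) (by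
      rw [map_div₀, hss]; field_simp)
    rw [map_pow]
    rw [div_pow, div_eq_one_iff_eq (pow_ne_zero _ hb)] at h
    exact h
  have hcard := card_fixedSub_mul hne h2
  set q0 := Nat.card (fixedSub σ)
  let S : Finset F := Finset.univ.filter fun b => b ≠ 0
  let T : Finset F := Finset.univ.filter fun x => σ x = x ∧ x ≠ 0
  have hT : T.card + 1 = q0 := by
    have hins : insert (0 : F) T = Finset.univ.filter fun x => σ x = x := by
      ext x
      by_cases hx : x = 0 <;> simp [T, hx]
    have h0 : (0 : F) ∉ T := by simp [T]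
    rw [← Finset.card_insert_of_notMem h0, hins, ← Fintype.card_subtype, ← Nat.card_eq_fintype_card]
    rfl
  have hmap : Finset.card S ≤ 4 * T.card := by
    refine Finset.card_le_mul_card_image_of_maps_to (f := fun b : F => b ^ 4) (fun b hb => ?_) 4 ?_
    · have hb0 : b ≠ 0 := by simpa [S] using hb
      simpa [T, map_pow] using And.intro ((map_pow σ b 4).symm.trans (hfix b hb0)) hb0
    · intro y hy
      calc (S.filter fun b => b ^ 4 = y).card ≤ (Polynomial.nthRoots 4 y).toFinset.card := by
            refine Finset.card_le_card fun b hb => ?_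
            rw [Multiset.mem_toFinset, Polynomial.mem_nthRoots (by norm_num)]
            exact (Finset.mem_filter.1 hb).2
        _ ≤ 4 := (Multiset.toFinset_card_le _).trans (Polynomial.card_nthRoots _ _)
  have hS : S.card + 1 = Fintype.card F := by
    have : S = Finset.univ.erase 0 := by ext x; simp [S]
    rw [this, Finset.card_erase_of_mem (Finset.mem_univ _), Finset.card_univ]
    omega
  have h4 : 4 ≤ q0 := by nlinarith
  nlinarith

namespace Emb

variable (E : Emb G F)

/-- The image of the root group. -/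
def U : Subgroup (G ⧸ center G) := (E.ρ.comp uHom).range

/-- The image of the torus. -/
def T : Subgroup (G ⧸ center G) := (E.ρ.comp tHom).range

/-- Elements of the range commuting with `ρ(u(1))` lie in the root group. -/
theorem mem_U_of_commute {s : SL2} (h : E.ρ s * E.ρ (uU 1) = E.ρ (uU 1) * E.ρ s) : E.ρ s ∈ E.U := by
  have hdet := Lib.Linear.sl2_det s
  have hcom : ((uU 1 : SL2) : M2) * (s : M2) = (s : M2) * ((uU 1 : SL2) : M2) ∨
      ((uU 1 : SL2) : M2) * (s : M2) = -((s : M2) * ((uU 1 : SL2) : M2)) := E.commute_iff.1 h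
  have hs : (s : M2) 1 0 = 0 ∧ (s : M2) 0 0 = (s : M2) 1 1 := by
    rcases hcom with h | h
    · have e00 := congrFun (congrFun h 0) 0
      have e01 := congrFun (congrFun h 0) 1
      simp [uU, coe_mk2, Matrix.mul_apply, Fin.sum_univ_two] at e00 e01
      exact ⟨by linear_combination e00, by linear_combination -e01⟩
    · have e00 := congrFun (congrFun h 0) 0
      have e01 := congrFun (congrFun h 0) 1
      have e10 := congrFun (congrFun h 1) 0
      have e11 := congrFun (congrFun h 1) 1
      simp [uU, coe_mk2, Matrix.mul_apply, Fin.sum_univ_two] at e00 e01 e10 e11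
      have hc : (s : M2) 1 0 + (s : M2) 1 0 = 0 := by linear_combination e10
      by_cases h2 : (2 : F) = 0
      · refine ⟨?_, ?_⟩
        · linear_combination e00 - (s : M2) 0 0 * h2
        · linear_combination e01 - ((s : M2) 0 1 + (s : M2) 1 1) * h2
      · exfalso
        have hc0 : (s : M2) 1 0 = 0 :=
          (mul_eq_zero.1 (show (2 : F) * (s : M2) 1 0 = 0 by linear_combination hc)).resolve_left h2
        have ha0 : (s : M2) 0 0 = 0 :=
          (mul_eq_zero.1 (show (2 : F) * (s : M2) 0 0 = 0 by linear_combination e00 - hc0)).resolve_left h2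
        rw [ha0, hc0] at hdet
        simp at hdet
  rw [hs.1, hs.2] at hdet
  refine ⟨Multiplicative.ofAdd ((s : M2) 0 1 * (s : M2) 1 1), ?_⟩
  show E.ρ (uU ((s : M2) 0 1 * (s : M2) 1 1)) = E.ρ s
  rw [E.eq_iff]
  rcases mul_self_eq_one_iff.1 (show (s : M2) 1 1 * (s : M2) 1 1 = 1 by linear_combination hdet) with
    h1 | h1
  · left
    ext i j
    fin_cases i <;> fin_cases j <;> simp [uU, coe_mk2, hs.1, hs.2, h1]
  · right
    ext i j
    fin_cases i <;> fin_cases j <;> simp [uU, coe_mk2, hs.1, hs.2, h1]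

/-- Elements of the range commuting with a regular toral element lie in the torus. -/
theorem mem_T_of_commute {a : F} (ha : a ≠ 0) (h4 : a ^ 4 ≠ 1) {s : SL2}
    (h : E.ρ s * E.ρ (hT a ha) = E.ρ (hT a ha) * E.ρ s) : E.ρ s ∈ E.T := by
  have hdet := Lib.Linear.sl2_det s
  have hcom : ((hT a ha : SL2) : M2) * (s : M2) = (s : M2) * ((hT a ha : SL2) : M2) ∨
      ((hT a ha : SL2) : M2) * (s : M2) = -((s : M2) * ((hT a ha : SL2) : M2)) := E.commute_iff.1 h
  have hs : (s : M2) 0 1 = 0 ∧ (s : M2) 1 0 = 0 := by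
    rcases hcom with h | h
    · have e01 := congrFun (congrFun h 0) 1
      have e10 := congrFun (congrFun h 1) 0
      simp [hT, coe_mk2, Matrix.mul_apply, Fin.sum_univ_two] at e01 e10
      have hne : a - a⁻¹ ≠ 0 := fun e => h4 (by
        have : a * a = 1 := by
          have := congrArg (a * ·) e
          rw [mul_sub, mul_inv_cancel₀ ha, mul_zero] at this
          exact sub_eq_zero.1 this
        linear_combination (a * a + 1) * this)
      exact ⟨(mul_eq_zero.1 (show (a - a⁻¹) * (s : M2) 0 1 = 0 by linear_combination e01)).resolve_left hne,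
        (mul_eq_zero.1 (show (a - a⁻¹) * (s : M2) 1 0 = 0 by linear_combination -e10)).resolve_left hne⟩
    · have e01 := congrFun (congrFun h 0) 1
      have e10 := congrFun (congrFun h 1) 0
      simp [hT, coe_mk2, Matrix.mul_apply, Fin.sum_univ_two] at e01 e10
      have hne : a + a⁻¹ ≠ 0 := fun e => h4 (by
        have : a * a = -1 := by
          have := congrArg (a * ·) e
          rw [mul_add, mul_inv_cancel₀ ha, mul_zero] at this
          exact eq_neg_of_add_eq_zero_left this
        linear_combination (a * a - 1) * this)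
      exact ⟨(mul_eq_zero.1 (show (a + a⁻¹) * (s : M2) 0 1 = 0 by linear_combination e01)).resolve_left hne,
        (mul_eq_zero.1 (show (a + a⁻¹) * (s : M2) 1 0 = 0 by linear_combination e10)).resolve_left hne⟩
  rw [hs.1, hs.2] at hdet
  have h00 : (s : M2) 0 0 ≠ 0 := fun e => by rw [e] at hdet; simp at hdet
  refine ⟨Units.mk0 _ h00, ?_⟩
  show E.ρ (hT _ h00) = E.ρ s
  rw [E.eq_iff]
  left
  have h11 : ((s : M2) 0 0)⁻¹ = (s : M2) 1 1 :=
    inv_eq_of_mul_eq_one_right (by linear_combination hdet)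
  ext i j
  fin_cases i <;> fin_cases j <;> simp [hT, coe_mk2, hs.1, hs.2, h11]

end Emb

namespace Crit

variable [Finite G]

/-- If a proper subgroup of the quotient contains the centraliser of `qc y` properly, `C(y)` is abelian. -/
theorem commute_of_overgroup (hG : Crit G) {y : G} (hy : y ∉ center G) {H : Subgroup (G ⧸ center G)}
    (hH : H ≠ ⊤) (hle : centralizer ({qc G y} : Set (G ⧸ center G)) ≤ H)
    {n : G ⧸ center G} (hn : n ∈ H) (hny : n * qc G y ≠ qc G y * n)
    {a b : G} (ha : a * y = y * a) (hb : b * y = y * b) : a * b = b * a := by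
  by_contra hab
  have h := hG.eq_centralizer_of_le ⟨hy, a, b, ha, hb, hab⟩ hH hle
  exact hny (mem_centralizer_singleton_iff.1 (h ▸ hn))

/-- The centraliser of an element of a root or torus image normalises that image. -/
theorem centralizer_le_normalizer {E : Emb G F} {V : Subgroup (G ⧸ center G)} (hV : V ≤ E.ρ.range)
    {v : G ⧸ center G} (hvV : ∀ w ∈ V, w * v = v * w)
    (hchar : ∀ s : SL2, E.ρ s * v = v * E.ρ s → E.ρ s ∈ V) :
    centralizer ({v} : Set (G ⧸ center G)) ≤ normalizer (V : Set (G ⧸ center G)) := by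
  have key : ∀ x ∈ centralizer ({v} : Set (G ⧸ center G)), ∀ w ∈ V, x * w * x⁻¹ ∈ V := by
    intro x hx w hw
    obtain ⟨s, hs⟩ := E.normal.conj_mem w (hV hw) x
    rw [← hs]
    refine hchar s ?_
    rw [hs]
    have hx' := mem_centralizer_singleton_iff.1 hx
    calc x * w * x⁻¹ * v = x * w * (x⁻¹ * (v * x)) * x⁻¹ := by group
      _ = x * (w * v) * x⁻¹ := by rw [← hx']; group
      _ = x * (v * w) * x⁻¹ := by rw [hvV w hw]
      _ = (x * v) * w * x⁻¹ := by group
      _ = v * (x * w * x⁻¹) := by rw [hx']; group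
  intro x hx
  rw [mem_normalizer_iff]
  intro w
  refine ⟨fun hw => key x hx w hw, fun hw => ?_⟩
  have := key x⁻¹ (inv_mem hx) _ hw
  rwa [show x⁻¹ * (x * w * x⁻¹) * x⁻¹⁻¹ = w by group] at this

/-- Normalisers of non-trivial abelian subgroups of the quotient are proper. -/
theorem normalizer_ne_top_of_comm (hG : Crit G) {V : Subgroup (G ⧸ center G)}
    (hc : ∀ a ∈ V, ∀ b ∈ V, a * b = b * a) (hne : V ≠ ⊥) :
    normalizer (V : Set (G ⧸ center G)) ≠ ⊤ := by
  intro h
  haveI := normalizer_eq_top_iff.1 h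
  exact hne (hG.eq_bot_of_normal_solvable V
    (Group.isSolvable_of_comm fun a b => Subtype.ext (hc a a.2 b b.2)))

theorem abelian_centralizer_uU [Fintype F] (hG : Crit G) (E : Emb G F) (hq : 4 ≤ Fintype.card F) {y : G}
    (hy : qc G y = E.ρ (uU 1)) {a b : G} (ha : a * y = y * a) (hb : b * y = y * b) : a * b = b * a := by
  have hne1 : E.ρ (uU 1) ≠ 1 := by
    rw [Ne, E.eq_one_iff]
    rintro (h | h)
    · simpa [uU, coe_mk2] using congrFun (congrFun h 0) 1
    · simpa [uU, coe_mk2] using congrFun (congrFun h 0) 1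
  have hU1 : E.ρ (uU 1) ∈ E.U := ⟨Multiplicative.ofAdd 1, rfl⟩
  have hUc : ∀ p ∈ E.U, ∀ r ∈ E.U, p * r = r * p := by
    rintro _ ⟨s, rfl⟩ _ ⟨t, rfl⟩
    rw [← map_mul, ← map_mul, mul_comm]
  obtain ⟨k, hk, hk2⟩ := exists_unit_of_card (F := F) (m := 2) (by omega) (by norm_num)
  refine hG.commute_of_overgroup (y := y) (fun h => hne1 (hy ▸ qc_eq_one.2 h))
    (H := normalizer (E.U : Set (G ⧸ center G))) (hG.normalizer_ne_top_of_comm hUc
      fun h => hne1 (mem_bot.1 (h ▸ hU1))) ?_ (n := E.ρ (hT k hk)) ?_ ?_ ha hb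
  · rw [hy]
    refine centralizer_le_normalizer (E := E) ?_ (fun w hw => hUc w hw _ hU1)
      fun s hs => E.mem_U_of_commute hs
    rintro _ ⟨t, rfl⟩
    exact ⟨_, rfl⟩
  · rw [mem_normalizer_iff]
    intro x
    have key : ∀ (c : F) (hc : c ≠ 0) (t : F),
        hT c hc * uU t * (hT c hc)⁻¹ = (uU (c * c * t) : SL2) := by
      intro c hc t
      rw [mul_inv_eq_iff_eq_mul]
      refine Subtype.ext ?_
      ext i j
      fin_cases i <;> fin_cases j <;>
        simp [hT, uU, coe_mk2, Matrix.mul_apply, Fin.sum_univ_two] <;> field_simp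
    constructor
    · rintro ⟨t, rfl⟩
      refine ⟨Multiplicative.ofAdd (k * k * t.toAdd), ?_⟩
      show E.ρ (uU (k * k * t.toAdd)) = _
      rw [← key k hk, map_mul, map_mul, map_inv]
      rfl
    · rintro ⟨t, ht⟩
      refine ⟨Multiplicative.ofAdd ((k * k)⁻¹ * t.toAdd), ?_⟩
      show E.ρ (uU ((k * k)⁻¹ * t.toAdd)) = x
      apply mul_left_cancel (a := E.ρ (hT k hk))
      apply mul_right_cancel (b := (E.ρ (hT k hk))⁻¹)
      rw [← ht, ← map_inv, ← map_mul, ← map_mul, key k hk, mul_inv_cancel_left₀ (mul_ne_zero hk hk)]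
      rfl
  · rw [hy, Ne, E.commute_iff]
    rintro (h | h)
    · have := congrFun (congrFun h 0) 1
      simp [hT, uU, coe_mk2, Matrix.mul_apply, Fin.sum_univ_two] at this
      field_simp at this
      exact hk2 (by linear_combination (-1 : F) * this)
    · have h0 := congrFun (congrFun h 0) 0
      have := congrFun (congrFun h 0) 1
      simp [hT, uU, coe_mk2, Matrix.mul_apply, Fin.sum_univ_two] at this h0
      field_simp at this
      have h20 : (2 : F) = 0 :=
        (mul_eq_zero.1 (show (2 : F) * k = 0 by linear_combination h0)).resolve_right hk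
      exact hk2 (by linear_combination this - h20)

theorem abelian_centralizer_hT (hG : Crit G) (E : Emb G F) {c : F} (hc : c ≠ 0) (h4 : c ^ 4 ≠ 1) {y : G}
    (hy : qc G y = E.ρ (hT c hc)) {a b : G} (ha : a * y = y * a) (hb : b * y = y * b) : a * b = b * a := by
  have hne1 : E.ρ (hT c hc) ≠ 1 := by
    rw [Ne, E.eq_one_iff]
    rintro (h | h)
    · have : c = 1 := by simpa [hT, coe_mk2] using congrFun (congrFun h 0) 0
      exact h4 (by rw [this, one_pow])
    · have : c = -1 := by simpa [hT, coe_mk2] using congrFun (congrFun h 0) 0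
      exact h4 (by rw [this]; norm_num)
  have hT1 : E.ρ (hT c hc) ∈ E.T := ⟨Units.mk0 c hc, rfl⟩
  have hTc : ∀ p ∈ E.T, ∀ r ∈ E.T, p * r = r * p := by
    rintro _ ⟨s, rfl⟩ _ ⟨t, rfl⟩
    rw [← map_mul, ← map_mul, mul_comm]
  have key : ∀ t : Fˣ, (wW : SL2) * tHom t * wW⁻¹ = tHom t⁻¹ := by
    intro t
    rw [mul_inv_eq_iff_eq_mul]
    refine Subtype.ext ?_
    ext i j
    fin_cases i <;> fin_cases j <;> simp [tHom, hT, wW, coe_mk2, Matrix.mul_apply, Fin.sum_univ_two]
  refine hG.commute_of_overgroup (y := y) (fun h => hne1 (hy ▸ qc_eq_one.2 h))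
    (H := normalizer (E.T : Set (G ⧸ center G))) (hG.normalizer_ne_top_of_comm hTc
      fun h => hne1 (mem_bot.1 (h ▸ hT1))) ?_ (n := E.ρ wW) ?_ ?_ ha hb
  · rw [hy]
    refine centralizer_le_normalizer (E := E) ?_ (fun w hw => hTc w hw _ hT1)
      fun s hs => E.mem_T_of_commute hc h4 hs
    rintro _ ⟨t, rfl⟩
    exact ⟨_, rfl⟩
  · rw [mem_normalizer_iff]
    intro x
    constructor
    · rintro ⟨t, rfl⟩
      refine ⟨t⁻¹, ?_⟩
      show E.ρ (tHom t⁻¹) = _
      rw [← key, map_mul, map_mul, map_inv]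
      rfl
    · rintro ⟨t, ht⟩
      refine ⟨t⁻¹, ?_⟩
      apply mul_left_cancel (a := E.ρ wW)
      apply mul_right_cancel (b := (E.ρ wW)⁻¹)
      rw [← ht]
      show E.ρ wW * E.ρ (tHom t⁻¹) * (E.ρ wW)⁻¹ = E.ρ (tHom t)
      rw [← map_inv, ← map_mul, ← map_mul, key, inv_inv]
  · rw [hy, Ne, E.commute_iff]
    rintro (h | h)
    · have := congrFun (congrFun h 0) 1
      simp [hT, wW, coe_mk2, Matrix.mul_apply, Fin.sum_univ_two] at this
      field_simp at this
      exact h4 (by linear_combination (c ^ 2 + 1) * this)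
    · have := congrFun (congrFun h 0) 1
      simp [hT, wW, coe_mk2, Matrix.mul_apply, Fin.sum_univ_two] at this
      field_simp at this
      exact h4 (by linear_combination (c ^ 2 - 1) * this)

end Crit

end Cfsg.Agent.Lib.MinNonCA23
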