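import Cfsg.Agent.Lib.MinNonCA23.FieldNine

/-!
# Minimal non-CA-groups: witnesses are involutions modulo the centre

A witness whose class has non-zero trace would have its centraliser normalised by an element moving it.
Dihedral Sylow groups have no witness involution.  Owner: helper23.
-/

set_option autoImplicit false
set_option linter.style.haveILetI false

open Subgroup Matrix

namespace Cfsg.Agent.Lib.MinNonCA23

universe u

variable {G : Type u} [Group G]

/-- Witnesses are invariant under conjugation and central translation. -/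
theorem Witness.of_qc {x y g : G} (hx : Witness x) (h : qc G y = qc G g * qc G x * (qc G g)⁻¹) :
    Witness y := by
  obtain ⟨hxc, a, b, ha, hb, hab⟩ := hx
  rw [← qc_conj] at h
  obtain ⟨c, hc, rfl⟩ : ∃ c ∈ center G, y = g * x * g⁻¹ * c :=
    ⟨(g * x * g⁻¹)⁻¹ * y, qc_eq_iff.1 h.symm, (mul_inv_cancel_left _ _).symm⟩
  have key : ∀ a, a * x = x * a →
      g * a * g⁻¹ * (g * x * g⁻¹ * c) = g * x * g⁻¹ * c * (g * a * g⁻¹) := by
    intro a ha
    rw [← mul_assoc, mul_assoc (g * x * g⁻¹) c, ← mem_center_iff.1 hc (g * a * g⁻¹),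
      ← mul_assoc (g * x * g⁻¹), show g * a * g⁻¹ * (g * x * g⁻¹) = g * (a * x) * g⁻¹ by group, ha]
    group
  refine ⟨fun h => hxc ?_, g * a * g⁻¹, g * b * g⁻¹, key a ha, key b hb, fun h => hab ?_⟩
  · have h1 : g * x * g⁻¹ ∈ center G := by simpa using mul_mem h (inv_mem hc)
    exact of_conj_center h1
  · rw [show g * a * g⁻¹ * (g * b * g⁻¹) = g * (a * b) * g⁻¹ by group,
      show g * b * g⁻¹ * (g * a * g⁻¹) = g * (b * a) * g⁻¹ by group] at h
    exact mul_left_cancel (mul_right_cancel h)

variable {F : Type} [Field F]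

local notation "SL2" => Matrix.SpecialLinearGroup (Fin 2) F
local notation "M2" => Matrix (Fin 2) (Fin 2) F

theorem map_one_GL (M : GL (Fin 2) F) : GeneralLinearGroup.map (1 : F ≃+* F).toRingHom M = M :=
  Units.ext (by ext i j; rfl)

namespace Emb

variable {E : Emb G F}

theorem Acts.mul_one' {x y : G ⧸ center G} {M N : GL (Fin 2) F} (hx : E.Acts x M 1) (hy : E.Acts y N 1) :
    E.Acts (x * y) (M * N) 1 := by
  have h := hx.mul hy
  rwa [map_one_GL, one_mul] at h

/-- Commuting elements act by matrices commuting up to a scalar; conversely. -/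
theorem Acts.exists_scalar {x y : G ⧸ center G} {M N : GL (Fin 2) F} (hx : E.Acts x M 1)
    (hy : E.Acts y N 1) (h : x * y = y * x) :
    ∃ c : F, (N : M2) * (M : M2) = c • ((M : M2) * (N : M2)) := by
  have h1 := hx.mul_one' hy
  rw [h] at h1
  obtain ⟨-, c, hc⟩ := E.acts_unique h1 (hy.mul_one' hx)
  exact ⟨c, by rwa [Units.val_mul, Units.val_mul] at hc⟩

theorem Acts.commute_of_scalar {x y : G ⧸ center G} {M N : GL (Fin 2) F} (hx : E.Acts x M 1)
    (hy : E.Acts y N 1) {c : F} (h : (N : M2) * (M : M2) = c • ((M : M2) * (N : M2))) : x * y = y * x :=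
  E.eq_of_acts ((hx.mul_one' hy).congr (M' := N * M) (by rw [Units.val_mul, Units.val_mul]; exact h))
    (hy.mul_one' hx)

end Emb

namespace Crit

variable [Finite G]

/-- The centraliser of a witness is not sent to itself by an element moving the witness. -/
theorem not_moved (hG : Crit G) {x : G} (hx : Witness x) {n : G ⧸ center G}
    (hle : centralizer ({qc G x} : Set (G ⧸ center G)) ≤ centralizer ({n * qc G x * n⁻¹} : Set (G ⧸ center G)))
    (hne : n * qc G x ≠ qc G x * n) : False := by
  set x₀ := qc G x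
  set C := centralizer ({x₀} : Set (G ⧸ center G)) with hC
  have hx1 : x₀ ≠ 1 := fun h => hx.1 (qc_eq_one.1 h)
  have hne1 : centralizer ({n * x₀ * n⁻¹} : Set (G ⧸ center G)) ≠ ⊤ := by
    intro h
    have hc : n * x₀ * n⁻¹ ∈ center (G ⧸ center G) := mem_center_iff.2 fun y =>
      mem_centralizer_singleton_iff.1 (h ▸ mem_top y)
    rw [hG.center_quotient, mem_bot, conj_eq_one_iff] at hc
    exact hx1 hc
  have heq := hG.eq_centralizer_of_le hx hne1 hle
  have hiff : ∀ z, z ∈ C ↔ n * z * n⁻¹ ∈ C := by
    intro z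
    rw [hC]
    conv_rhs => rw [← heq]
    rw [mem_centralizer_singleton_iff, mem_centralizer_singleton_iff]
    constructor
    · exact fun h => conj_commute h
    · exact fun h => of_conj_commute h
  have hn : n ∈ normalizer (C : Set (G ⧸ center G)) := mem_normalizer_iff.2 hiff
  by_cases htop : normalizer (C : Set (G ⧸ center G)) = ⊤
  · haveI := normalizer_eq_top_iff.1 htop
    have hxC : x₀ ∈ C := mem_centralizer_singleton_iff.2 rfl
    have h := hG.centralizer_normal C fun e => hx1 (mem_bot.1 (e ▸ hxC))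
    apply hx1
    have hx2 : x₀ ∈ centralizer (C : Set (G ⧸ center G)) := mem_centralizer_iff.2 fun y hy =>
      mem_centralizer_singleton_iff.1 hy
    rwa [h, mem_bot] at hx2
  · exact hne (mem_centralizer_singleton_iff.1 (hG.eq_centralizer_of_le hx htop le_normalizer ▸ hn))

/-- Witnesses are involutions modulo the centre and the characteristic is odd. -/
theorem witness_invol [Fintype F] (hG : Crit G) (E : Emb G F) (hq : 4 ≤ Fintype.card F)
    (hfp : ∀ x : G ⧸ center G, ∃ M : GL (Fin 2) F, E.Acts x M 1) {x : G} (hx : Witness x) :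
    (2 : F) ≠ 0 ∧ qc G x * qc G x = 1 := by
  obtain ⟨M, hM⟩ := hfp (qc G x)
  have hns : ∀ a : F, (M : M2) ≠ a • (1 : M2) := fun a h => hx.1 (qc_eq_one.1 (by
    rw [E.eq_rho hM (b := a) (s := 1) (by simpa using h), map_one]))
  have hd : (M : M2).det ≠ 0 := ((Matrix.isUnit_iff_isUnit_det _).1 M.isUnit).ne_zero
  by_cases hc : (M : M2) 0 0 + (M : M2) 1 1 ≠ 0 ∨ (2 : F) = 0
  · exfalso
    obtain ⟨n, u, v, -, hn, hnμ⟩ := MinNonCA23.exists_moving hq (M : M2) hd hns hc
    refine hG.not_moved hx (n := E.ρ n) (fun y hy => ?_) ?_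
    · rw [mem_centralizer_singleton_iff] at hy ⊢
      obtain ⟨N, hN⟩ := hfp y
      obtain ⟨c, hcc⟩ := hM.exists_scalar hN hy.symm
      have hNd : (N : M2).det ≠ 0 := ((Matrix.isUnit_iff_isUnit_det _).1 N.isUnit).ne_zero
      have hc2 : c * c = 1 := by
        have h := congrArg Matrix.det hcc
        rw [det_smul, det_mul, det_mul, Fintype.card_fin] at h
        exact mul_right_cancel₀ (mul_ne_zero hd hNd) (by linear_combination -h)
      have hc1 : c = 1 := by
        by_cases hnμ' : (2 : F) = 0
        · rcases mul_self_eq_one_iff.1 hc2 with h | h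
          · exact h
          · rw [h]; linear_combination -hnμ'
        rcases mul_self_eq_one_iff.1 hc2 with h | h
        · exact h
        rcases hc with hc | hc
        · exfalso
          have h1 : Matrix.trace ((N : M2) * (M : M2) * ((N⁻¹ : GL (Fin 2) F) : M2)) =
              c * Matrix.trace (M : M2) := by
            rw [hcc, Matrix.smul_mul, Matrix.mul_assoc, Units.mul_inv, Matrix.mul_one, Matrix.trace_smul]
            rfl
          rw [Matrix.trace_units_conj, Matrix.trace_fin_two, h] at h1
          have h2 : (2 : F) * ((M : M2) 0 0 + (M : M2) 1 1) = 0 := by linear_combination h1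
          rcases mul_eq_zero.1 h2 with h2 | h2
          · exact hnμ' h2
          · exact hc h2
        · rw [h]; linear_combination -hc
      rw [hc1, one_smul] at hcc
      have hM1 : E.Acts (E.ρ n * qc G x * (E.ρ n)⁻¹)
          (Matrix.SpecialLinearGroup.toGL n * M * Matrix.SpecialLinearGroup.toGL n⁻¹) 1 := by
        rw [← map_inv]
        exact ((E.acts_rho n).mul_one' hM).mul_one' (E.acts_rho n⁻¹)
      refine hN.commute_of_scalar hM1 (c := 1) ?_
      have hcoe : ((Matrix.SpecialLinearGroup.toGL n * M * Matrix.SpecialLinearGroup.toGL n⁻¹ :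
          GL (Fin 2) F) : M2) = u • (1 : M2) + v • (M : M2) := by
        rw [Units.val_mul, Units.val_mul]
        show (n : M2) * (M : M2) * ((n⁻¹ : SL2) : M2) = _
        rw [hn, Matrix.mul_assoc, ← Matrix.SpecialLinearGroup.coe_mul, mul_inv_cancel,
          Matrix.SpecialLinearGroup.coe_one, Matrix.mul_one]
      rw [one_smul, hcoe, Matrix.add_mul, Matrix.mul_add, Matrix.smul_mul, Matrix.smul_mul,
        Matrix.mul_smul, Matrix.mul_smul, Matrix.one_mul, Matrix.mul_one, hcc]
    · intro h
      rcases hM.commute_cases h.symm with h | h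
      · exact hnμ 1 (by rw [one_smul, h])
      · exact hnμ (-1) (by rw [neg_one_smul, h, neg_neg])
  · push Not at hc
    refine ⟨hc.2, ?_⟩
    have h : ((M * M : GL (Fin 2) F) : M2) = (-(M : M2).det) • ((1 : SL2) : M2) := by
      rw [Units.val_mul, Matrix.SpecialLinearGroup.coe_one, Matrix.det_fin_two]
      ext i j
      fin_cases i <;> fin_cases j <;> simp [Matrix.mul_apply, Fin.sum_univ_two] <;>
        first
          | linear_combination (M : M2) 0 0 * hc.1
          | linear_combination (M : M2) 0 1 * hc.1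
          | linear_combination (M : M2) 1 0 * hc.1
          | linear_combination (M : M2) 1 1 * hc.1
    rw [E.eq_rho (hM.mul_one' hM) h, map_one]

/-- A witness involution gives a witness in a given Sylow `2`-subgroup. -/
theorem exists_witness_mem (P : Sylow 2 G) {x : G} (hx : Witness x) (h2 : qc G x * qc G x = 1) :
    ∃ a ∈ P, Witness a ∧ a * a ∈ center G := by
  haveI : Fact (Nat.Prime 2) := ⟨Nat.prime_two⟩
  obtain ⟨c, -, hc⟩ := exists_conj_into (P.mapSurjective (qc_surjective (G := G))) (C := ⊤) le_top le_top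
    (isPGroup_of_invol h2)
  obtain ⟨a, ha, hae⟩ := mem_map.1 (hc _ (mem_zpowers (qc G x)))
  obtain ⟨g, rfl⟩ := qc_surjective c
  refine ⟨a, ha, hx.of_qc hae, qc_pow_two.1 ?_⟩
  rw [hae, show qc G g * qc G x * (qc G g)⁻¹ * (qc G g * qc G x * (qc G g)⁻¹) =
    qc G g * (qc G x * qc G x) * (qc G g)⁻¹ by group, h2, mul_one, mul_inv_cancel]

/-- With dihedral data no witness is an involution modulo the centre. -/
theorem data_absurd (hG : Crit G) {P : Sylow 2 G} {z : G} (d : Data P z) {x : G} (hx : Witness x)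
    (h2 : qc G x * qc G x = 1) : False := by
  obtain ⟨a, ha, haw, ha2⟩ := exists_witness_mem P hx h2
  have haz : a * z = z * a := (hG.commute_of_qc haw (d.central a ha).symm).symm
  have he := hG.unique_invol d ha haz ha2 haw.1
  obtain ⟨s, hs, hsz⟩ := d.out
  have hsa : s * a = a * s := hG.commute_of_qc haw (by rw [he]; exact d.central s hs)
  have hc : a⁻¹ * z ∈ center G := qc_eq_iff.1 he
  apply hsz
  calc s * z = s * a * (a⁻¹ * z) := by group
    _ = a * (s * (a⁻¹ * z)) := by rw [hsa, mul_assoc]
    _ = a * ((a⁻¹ * z) * s) := by rw [mem_center_iff.1 hc s]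
    _ = z * s := by group

/-- With abelian Sylow images a witness involution forces abelian Sylow groups. -/
theorem sylow_comm (hG : Crit G) (P : Sylow 2 G)
    (hcomm : ∀ p ∈ P, ∀ r ∈ P, qc G p * qc G r = qc G r * qc G p) {x : G} (hx : Witness x)
    (h2 : qc G x * qc G x = 1) : ∀ a ∈ P, ∀ b ∈ P, a * b = b * a := by
  by_contra h
  push Not at h
  obtain ⟨a, ha, haw, -⟩ := exists_witness_mem P hx h2
  exact haw.1 (hG.center_le P h ha fun p hp => hG.commute_of_qc haw (hcomm p hp a ha))

/-- Elements generating a `2`-group modulo the centre commute. -/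
theorem commute_of_pgroup (P : Sylow 2 G) (hP : ∀ a ∈ P, ∀ b ∈ P, a * b = b * a)
    {X : Subgroup (G ⧸ center G)} (hX : IsPGroup 2 X) {a b : G} (ha : qc G a ∈ X) (hb : qc G b ∈ X) :
    a * b = b * a := by
  haveI : Fact (Nat.Prime 2) := ⟨Nat.prime_two⟩
  obtain ⟨c, -, hc⟩ := exists_conj_into (P.mapSurjective (qc_surjective (G := G))) (C := ⊤) le_top le_top hX
  obtain ⟨g, rfl⟩ := qc_surjective c
  obtain ⟨p, hp, hpe⟩ := mem_map.1 (hc _ ha)
  obtain ⟨r, hr, hre⟩ := mem_map.1 (hc _ hb)
  rw [← qc_conj] at hpe hre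
  have h1 : Commute (g * a * g⁻¹) (g * b * g⁻¹) := by
    rw [show g * a * g⁻¹ = p * (p⁻¹ * (g * a * g⁻¹)) by group,
      show g * b * g⁻¹ = r * (r⁻¹ * (g * b * g⁻¹)) by group]
    have c1 := qc_eq_iff.1 hpe
    have c2 := qc_eq_iff.1 hre
    exact (Commute.mul_left (Commute.mul_right (hP p hp r hr) (comm_of_center c2 p))
      (Commute.mul_right (comm_of_center c1 r).symm (comm_of_center c2 _)))
  exact of_conj_commute h1.eq

end Crit

end Cfsg.Agent.Lib.MinNonCA23
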